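import Cfsg.Agent.H65.Conway.O4

/-!
Homomorphisms from the alternating group of degree five, and the vanishing of cocycles with values in
the elliptic space of dimension four.
-/

set_option autoImplicit false

namespace H65.Conway

local notation "A5" => alternatingGroup (Fin 5)

theorem a5_simple : IsSimpleGroup A5 :=
  alternatingGroup.isSimpleGroup (α := Fin 5) (by rw [Nat.card_eq_fintype_card, Fintype.card_fin])

theorem card_a5 : Nat.card A5 = 60 := by
  rw [Nat.card_eq_fintype_card, card_alternatingGroup, Fintype.card_fin]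
  decide

theorem a5_noncomm : ∃ a b : A5, a * b ≠ b * a := by decide +kernel

/-- A homomorphism into an abelian group is trivial. -/
theorem hom_trivial {A : Type*} [CommGroup A] (f : A5 →* A) (a : A5) : f a = 1 := by
  haveI := a5_simple
  rcases IsSimpleGroup.eq_bot_or_eq_top_of_normal f.ker inferInstance with h | h
  · obtain ⟨x, y, hxy⟩ := a5_noncomm
    exact absurd ((MonoidHom.ker_eq_bot_iff f).mp h (by rw [map_mul, map_mul, mul_comm])) hxy
  · exact MonoidHom.mem_ker.mp (h ▸ Subgroup.mem_top a)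

/-- A map that is multiplicative and has commuting values is trivial. -/
theorem hom_trivial' {M : Type*} [Group M] (f : A5 →* M) (h : ∀ a b, f a * f b = f b * f a)
    (a : A5) : f a = 1 := by
  letI : CommGroup f.range :=
    { (inferInstance : Group f.range) with
      mul_comm := by
        rintro ⟨_, x, rfl⟩ ⟨_, y, rfl⟩
        exact Subtype.ext (h x y) }
  exact congrArg Subtype.val (hom_trivial f.rangeRestrict a)

/-- A subgroup with elements of order two, three and five is everything. -/
theorem a5_eq_top {K : Subgroup A5} {a b c : A5} (ha : a ∈ K) (hb : b ∈ K) (hc : c ∈ K)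
    (ha2 : orderOf a = 2) (hb3 : orderOf b = 3) (hc5 : orderOf c = 5) : K = ⊤ := by
  have d : ∀ x ∈ K, orderOf x ∣ Nat.card K := fun x hx => by
    have := orderOf_dvd_natCard (⟨x, hx⟩ : K)
    rwa [Subgroup.orderOf_mk] at this
  have h2 := d a ha
  have h3 := d b hb
  have h5 := d c hc
  rw [ha2] at h2
  rw [hb3] at h3
  rw [hc5] at h5
  have h30 : 30 ∣ Nat.card K := by omega
  have hmul := K.card_mul_index
  rw [card_a5] at hmul
  obtain ⟨m, hm⟩ := h30
  have hidx : K.index = 1 ∨ K.index = 2 := by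
    rw [hm, mul_assoc] at hmul
    have h' : m * K.index = 2 := by omega
    exact (Nat.dvd_prime Nat.prime_two).mp ⟨m, by rw [mul_comm, h']⟩
  rcases hidx with h | h
  · exact Subgroup.index_eq_one.mp h
  · haveI := Subgroup.normal_of_index_eq_two h
    haveI := a5_simple
    rcases IsSimpleGroup.eq_bot_or_eq_top_of_normal K inferInstance with e | e
    · rw [e, Subgroup.index_bot, card_a5] at h; omega
    · exact e

/-- An injective homomorphism into permutations of five letters maps onto the even ones. -/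
theorem exists_preimage (π : A5 →* Equiv.Perm (Fin 5)) (hπ : Function.Injective π)
    {σ : Equiv.Perm (Fin 5)} (hσ : Equiv.Perm.sign σ = 1) : ∃ a, π a = σ := by
  have hs : ∀ a, Equiv.Perm.sign (π a) = 1 := fun a => hom_trivial (Equiv.Perm.sign.comp π) a
  let f : A5 → A5 := fun a => ⟨π a, Equiv.Perm.mem_alternatingGroup.mpr (hs a)⟩
  have hf : Function.Injective f := fun a b e => hπ (congrArg Subtype.val e)
  obtain ⟨a, ha⟩ := (Finite.injective_iff_surjective.mp hf) ⟨σ, Equiv.Perm.mem_alternatingGroup.mpr hσ⟩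
  exact ⟨a, congrArg Subtype.val ha⟩

/-- A cocycle vanishing on an element of order five vanishes. -/
theorem cocycle_vanish (π : A5 →* Equiv.Perm (Fin 5)) (hπ : Function.Injective π) (D : A5 → V4)
    (hD : ∀ a b, D (a * b) = D a + act (π a) (D b)) {a₀ : A5} (h5 : a₀ ^ 5 = 1) (h1 : a₀ ≠ 1)
    (h0 : D a₀ = 0) : ∀ a, D a = 0 := by
  have hone : D 1 = 0 := by
    have h := hD 1 1
    rw [mul_one, map_one, act_one] at h
    exact left_eq_add.mp h
  have hσ5 : π a₀ ^ 5 = 1 := by rw [← map_pow, h5, map_one]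
  have hσ1 : π a₀ ≠ 1 := fun e => h1 (hπ (e.trans (map_one π).symm))
  obtain ⟨s, hs, hs2, hs1, hc3, hc1, hkey⟩ := five_cocycle (π a₀) hσ5 hσ1
  obtain ⟨a₁, rfl⟩ := exists_preimage π hπ hs
  have hv : D a₁ = 0 := by
    refine hkey _ ?_ ?_
    · have := hD a₁ a₁
      rw [show a₁ * a₁ = 1 from hπ (by rw [map_mul, hs2, map_one]), hone] at this
      rw [add_comm]; exact this.symm
    · have hc : D (a₀ * a₁) = act (π a₀) (D a₁) := by rw [hD, h0, zero_add]
      have e3 : (a₀ * a₁) * ((a₀ * a₁) * (a₀ * a₁)) = 1 := hπ (by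
        simp only [map_mul, map_one]
        rw [← hc3]
        simp only [pow_succ, pow_zero, one_mul, mul_assoc])
      have gen : ∀ x : A5, x * (x * x) = 1 →
          D x + act (π x) (D x + act (π x) (D x)) = 0 := fun x hx => by
        rw [← hD, ← hD, hx, hone]
      have h := gen _ e3
      rw [hc, map_mul, map_add, ← add_assoc] at h
      exact h
  let K : Subgroup A5 :=
    { carrier := {a | D a = 0}
      one_mem' := hone
      mul_mem' := fun {a b} ha hb => by
        show D (a * b) = 0
        rw [hD, show D a = 0 from ha, show D b = 0 from hb, map_zero, add_zero]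
      inv_mem' := fun {a} ha => by
        show D a⁻¹ = 0
        have h := hD a⁻¹ a
        rw [inv_mul_cancel, hone, show D a = 0 from ha, map_zero, add_zero] at h
        exact h.symm }
  have hK : K = ⊤ := by
    have hm0 : a₀ ∈ K := h0
    have hm1 : a₁ ∈ K := hv
    refine a5_eq_top hm1 (mul_mem hm0 hm1) hm0 ?_ ?_ ?_
    · exact orderOf_eq_prime (hp := ⟨Nat.prime_two⟩) (hπ (by rw [map_pow, pow_two, hs2, map_one]))
        fun e => hs1 (by rw [e, map_one])
    · exact orderOf_eq_prime (hp := ⟨Nat.prime_three⟩) (hπ (by rw [map_pow, map_mul, hc3, map_one]))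
        fun e => hc1 (by rw [← map_mul, e, map_one])
    · exact orderOf_eq_prime (hp := ⟨by norm_num⟩) h5 h1
  exact fun a => (hK ▸ Subgroup.mem_top a : a ∈ K)

set_option synthInstance.maxSize 512 in
/-- Involutions completing a five-cycle are permuted by it. -/
theorem five_partner : ∀ σ : Equiv.Perm (Fin 5), σ ^ 5 = 1 → σ ≠ 1 → ∀ s : Equiv.Perm (Fin 5),
    Equiv.Perm.sign s = 1 → s * s = 1 → s ≠ 1 → (σ * s) ^ 3 = 1 →
      ∀ t : Equiv.Perm (Fin 5), Equiv.Perm.sign t = 1 → t * t = 1 → t ≠ 1 → (σ * t) ^ 3 = 1 →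
        ∃ k : Fin 5, t = σ ^ (k : ℕ) * s * (σ ^ (k : ℕ))⁻¹ := by
  decide +kernel

/-- An automorphism fixing an element of order five is conjugation by a power of it. -/
theorem aut_fix_five (π : A5 →* A5) (hπ : Function.Injective π) {a₀ : A5} (h5 : a₀ ^ 5 = 1)
    (h1 : a₀ ≠ 1) (h0 : π a₀ = a₀) : ∃ k : ℕ, ∀ a, π a = a₀ ^ k * a * (a₀ ^ k)⁻¹ := by
  have h5' : (a₀ : Equiv.Perm (Fin 5)) ^ 5 = 1 := congrArg Subtype.val h5
  have h1' : (a₀ : Equiv.Perm (Fin 5)) ≠ 1 := fun e => h1 (Subtype.ext e)
  obtain ⟨s, hs, hs2, hs1, hc3, hc1, -⟩ := five_cocycle _ h5' h1'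
  let sa : A5 := ⟨s, Equiv.Perm.mem_alternatingGroup.mpr hs⟩
  have hsa : sa * sa = 1 := Subtype.ext hs2
  have hca : (a₀ * sa) ^ 3 = 1 := Subtype.ext hc3
  have hne : π sa ≠ 1 := fun e => hs1 (congrArg Subtype.val (hπ (e.trans (map_one π).symm)))
  obtain ⟨k, hk⟩ := five_partner _ h5' h1' s hs hs2 hs1 hc3 (π sa : Equiv.Perm (Fin 5))
    (Equiv.Perm.mem_alternatingGroup.mp (π sa).2)
    (congrArg Subtype.val (show π sa * π sa = 1 by rw [← map_mul, hsa, map_one]))
    (fun e => hne (Subtype.ext e))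
    (by
      have : (a₀ * π sa) ^ 3 = 1 := by rw [← h0, ← map_mul, ← map_pow, hca, map_one]
      exact congrArg Subtype.val this)
  refine ⟨k, ?_⟩
  let K : Subgroup A5 :=
    { carrier := {a | π a = a₀ ^ (k : ℕ) * a * (a₀ ^ (k : ℕ))⁻¹}
      one_mem' := by show π 1 = _; rw [map_one]; group
      mul_mem' := fun {a b} ha hb => by
        show π (a * b) = _
        rw [map_mul, show π a = _ from ha, show π b = _ from hb]; group
      inv_mem' := fun {a} ha => by
        show π a⁻¹ = _
        rw [map_inv, show π a = _ from ha]; group }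
  have hm0 : a₀ ∈ K := by
    show π a₀ = _
    rw [h0, ← (Commute.pow_self a₀ (k : ℕ)).eq.symm.trans rfl]
    group
  have hm1 : sa ∈ K := Subtype.ext hk
  have hK : K = ⊤ := by
    refine a5_eq_top hm1 (mul_mem hm0 hm1) hm0 ?_ ?_ ?_
    · exact orderOf_eq_prime (hp := ⟨Nat.prime_two⟩) (by rw [pow_two]; exact hsa)
        fun e => hs1 (congrArg Subtype.val e)
    · exact orderOf_eq_prime (hp := ⟨Nat.prime_three⟩) hca fun e => hc1 (congrArg Subtype.val e)
    · exact orderOf_eq_prime (hp := ⟨by norm_num⟩) h5 h1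
  exact fun a => (hK ▸ Subgroup.mem_top a : a ∈ K)

end H65.Conway
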