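import Cfsg.Agent.H65.Conway.O4
import Cfsg.Agent.H44.Omega
import Cfsg.Agent.H43.Omega
import Cfsg.Agent.H38.StdForms
import Cfsg.Prelude.Def_Classical

/-!
The hyperbolic quadratic space of dimension eight over two elements as an orthogonal sum of two
elliptic spaces of dimension four, and the parity of pairs of isometries of the summands.
-/

set_option autoImplicit false

namespace H65.Conway

open Matrix

/-- The space. -/
abbrev V8 := V4 × V4

/-- The form. -/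
def q8 (v : V8) : ZMod 2 := q4 v.1 + q4 v.2

/-- Its polar form. -/
def b8 (x y : V8) : ZMod 2 := b4 x.1 y.1 + b4 x.2 y.2

theorem q8_add (x y : V8) : q8 (x + y) = q8 x + q8 y + b8 x y := by
  simp only [q8, b8, Prod.fst_add, Prod.snd_add, q4_add]
  ring

/-- The standard hyperbolic coordinates. -/
abbrev P8 := Fin 4 ⊕ Fin 4 → ZMod 2

/-- The change of coordinates. -/
def toV8 : P8 →ₗ[ZMod 2] V8 where
  toFun x := x (.inl 0) • ((![1, 0, 0, 0], 0) : V8) + x (.inr 0) • ((![0, 1, 0, 0], 0) : V8) +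
    x (.inl 1) • ((0, ![1, 0, 0, 0]) : V8) + x (.inr 1) • ((0, ![0, 1, 0, 0]) : V8) +
    x (.inl 2) • ((![1, 1, 1, 0], ![1, 1, 1, 0]) : V8) + x (.inr 2) • ((![1, 1, 0, 1], ![1, 1, 1, 0]) : V8) +
    x (.inl 3) • ((![0, 0, 1, 1], ![1, 1, 0, 1]) : V8) + x (.inr 3) • ((![0, 0, 1, 1], ![0, 0, 1, 1]) : V8)
  map_add' x y := by simp only [Pi.add_apply, add_smul]; abel
  map_smul' c x := by simp only [Pi.smul_apply, smul_eq_mul, RingHom.id_apply, smul_add, mul_smul]

theorem toV8_form : ∀ x : P8, q8 (toV8 x) = Cfsg.quadFormPlus 4 (ZMod 2) x := by decide +kernel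

theorem toV8_ker : ∀ x : P8, x = 0 ∨ toV8 x ≠ 0 := by decide +kernel

/-- The change of coordinates, invertible. -/
noncomputable def e8 : P8 ≃ₗ[ZMod 2] V8 :=
  LinearEquiv.ofBijective toV8 (by
    have hinj : Function.Injective toV8 :=
      (injective_iff_map_eq_zero _).mpr fun x hx => (toV8_ker x).resolve_right (not_not.mpr hx)
    refine ⟨hinj, ?_⟩
    exact ((Fintype.bijective_iff_injective_and_card _).mpr ⟨hinj, by simp⟩).2)

theorem e8_form (x : P8) : q8 (e8 x) = Cfsg.quadFormPlus 4 (ZMod 2) x := toV8_form x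

theorem e8_symm_form (v : V8) : Cfsg.quadFormPlus 4 (ZMod 2) (e8.symm v) = q8 v := by
  rw [← e8_form, e8.apply_symm_apply]

/-- The orthogonal group. -/
def O8 : Subgroup (V8 ≃ₗ[ZMod 2] V8) where
  carrier := {f | ∀ v, q8 (f v) = q8 v}
  one_mem' _ := rfl
  mul_mem' {f g} hf hg v := (hf (g v)).trans (hg v)
  inv_mem' {f} hf v := by
    have h := hf (f⁻¹ v)
    have e : f (f⁻¹ v) = v := by
      rw [show f (f⁻¹ v) = (f * f⁻¹) v from rfl, mul_inv_cancel]; rfl
    rw [e] at h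
    exact h.symm

theorem mem_O8 {f : V8 ≃ₗ[ZMod 2] V8} : f ∈ O8 ↔ ∀ v, q8 (f v) = q8 v := Iff.rfl

theorem O8_b (f : O8) (x y : V8) :
    b8 ((f : V8 ≃ₗ[ZMod 2] V8) x) ((f : V8 ≃ₗ[ZMod 2] V8) y) = b8 x y := by
  have h := mem_O8.mp f.2 (x + y)
  rw [map_add, q8_add, q8_add, mem_O8.mp f.2, mem_O8.mp f.2] at h
  exact add_left_cancel h

/-- The matrix group as linear isometries in the new coordinates. -/
noncomputable def phi :
    Cfsg.isometryGroup (ZMod 2) (Cfsg.quadFormPlus 4 (ZMod 2)) ≃* O8 where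
  toFun g := ⟨(e8.symm.trans (H43.glEquiv (g : GL (Fin 4 ⊕ Fin 4) (ZMod 2)))).trans e8, fun v => by
    show q8 (e8 (H43.glEquiv _ (e8.symm v))) = q8 v
    rw [e8_form, H43.glEquiv_apply]
    exact (g.2 (e8.symm v) (e8.symm v)).trans (e8_symm_form v)⟩
  invFun f := ⟨H43.glEquiv.symm ((e8.trans (f : V8 ≃ₗ[ZMod 2] V8)).trans e8.symm), fun u _ => by
    show Cfsg.quadFormPlus 4 (ZMod 2) _ = Cfsg.quadFormPlus 4 (ZMod 2) u
    have h : ∀ x, (((H43.glEquiv.symm ((e8.trans (f : V8 ≃ₗ[ZMod 2] V8)).trans e8.symm)) :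
        GL (Fin 4 ⊕ Fin 4) (ZMod 2)) : Matrix _ _ (ZMod 2)) *ᵥ x =
          e8.symm ((f : V8 ≃ₗ[ZMod 2] V8) (e8 x)) := fun x => by
      rw [← H43.glEquiv_apply, MulEquiv.apply_symm_apply]; rfl
    rw [Units.coeHom_apply, h, e8_symm_form, mem_O8.mp f.2, e8_form]⟩
  left_inv g := Subtype.ext (by
    show H43.glEquiv.symm _ = _
    rw [MulEquiv.symm_apply_eq]
    ext x : 1
    simp)
  right_inv f := Subtype.ext (by
    ext x : 1
    simp)
  map_mul' a b := Subtype.ext (by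
    ext x : 1
    show e8 (H43.glEquiv ((a : GL (Fin 4 ⊕ Fin 4) (ZMod 2)) * (b : GL (Fin 4 ⊕ Fin 4) (ZMod 2))) (e8.symm x)) =
      e8 (H43.glEquiv _ (e8.symm (e8 (H43.glEquiv _ (e8.symm x)))))
    rw [map_mul, e8.symm_apply_apply]
    rfl)

theorem phi_apply (g : Cfsg.isometryGroup (ZMod 2) (Cfsg.quadFormPlus 4 (ZMod 2))) (x : P8) :
    ((phi g : O8) : V8 ≃ₗ[ZMod 2] V8) (e8 x) =
      e8 (((g : GL (Fin 4 ⊕ Fin 4) (ZMod 2)) : Matrix _ _ (ZMod 2)) *ᵥ x) := by
  show e8 (H43.glEquiv _ (e8.symm (e8 x))) = _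
  rw [e8.symm_apply_apply, H43.glEquiv_apply]

/-- A pair of isometries of the summands. -/
def pair : O4 × O4 →* O8 where
  toFun p := ⟨LinearEquiv.prodCongr (p.1 : V4 ≃ₗ[ZMod 2] V4) (p.2 : V4 ≃ₗ[ZMod 2] V4), fun v => by
    show q4 ((p.1 : V4 ≃ₗ[ZMod 2] V4) v.1) + q4 ((p.2 : V4 ≃ₗ[ZMod 2] V4) v.2) = q4 v.1 + q4 v.2
    rw [mem_O4.mp p.1.2, mem_O4.mp p.2.2]⟩
  map_one' := Subtype.ext (LinearEquiv.ext fun _ => rfl)
  map_mul' _ _ := Subtype.ext (LinearEquiv.ext fun _ => rfl)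

theorem pair_apply (p : O4 × O4) (v : V8) : ((pair p : O8) : V8 ≃ₗ[ZMod 2] V8) v =
    ((p.1 : V4 ≃ₗ[ZMod 2] V4) v.1, (p.2 : V4 ≃ₗ[ZMod 2] V4) v.2) := rfl

theorem pair_injective : Function.Injective pair := by
  intro p q h
  have h' := fun v => congrArg (fun f : O8 => (f : V8 ≃ₗ[ZMod 2] V8) v) h
  refine Prod.ext (Subtype.ext (LinearEquiv.ext fun u => ?_)) (Subtype.ext (LinearEquiv.ext fun w => ?_))
  · exact congrArg Prod.fst (h' (u, 0))
  · exact congrArg Prod.snd (h' (0, w))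

/-- The index two subgroup `Ω`. -/
noncomputable def R8 : Subgroup O8 :=
  (Cfsg.Omega (ZMod 2) (Cfsg.quadFormPlus 4 (ZMod 2))).map phi.toMonoidHom

theorem card_iso : Nat.card (Cfsg.isometryGroup (ZMod 2) (Cfsg.quadFormPlus 4 (ZMod 2))) = 348364800 := by
  rw [show (4 : ℕ) = 3 + 1 from rfl, H38.card_plus 3, ZMod.card]
  norm_num [Finset.prod_range_succ]

theorem omega_index_two : (Cfsg.Omega (ZMod 2) (Cfsg.quadFormPlus 4 (ZMod 2))).index = 2 := by
  rw [← H43.coe_qPlus, H43.omega_index]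
  exact H43.commutator_index_even (H43.qPlus_nondeg 4)
    (H43.reflGenerates_of_card (Or.inr (by simp))) (by simp) (CharTwo.two_eq_zero)

theorem card_omega : Nat.card (Cfsg.Omega (ZMod 2) (Cfsg.quadFormPlus 4 (ZMod 2))) = 174182400 := by
  have h := Subgroup.card_mul_index (Cfsg.Omega (ZMod 2) (Cfsg.quadFormPlus 4 (ZMod 2)))
  rw [card_iso, omega_index_two] at h
  omega

/-- A subgroup of half the order is `Ω`. -/
theorem eq_omega (R : Subgroup (Cfsg.isometryGroup (ZMod 2) (Cfsg.quadFormPlus 4 (ZMod 2))))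
    (hR : Nat.card R = 174182400) : R = Cfsg.Omega (ZMod 2) (Cfsg.quadFormPlus 4 (ZMod 2)) := by
  have hidx : R.index = 2 := by
    have h := Subgroup.card_mul_index R
    rw [hR, card_iso] at h
    omega
  refine (Subgroup.eq_of_le_of_card_ge ?_ (by rw [hR, card_omega])).symm
  show commutator _ ≤ _
  rw [commutator_def, Subgroup.commutator_le]
  intro a _ b _
  rw [commutatorElement_def, Subgroup.mul_mem_iff_of_index_two hidx,
    Subgroup.mul_mem_iff_of_index_two hidx, Subgroup.mul_mem_iff_of_index_two hidx,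
    inv_mem_iff, inv_mem_iff]
  tauto

theorem R8_index : R8.index = 2 := by
  rw [R8, Subgroup.index_map_of_bijective phi.bijective, omega_index_two]

theorem sq_mem_R8 (f : O8) : f * f ∈ R8 := by
  rw [Subgroup.mul_mem_iff_of_index_two R8_index]

/-- A reflection in a vector of the first summand. -/
theorem exists_refl_pair : ∃ σ : Equiv.Perm (Fin 5), pair (toO4 σ, 1) ∉ R8 := by
  let a : V4 := ![1, 1, 0, 0]
  have ha : q4 a = 1 := by decide
  have hσ : ∀ v, act (Equiv.swap 0 1) v = v + b4 v a • a := by decide +kernel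
  refine ⟨Equiv.swap 0 1, fun hmem => ?_⟩
  obtain ⟨g, hg, hgf⟩ := hmem
  set Qf := H43.qPlus 4 (ZMod 2) with hQf
  have hnd : (H43.polB Qf).Nondegenerate := H43.qPlus_nondeg 4
  let a8 : P8 := e8.symm (a, 0)
  have hqa : Qf a8 = 1 := by
    rw [hQf, H43.coe_qPlus, e8_symm_form]
    show q4 a + q4 0 = 1
    rw [ha, q4_zero, add_zero]
  have hne : Qf a8 ≠ 0 := by rw [hqa]; decide
  have hgen : H43.ReflGenerates (ZMod 2) P8 := H43.reflGenerates_of_card (Or.inr (by simp))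
  have hg' : (⟨(g : GL (Fin 4 ⊕ Fin 4) (ZMod 2)), by
      rw [hQf, H43.coe_qPlus]; exact g.2⟩ : Cfsg.isometryGroup (ZMod 2) ⇑Qf) ∈
      Cfsg.Omega (ZMod 2) ⇑Qf := by
    have key : ∀ (Qq : P8 → ZMod 2) (hQq : Cfsg.quadFormPlus 4 (ZMod 2) = Qq),
        (⟨(g : GL (Fin 4 ⊕ Fin 4) (ZMod 2)), hQq ▸ g.2⟩ : Cfsg.isometryGroup (ZMod 2) Qq) ∈
          Cfsg.Omega (ZMod 2) Qq := by
      rintro _ rfl
      exact hg
    exact key _ (H43.coe_qPlus 4 (ZMod 2)).symm
  rw [H43.mem_Omega_iff] at hg'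
  have hrefl : H43.toOrth Qf ⟨(g : GL (Fin 4 ⊕ Fin 4) (ZMod 2)), by
      rw [hQf, H43.coe_qPlus]; exact g.2⟩ = H43.refl Qf a8 := by
    rw [H43.toOrth_eq_iff]
    intro x
    apply e8.injective
    rw [← phi_apply]
    have : ((phi g : O8) : V8 ≃ₗ[ZMod 2] V8) = (pair (toO4 (Equiv.swap 0 1), 1) : O8) := congrArg Subtype.val hgf
    rw [this, pair_apply, toO4_apply, hσ, H43.refl_apply, hqa, inv_one, one_mul, map_sub, map_smul, e8.apply_symm_apply]
    have hb : H43.polB Qf x a8 = b4 (e8 x).1 a := by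
      rw [H43.polB_apply, QuadraticMap.polar, hQf, H43.coe_qPlus, ← e8_form, ← e8_form, ← e8_form,
        map_add, e8.apply_symm_apply, q8_add]
      show q8 (e8 x) + q8 (a, 0) + (b4 (e8 x).1 a + b4 (e8 x).2 0) - q8 (e8 x) - q8 (a, 0) = _
      rw [show b4 (e8 x).2 0 = 0 by simp [b4_formula]]
      ring
    rw [hb, ZModModule.sub_eq_add]
    refine Prod.ext rfl ?_
    show (e8 x).2 = (e8 x).2 + b4 (e8 x).1 a • (0 : V4)
    rw [smul_zero, add_zero]
  rw [hrefl] at hg'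
  have := ((H44.mem_commutator_iff hnd hgen _).mp hg').1
  rw [H43.dickson_refl hnd hne] at this
  revert this
  decide

theorem pair_left_mem_iff (σ : Equiv.Perm (Fin 5)) :
    pair (toO4 σ, 1) ∈ R8 ↔ Equiv.Perm.sign σ = 1 := by
  have heven : ∀ σ, Equiv.Perm.sign σ = 1 → pair (toO4 σ, 1) ∈ R8 := fun σ hσ => by
    obtain ⟨τ, rfl⟩ := even_square σ hσ
    have : pair (toO4 (τ * τ), 1) = pair (toO4 τ, 1) * pair (toO4 τ, 1) := by
      rw [← map_mul, Prod.mk_mul_mk, ← map_mul, one_mul]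
    rw [this]
    exact sq_mem_R8 _
  refine ⟨fun h => ?_, heven σ⟩
  obtain ⟨t, ht⟩ := exists_refl_pair
  by_contra hσ
  have hσ' := (sign_cases σ).resolve_left hσ
  have ht' := (sign_cases t).resolve_left fun e => ht (heven t e)
  apply ht
  have : pair (toO4 t, 1) = pair (toO4 (t * σ⁻¹), 1) * pair (toO4 σ, 1) := by
    rw [← map_mul, Prod.mk_mul_mk, ← map_mul, one_mul, inv_mul_cancel_right]
  rw [this]
  exact mul_mem (heven _ (by rw [map_mul, map_inv, ht', hσ']; decide)) h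

/-- Interchanging the summands. -/
def swap8 : O8 :=
  ⟨LinearEquiv.prodComm (ZMod 2) V4 V4, fun v => by
    show q4 v.2 + q4 v.1 = _
    rw [add_comm]; rfl⟩

theorem pair_right_mem_iff (σ : Equiv.Perm (Fin 5)) :
    pair (1, toO4 σ) ∈ R8 ↔ Equiv.Perm.sign σ = 1 := by
  rw [← pair_left_mem_iff]
  have e : pair (1, toO4 σ) = swap8 * pair (toO4 σ, 1) * swap8⁻¹ := by
    refine eq_mul_inv_of_mul_eq (Subtype.ext (LinearEquiv.ext fun v => ?_))
    rfl
  rw [e]
  haveI := Subgroup.normal_of_index_eq_two R8_index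
  refine ⟨fun h => ?_, fun h => Subgroup.Normal.conj_mem inferInstance _ h _⟩
  have := Subgroup.Normal.conj_mem inferInstance _ h swap8⁻¹
  simpa [mul_assoc] using this

theorem pair_mem_R8_iff (p : O4 × O4) :
    pair p ∈ R8 ↔ Equiv.Perm.sign (permEquiv p.1) = Equiv.Perm.sign (permEquiv p.2) := by
  have e : pair p = pair (toO4 (permEquiv p.1), 1) * pair (1, toO4 (permEquiv p.2)) := by
    rw [← map_mul, Prod.mk_mul_mk, mul_one, one_mul, toO4_permEquiv, toO4_permEquiv]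
  rw [e, Subgroup.mul_mem_iff_of_index_two R8_index, pair_left_mem_iff, pair_right_mem_iff]
  rcases sign_cases (permEquiv p.1) with h | h <;> rcases sign_cases (permEquiv p.2) with h' | h' <;>
    simp [h, h']

end H65.Conway
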