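import Cfsg.Agent.H65.Conway.Coords
import Cfsg.Agent.H65.Conway.Form
import Cfsg.Agent.H69.Setting

/-!
Groups of Conway type `2^(1+8).Ω⁺(8,2)`: the basic facts, and the decomposition of the extraspecial
subgroup under an element of order five with a fixed point.
-/

set_option autoImplicit false

namespace H65.Conway

open scoped commutatorElement

variable {G : Type*} [Group G] [Finite G]

/-- The basic hypotheses. -/
structure Base (z : G) (Q : Subgroup G) : Prop where
  ord : orderOf z = 2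
  pre : H69.PreLarge Q
  cen : (Subgroup.center Q).map Q.subtype = Subgroup.zpowers z
  nor : ∀ c, Commute c z → ∀ q ∈ Q, c * q * c⁻¹ ∈ Q
  card : Nat.card Q = 512
  cardC : Nat.card (Subgroup.centralizer ({z} : Set G)) = 512 * 174182400
  nwc : ∃ g : G, g * z * g⁻¹ ∈ Q ∧ g * z * g⁻¹ ≠ z

/-- The hypothesis as stated. -/
theorem base_of_statement (z : G) (hz : orderOf z = 2)
    (Q : Subgroup (Subgroup.centralizer ({z} : Set G))) [Q.Normal]
    (hF : Cfsg.generalizedFittingSubgroup (Subgroup.centralizer ({z} : Set G)) = Q)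
    (hQ : Cfsg.IsExtraspecial 2 Q) (hcard : Nat.card Q = 2 ^ 9)
    (e : (Subgroup.centralizer ({z} : Set G)) ⧸ Q ≃* Cfsg.Omega (ZMod 2) (Cfsg.quadFormPlus 4 (ZMod 2)))
    (hnwc : ∃ g : G, (∃ hq : g * z * g⁻¹ ∈ Subgroup.centralizer ({z} : Set G),
      (⟨g * z * g⁻¹, hq⟩ : Subgroup.centralizer ({z} : Set G)) ∈ Q) ∧ g * z * g⁻¹ ≠ z) :
    Base z (Q.map (Subgroup.centralizer ({z} : Set G)).subtype) := by
  let eQ : Q ≃* Q.map (Subgroup.centralizer ({z} : Set G)).subtype := Q.equivMapOfInjective (Subgroup.centralizer ({z} : Set G)).subtype (Subgroup.subtype_injective _)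
  have hext : Cfsg.IsExtraspecial 2 (Q.map (Subgroup.centralizer ({z} : Set G)).subtype) := by
    obtain ⟨c, hc1, hc2, hcc, huniq⟩ := H31.Extra2.center_data hQ
    refine H69.isExtraspecial_two_of (eQ c) (hQ.1.1.of_equiv eQ) ?_ ?_ ?_ ?_
    · intro x
      obtain ⟨a, rfl⟩ := eQ.surjective x
      have : a * a ∈ Subgroup.center Q := by
        have := Fact.mk Nat.prime_two
        rw [← pow_two]; exact H6.extraspecial_pow_mem_center hQ a
      rcases huniq _ this with h | h
      · exact Or.inl (by rw [← map_mul, h, map_one])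
      · exact Or.inr (by rw [← map_mul, h])
    · intro x y
      obtain ⟨a, rfl⟩ := eQ.surjective x
      obtain ⟨b, rfl⟩ := eQ.surjective y
      have hm := H6.extraspecial_commutator_mem_center hQ a b
      rcases huniq _ hm with h | h
      · exact Or.inl (by rw [← map_mul, ← map_mul, commutatorElement_eq_one_iff_mul_comm.mp h])
      · refine Or.inr ?_
        rw [← map_mul, ← map_mul, ← map_mul]
        congr 1
        rw [← h, commutatorElement_def]; group
    · by_contra hn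
      push Not at hn
      have htop : Subgroup.center Q = ⊤ := by
        rw [Subgroup.eq_top_iff']
        exact fun a => Subgroup.mem_center_iff.mpr fun b => eQ.injective (by
          rw [map_mul, map_mul]; exact hn _ _)
      have := hQ.2
      rw [htop, Subgroup.card_top, hcard] at this
      norm_num at this
    · intro x hx
      obtain ⟨a, rfl⟩ := eQ.surjective x
      have ha : a ∈ Subgroup.center Q := Subgroup.mem_center_iff.mpr fun b => eQ.injective (by
        rw [map_mul, map_mul]; exact hx _)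
      rcases huniq a ha with h | h
      · exact Or.inl (by rw [h, map_one])
      · exact Or.inr (by rw [h])
  obtain ⟨hpre, hcen, hnor⟩ := H69.fstar_setting hz (Subgroup.map_subtype_le Q) (by rw [hF]) hext
  refine ⟨hz, hpre, hcen, fun c hc => hnor c hc.eq, ?_, ?_, ?_⟩
  · rw [← Nat.card_congr eQ.toEquiv, hcard]; norm_num
  · rw [Subgroup.card_eq_card_quotient_mul_card_subgroup Q, Nat.card_congr e.toEquiv, card_omega, hcard]; norm_num
  · obtain ⟨g, ⟨hq, hgQ⟩, hne⟩ := hnwc
    exact ⟨g, ⟨_, hgQ, rfl⟩, hne⟩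

variable {z : G} {Q : Subgroup G}

namespace Base

theorem zz (H : Base z Q) : z * z = 1 := by rw [← pow_two, ← H.ord, pow_orderOf_eq_one]

theorem z_ne (H : Base z Q) : z ≠ 1 := fun h => by
  have := H.ord; rw [h, orderOf_one] at this; omega

theorem zmem (H : Base z Q) : z ∈ Q :=
  (H93.mem_centerMap.mp (H.cen.symm ▸ Subgroup.mem_zpowers z)).1

theorem comm_z (H : Base z Q) {q : G} (hq : q ∈ Q) : Commute q z :=
  (H93.mem_centerMap.mp (H.cen.symm ▸ Subgroup.mem_zpowers z :
    z ∈ (Subgroup.center Q).map Q.subtype)).2 q hq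

theorem center_mem (H : Base z Q) {w : G} (hw : w ∈ Q) (hc : ∀ q ∈ Q, Commute q w) : w = 1 ∨ w = z :=
  H93.zpowers_two_cases H.ord (H.cen ▸ H93.mem_centerMap.mpr ⟨hw, fun q hq => (hc q hq).eq⟩)

theorem self (H : Base z Q) {c : G} (hc : ∀ q ∈ Q, Commute c q) : c ∈ Q :=
  H93.centerMap_le Q (H.pre.2.1 ▸ Subgroup.mem_centralizer_iff.mpr fun q hq => (hc q hq).symm.eq)

theorem sq_cases (H : Base z Q) {a : G} (ha : a ∈ Q) : a * a = 1 ∨ a * a = z := by
  have := Fact.mk Nat.prime_two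
  refine H.center_mem (mul_mem ha ha) fun q hq => ?_
  have h := Subgroup.mem_center_iff.mp (H6.extraspecial_pow_mem_center H.pre.1 ⟨a, ha⟩) ⟨q, hq⟩
  simpa [pow_two, Commute, SemiconjBy] using congrArg Subtype.val h

theorem comm_cases (H : Base z Q) {a b : G} (ha : a ∈ Q) (hb : b ∈ Q) :
    Commute a b ∨ a * b = b * a * z := by
  have hm := H6.extraspecial_commutator_mem_center H.pre.1 ⟨a, ha⟩ ⟨b, hb⟩
  have hwQ : ((⁅(⟨a, ha⟩ : ↥Q), ⟨b, hb⟩⁆ : ↥Q) : G) ∈ Q := Subtype.coe_prop _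
  rcases H.center_mem hwQ fun q hq =>
    congrArg Subtype.val (Subgroup.mem_center_iff.mp hm ⟨q, hq⟩) with h | h
  all_goals have e : a * b = ((⁅(⟨a, ha⟩ : ↥Q), ⟨b, hb⟩⁆ : ↥Q) : G) * (b * a) := by
              simp [commutatorElement_def, mul_assoc]
  · left; rw [h, one_mul] at e; exact e
  · right; rw [h, ((H.comm_z hb).mul_left (H.comm_z ha)).eq.symm] at e; exact e

/-- Membership in `Q` is symmetric on conjugates of `z`. -/
theorem symm (H : Base z Q) {g : G} (hg : g * z * g⁻¹ ∈ Q) : g⁻¹ * z * g ∈ Q := by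
  obtain ⟨q, hq, e⟩ := H69.lx_symm H.pre H.cen H.ord g hg
  have e' : g * q * g⁻¹ = z := e
  rw [← e', show g⁻¹ * (g * q * g⁻¹) * g = q by group]
  exact hq

end Base

/-- An element of order five of the centraliser with a noncentral fixed point in `Q`. -/
structure Fix (z : G) (Q : Subgroup G) (β : G) : Prop where
  base : Base z Q
  comm : Commute β z
  five : β ^ 5 = 1
  ne : β ≠ 1
  exists_fix : ∃ q ∈ Q, q ≠ 1 ∧ q ≠ z ∧ Commute β q

/-- The fixed points. -/
def fixQ (Q : Subgroup G) (β : G) : Subgroup G := Q ⊓ Subgroup.centralizer ({β} : Set G)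

/-- Their centraliser in `Q`. -/
def coQ (Q : Subgroup G) (β : G) : Subgroup G := Q ⊓ Subgroup.centralizer (fixQ Q β : Set G)

omit [Finite G] in
theorem mem_fixQ {β a : G} : a ∈ fixQ Q β ↔ a ∈ Q ∧ Commute β a := by
  simp only [fixQ, Subgroup.mem_inf, Subgroup.mem_centralizer_singleton_iff, Commute, SemiconjBy]
  exact and_congr_right fun _ => eq_comm

omit [Finite G] in
theorem mem_coQ {β a : G} : a ∈ coQ Q β ↔ a ∈ Q ∧ ∀ p ∈ fixQ Q β, Commute p a := by
  simp only [coQ, Subgroup.mem_inf, Subgroup.mem_centralizer_iff, SetLike.mem_coe]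
  rfl

omit [Finite G] in
theorem five_shift {c w : G} {β : G} (hβ : β ^ 5 = 1) (hc : Commute β c) (hw : β * w * β⁻¹ = w * c)
    (hcw : Commute w c) : c ^ 5 = 1 := by
  have h : ∀ n : ℕ, β ^ n * w * (β ^ n)⁻¹ = w * c ^ n := by
    intro n
    induction n with
    | zero => simp
    | succ n ih =>
      rw [pow_succ' β, mul_inv_rev,
        show β * β ^ n * w * ((β ^ n)⁻¹ * β⁻¹) = β * (β ^ n * w * (β ^ n)⁻¹) * β⁻¹ by group, ih,
        show β * (w * c ^ n) * β⁻¹ = (β * w * β⁻¹) * (β * c ^ n * β⁻¹) by group, hw,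
        (hc.pow_right n).eq, mul_inv_cancel_right, pow_succ', mul_assoc]
  have h5 := h 5
  rw [hβ, inv_one, one_mul, mul_one] at h5
  exact mul_eq_left.mp h5.symm

namespace Fix

variable {β : G}

theorem zmem (F : Fix z Q β) : z ∈ fixQ Q β := mem_fixQ.mpr ⟨F.base.zmem, F.comm⟩

theorem z5 (F : Fix z Q β) : z ^ 5 = z := by
  rw [show (5 : ℕ) = 2 + 2 + 1 from rfl, pow_add, pow_add, pow_two, F.base.zz, pow_one, one_mul,
    one_mul]

/-- The orbit product of an element is fixed. -/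
theorem exists_orbit_prod (F : Fix z Q β) {x : G} (hx : x ∈ fixQ Q β)
    (hc : ∀ p ∈ fixQ Q β, Commute x p) {q : G} (hq : q ∈ Q) : Commute x q := by
  refine (F.base.comm_cases (mem_fixQ.mp hx).1 hq).resolve_right fun e => ?_
  let f : ℕ → G := fun n => β ^ n * q * (β ^ n)⁻¹
  have hfQ : ∀ n, f n ∈ Q := fun n => F.base.nor _ (F.comm.pow_left n) q hq
  have hxc : ∀ n, x * f n = f n * x * z := fun n => by
    have hb : Commute (β ^ n) x := (mem_fixQ.mp hx).2.pow_left n
    calc x * f n = (x * β ^ n) * q * (β ^ n)⁻¹ := by simp only [f]; group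
      _ = β ^ n * (x * q) * (β ^ n)⁻¹ := by rw [← hb.eq]; group
      _ = β ^ n * (q * x) * (z * (β ^ n)⁻¹) := by rw [e]; group
      _ = β ^ n * q * (x * (β ^ n)⁻¹) * z := by rw [← ((F.comm.pow_left n).inv_left).eq]; group
      _ = f n * x * z := by rw [← hb.inv_left.eq]; simp only [f]; group
  let N := f 0 * f 1 * f 2 * f 3 * f 4
  have hNQ : N ∈ Q := mul_mem (mul_mem (mul_mem (mul_mem (hfQ 0) (hfQ 1)) (hfQ 2)) (hfQ 3)) (hfQ 4)
  have hN : β * N * β⁻¹ = (f 0)⁻¹ * N * f 0 := by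
    have h5 : f 5 = f 0 := by simp [f, F.five]
    have hs : ∀ n, β * f n * β⁻¹ = f (n + 1) := fun n => by simp only [f, pow_succ']; group
    calc β * N * β⁻¹ = (β * f 0 * β⁻¹) * (β * f 1 * β⁻¹) * (β * f 2 * β⁻¹) * (β * f 3 * β⁻¹) *
          (β * f 4 * β⁻¹) := by simp only [N]; group
      _ = f 1 * f 2 * f 3 * f 4 * f 5 := by rw [hs, hs, hs, hs, hs]
      _ = (f 0)⁻¹ * N * f 0 := by rw [h5]; simp only [N]; group
  have hNfix : Commute β N := by
    have hd : β * N * β⁻¹ = N ∨ β * N * β⁻¹ = N * z := by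
      rw [hN]
      rcases F.base.comm_cases hNQ (hfQ 0) with h | h
      · exact Or.inl (by rw [mul_assoc, h.eq, inv_mul_cancel_left])
      · exact Or.inr (by rw [mul_assoc, h]; group)
    rcases hd with h | h
    · exact mul_inv_eq_iff_eq_mul.mp h
    · exact absurd (F.z5.symm.trans (five_shift F.five F.comm h (F.base.comm_z hNQ))) F.base.z_ne
  have hxN : x * N = N * x := hc N (mem_fixQ.mpr ⟨hNQ, hNfix⟩)
  have hzq : ∀ n, z * f n = f n * z := fun n => ((F.base.comm_z (hfQ n)).symm).eq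
  have : x * N = N * x * z := by
    calc x * N = x * f 0 * f 1 * f 2 * f 3 * f 4 := by simp only [N]; group
      _ = f 0 * x * (z * f 1) * f 2 * f 3 * f 4 := by rw [hxc 0]; group
      _ = f 0 * (x * f 1) * (z * f 2) * f 3 * f 4 := by rw [hzq 1]; group
      _ = f 0 * f 1 * x * z * (f 2 * z) * f 3 * f 4 := by rw [hxc 1, hzq 2]; group
      _ = f 0 * f 1 * x * (z * f 2) * (z * f 3) * f 4 := by group
      _ = f 0 * f 1 * (x * f 2) * (z * (f 3 * z)) * f 4 := by rw [hzq 2, hzq 3]; group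
      _ = f 0 * f 1 * f 2 * x * (z * z) * f 3 * (z * f 4) := by rw [hxc 2]; group
      _ = f 0 * f 1 * f 2 * (x * f 3) * (f 4 * z) := by rw [F.base.zz, hzq 4]; group
      _ = f 0 * f 1 * f 2 * f 3 * x * (z * f 4) * z := by rw [hxc 3]; group
      _ = f 0 * f 1 * f 2 * f 3 * (x * f 4) * (z * z) := by rw [hzq 4]; group
      _ = N * x * z := by rw [F.base.zz, hxc 4]; simp only [N]; group
  rw [hxN, left_eq_mul] at this
  exact F.base.z_ne this

theorem fix_center (F : Fix z Q β) {x : G} (hx : x ∈ fixQ Q β)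
    (hc : ∀ p ∈ fixQ Q β, Commute x p) : x = 1 ∨ x = z :=
  F.base.center_mem (mem_fixQ.mp hx).1 fun _ hq => (F.exists_orbit_prod hx hc hq).symm

theorem fixQ_extraspecial (F : Fix z Q β) : Cfsg.IsExtraspecial 2 (fixQ Q β) := by
  obtain ⟨q₀, hq₀, hq1, hqz, hqc⟩ := F.exists_fix
  refine H69.isExtraspecial_two_of ⟨z, F.zmem⟩
    (F.base.pre.1.1.1.to_le inf_le_left) (fun x => ?_) (fun x y => ?_) ?_ (fun x hx => ?_)
  · exact (F.base.sq_cases (mem_fixQ.mp x.2).1).imp (fun h => Subtype.ext h) fun h => Subtype.ext h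
  · refine (F.base.comm_cases (mem_fixQ.mp x.2).1 (mem_fixQ.mp y.2).1).imp
      (fun h => Subtype.ext h.eq) fun h => Subtype.ext ?_
    show (x : G) * y = z * (y * x)
    rw [h, ((F.base.comm_z (mem_fixQ.mp y.2).1).mul_left (F.base.comm_z (mem_fixQ.mp x.2).1)).eq]
  · by_contra hn
    push Not at hn
    have hq : q₀ ∈ fixQ Q β := mem_fixQ.mpr ⟨hq₀, hqc⟩
    rcases F.fix_center hq fun p hp => congrArg Subtype.val (hn ⟨q₀, hq⟩ ⟨p, hp⟩) with h | h
    exacts [hq1 h, hqz h]
  · rcases F.fix_center x.2 fun p hp => (congrArg Subtype.val (hx ⟨p, hp⟩)).symm with h | h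
    exacts [Or.inl (Subtype.ext h), Or.inr (Subtype.ext h)]

theorem decomp (F : Fix z Q β) {q : G} (hq : q ∈ Q) :
    ∃ p ∈ fixQ Q β, p⁻¹ * q ∈ coQ Q β := by
  have := Fact.mk Nat.prime_two
  have hmem : ∀ a : fixQ Q β, q * a * q⁻¹ * (a : G)⁻¹ = 1 ∨ q * a * q⁻¹ * (a : G)⁻¹ = z := fun a => by
    rcases F.base.comm_cases hq (mem_fixQ.mp a.2).1 with h | h
    · left; rw [h.eq]; group
    · right
      rw [h, show (a : G) * q * z = (a : G) * (q * z) by group, (F.base.comm_z hq).eq]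
      rw [show (a : G) * (z * q) * q⁻¹ * (a : G)⁻¹ = (a : G) * z * (a : G)⁻¹ by group,
        (F.base.comm_z (mem_fixQ.mp a.2).1).eq, mul_inv_cancel_right]
  have hz' : ∀ w : G, w = 1 ∨ w = z → ∀ a ∈ Q, Commute a w := fun w hw a ha => by
    rcases hw with rfl | rfl
    exacts [Commute.one_right a, F.base.comm_z ha]
  have hmc : ∀ a : fixQ Q β, (⟨q * a * q⁻¹ * (a : G)⁻¹, by
      rcases hmem a with h | h <;> rw [h]
      exacts [one_mem _, F.zmem]⟩ : fixQ Q β) ∈ Subgroup.center (fixQ Q β) := fun a =>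
    Subgroup.mem_center_iff.mpr fun b => Subtype.ext (hz' _ (hmem a) b (mem_fixQ.mp b.2).1).eq
  let χ : fixQ Q β →* Subgroup.center (fixQ Q β) := MonoidHom.mk' (fun a => ⟨_, hmc a⟩) (fun a b => by
    refine Subtype.ext (Subtype.ext ?_)
    show q * (a * b : G) * q⁻¹ * ((a : G) * b)⁻¹ =
      q * a * q⁻¹ * (a : G)⁻¹ * (q * b * q⁻¹ * (b : G)⁻¹)
    have h1 := hz' _ (hmem b) _ (inv_mem (mem_fixQ.mp a.2).1)
    calc q * (a * b : G) * q⁻¹ * ((a : G) * b)⁻¹
        = q * a * q⁻¹ * ((q * b * q⁻¹ * (b : G)⁻¹) * (a : G)⁻¹) := by group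
      _ = _ := by rw [← h1.eq]; group)
  obtain ⟨e, he⟩ := H6.extraspecial_exists_commutator_eq F.fixQ_extraspecial χ
  refine ⟨e, e.2, mem_coQ.mpr ⟨mul_mem (inv_mem (mem_fixQ.mp e.2).1) hq, fun p hp => ?_⟩⟩
  have h2 : q * p * q⁻¹ * p⁻¹ = (e : G) * p * (e : G)⁻¹ * p⁻¹ := by
    have h := congrArg Subtype.val (he ⟨p, hp⟩)
    simpa [χ, commutatorElement_def] using h
  rw [mul_left_inj] at h2
  calc p * ((e : G)⁻¹ * q) = (e : G)⁻¹ * ((e : G) * p * (e : G)⁻¹) * q := by group
    _ = (e : G)⁻¹ * q * p := by rw [← h2]; group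

theorem inter (F : Fix z Q β) {a : G} (ha : a ∈ fixQ Q β) (ha' : a ∈ coQ Q β) : a = 1 ∨ a = z :=
  F.fix_center ha fun p hp => ((mem_coQ.mp ha').2 p hp).symm

theorem coQ_conj (F : Fix z Q β) {a : G} (ha : a ∈ coQ Q β) : β * a * β⁻¹ ∈ coQ Q β := by
  refine mem_coQ.mpr ⟨F.base.nor β F.comm a (mem_coQ.mp ha).1, fun p hp => ?_⟩
  have h := ((mem_coQ.mp ha).2 p hp)
  have hb := (mem_fixQ.mp hp).2
  show p * (β * a * β⁻¹) = β * a * β⁻¹ * p
  calc p * (β * a * β⁻¹) = (p * β) * a * β⁻¹ := by group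
    _ = β * (p * a) * β⁻¹ := by rw [← hb.eq]; group
    _ = β * a * (p * β⁻¹) := by rw [h.eq]; group
    _ = β * a * β⁻¹ * p := by rw [← hb.inv_left.eq]; group

theorem card_parts (F : Fix z Q β) : Nat.card (fixQ Q β) = 32 ∧ Nat.card (coQ Q β) = 32 := by
  classical
  have := Fintype.ofFinite G
  have := Fact.mk Nat.prime_two
  have hprod : Nat.card (fixQ Q β) * Nat.card (coQ Q β) = 1024 := by
    let f : fixQ Q β × coQ Q β → Q := fun x =>
      ⟨(x.1 : G) * x.2, mul_mem (mem_fixQ.mp x.1.2).1 (mem_coQ.mp x.2.2).1⟩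
    let g : fixQ Q β → coQ Q β := fun a => 1
    have hz2 : Nat.card {w : G // w = 1 ∨ w = z} = 2 := by
      rw [Nat.card_eq_fintype_card, Fintype.card_subtype,
        show (Finset.univ.filter fun w : G => w = 1 ∨ w = z) = {1, z} by ext; simp]
      exact Finset.card_pair fun h => F.base.z_ne h.symm
    have hcod : ∀ w : G, (w = 1 ∨ w = z) → w ∈ coQ Q β := by
      rintro w (rfl | rfl)
      · exact one_mem _
      · exact mem_coQ.mpr ⟨F.base.zmem, fun p hp => F.base.comm_z (mem_fixQ.mp hp).1⟩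
    have hfix : ∀ w : G, (w = 1 ∨ w = z) → w ∈ fixQ Q β := by
      rintro w (rfl | rfl)
      exacts [one_mem _, F.zmem]
    choose s hs hs' using fun q : Q => F.decomp q.2
    let e : fixQ Q β × coQ Q β ≃ Q × {w : G // w = 1 ∨ w = z} :=
      { toFun := fun x => (f x, ⟨(s (f x))⁻¹ * x.1, by
          refine F.inter (mul_mem (inv_mem (hs _)) x.1.2) ?_
          have h1 := hs' (f x)
          have : (s (f x))⁻¹ * (x.1 : G) = ((s (f x))⁻¹ * ((f x : Q) : G)) * (x.2 : G)⁻¹ := by
            simp only [f]; group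
          rw [this]
          exact mul_mem h1 (inv_mem x.2.2)⟩)
        invFun := fun y => (⟨s y.1 * y.2, mul_mem (hs _) (hfix _ y.2.2)⟩,
          ⟨(y.2 : G)⁻¹ * ((s y.1)⁻¹ * y.1), mul_mem (inv_mem (hcod _ y.2.2)) (hs' _)⟩)
        left_inv := fun x => by
          refine Prod.ext (Subtype.ext ?_) (Subtype.ext ?_)
          · show s (f x) * ((s (f x))⁻¹ * x.1) = x.1
            group
          · show ((s (f x))⁻¹ * (x.1 : G))⁻¹ * ((s (f x))⁻¹ * ((f x : Q) : G)) = x.2
            simp only [f]; group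
        right_inv := fun y => by
          have h1 : f (⟨s y.1 * y.2, mul_mem (hs _) (hfix _ y.2.2)⟩,
              ⟨(y.2 : G)⁻¹ * ((s y.1)⁻¹ * y.1), mul_mem (inv_mem (hcod _ y.2.2)) (hs' _)⟩) = y.1 :=
            Subtype.ext (by simp only [f]; group)
          refine Prod.ext h1 (Subtype.ext ?_)
          show (s (f _))⁻¹ * (s y.1 * y.2) = y.2
          rw [h1]
          group }
    have h := Nat.card_congr e
    rw [Nat.card_prod, Nat.card_prod, F.base.card, hz2] at h
    exact h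
  obtain ⟨k, hk, hck⟩ := (Nat.dvd_prime_pow Nat.prime_two).mp
    (show Nat.card (coQ Q β) ∣ 2 ^ 10 from ⟨_, by rw [mul_comm, hprod]; norm_num⟩)
  have h5 := five_orbit F.five (coQ Q β : Set G) fun a ha => F.coQ_conj ha
  have hfx : Nat.card {a : G | a ∈ (coQ Q β : Set G) ∧ Commute β a} = 2 := by
    rw [Nat.card_eq_fintype_card, ← Set.toFinset_card,
      show ({a : G | a ∈ (coQ Q β : Set G) ∧ Commute β a}).toFinset = {1, z} by
        ext a
        simp only [Set.mem_toFinset, Set.mem_setOf_eq, SetLike.mem_coe, Finset.mem_insert,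
          Finset.mem_singleton]
        refine ⟨fun h => F.inter (mem_fixQ.mpr ⟨(mem_coQ.mp h.1).1, h.2⟩) h.1, ?_⟩
        rintro (rfl | rfl)
        · exact ⟨one_mem _, Commute.one_right _⟩
        · exact ⟨mem_coQ.mpr ⟨F.base.zmem, fun p hp => F.base.comm_z (mem_fixQ.mp hp).1⟩, F.comm⟩]
    exact Finset.card_pair fun h => F.base.z_ne h.symm
  rw [hfx, show Nat.card (coQ Q β : Set G) = Nat.card (coQ Q β) from rfl, hck] at h5
  have hk9 : k ≠ 9 := by
    rintro rfl
    rw [hck] at hprod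
    obtain ⟨q₀, hq₀, hq1, hqz, hqc⟩ := F.exists_fix
    have h2 : Nat.card (fixQ Q β) = 2 := by omega
    have hsub : ({1, z, q₀} : Finset G) ⊆ (fixQ Q β : Set G).toFinset := by
      intro a ha
      simp only [Finset.mem_insert, Finset.mem_singleton] at ha
      rw [Set.mem_toFinset]
      rcases ha with rfl | rfl | rfl
      exacts [one_mem _, F.zmem, mem_fixQ.mpr ⟨hq₀, hqc⟩]
    have h3 := Finset.card_le_card hsub
    rw [Set.toFinset_card, ← Nat.card_eq_fintype_card,
      show Nat.card (fixQ Q β : Set G) = Nat.card (fixQ Q β) from rfl, h2,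
      Finset.card_insert_of_notMem (by simp [F.base.z_ne.symm, hq1.symm]),
      Finset.card_pair hqz.symm] at h3
    omega
  have hk1 : k ≠ 1 := by
    rintro rfl
    rw [hck] at hprod
    have hall : fixQ Q β = Q :=
      Subgroup.eq_of_le_of_card_ge inf_le_left (by rw [F.base.card]; omega)
    have hβQ : β ∈ Q := F.base.self fun q hq => (mem_fixQ.mp (hall.symm ▸ hq)).2
    have := orderOf_dvd_natCard (⟨β, hβQ⟩ : Q)
    rw [Subgroup.orderOf_mk, orderOf_eq_prime (hp := ⟨by norm_num⟩) F.five F.ne, F.base.card] at this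
    norm_num at this
  have hk5 : k = 5 := by
    interval_cases k <;> first | rfl | omega | exact absurd h5 (by decide)
  subst hk5
  rw [hck] at hprod
  exact ⟨by omega, by rw [hck]; norm_num⟩

theorem coQ_fix (F : Fix z Q β) {a : G} (ha : a ∈ coQ Q β) (hc : Commute β a) : a = 1 ∨ a = z :=
  F.inter (mem_fixQ.mpr ⟨(mem_coQ.mp ha).1, hc⟩) ha

theorem coQ_extraspecial (F : Fix z Q β) : Cfsg.IsExtraspecial 2 (coQ Q β) := by
  have hzc : z ∈ coQ Q β :=
    mem_coQ.mpr ⟨F.base.zmem, fun p hp => F.base.comm_z (mem_fixQ.mp hp).1⟩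
  have hcen : ∀ x ∈ coQ Q β, (∀ y ∈ coQ Q β, Commute y x) → x = 1 ∨ x = z := fun x hx hc =>
    F.base.center_mem (mem_coQ.mp hx).1 fun q hq => by
      obtain ⟨p, hp, hr⟩ := F.decomp hq
      rw [show q = p * (p⁻¹ * q) by group]
      exact ((mem_coQ.mp hx).2 p hp).mul_left (hc _ hr)
  refine H69.isExtraspecial_two_of ⟨z, hzc⟩
    (F.base.pre.1.1.1.to_le inf_le_left) (fun x => ?_) (fun x y => ?_) ?_ (fun x hx => ?_)
  · exact (F.base.sq_cases (mem_coQ.mp x.2).1).imp (fun h => Subtype.ext h) fun h => Subtype.ext h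
  · refine (F.base.comm_cases (mem_coQ.mp x.2).1 (mem_coQ.mp y.2).1).imp
      (fun h => Subtype.ext h.eq) fun h => Subtype.ext ?_
    show (x : G) * y = z * (y * x)
    rw [h, ((F.base.comm_z (mem_coQ.mp y.2).1).mul_left (F.base.comm_z (mem_coQ.mp x.2).1)).eq]
  · by_contra hn
    push Not at hn
    classical
    have := Fintype.ofFinite G
    have hsub : (coQ Q β : Set G).toFinset ⊆ ({1, z} : Finset G) := fun a ha => by
      rw [Set.mem_toFinset] at ha
      simpa using hcen a ha fun y hy => congrArg Subtype.val (hn ⟨y, hy⟩ ⟨a, ha⟩)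
    have h2 := (Finset.card_le_card hsub).trans Finset.card_le_two
    rw [Set.toFinset_card, ← Nat.card_eq_fintype_card,
      show Nat.card (coQ Q β : Set G) = Nat.card (coQ Q β) from rfl, F.card_parts.2] at h2
    omega
  · exact (hcen x x.2 fun y hy => congrArg Subtype.val (hx ⟨y, hy⟩)).imp
      (fun h => Subtype.ext h) fun h => Subtype.ext h

end Fix

end H65.Conway
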