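import Cfsg.Agent.H65.Conway.Frame
import Cfsg.Agent.H43.Witt

/-!
Groups of Conway type: the centraliser and the normaliser in `C(z)` of an element of order five with a
fixed point, and the conjugacy of these elements.
-/

set_option autoImplicit false

namespace H65.Conway

variable {G : Type*} [Group G] [Finite G] {z : G} {Q : Subgroup G} {β : G}

/-- An element commuting with `z`, in the centraliser. -/
def mkC {c : G} (hc : Commute c z) : Subgroup.centralizer ({z} : Set G) :=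
  ⟨c, Subgroup.mem_centralizer_singleton_iff.mpr hc⟩

omit [Finite G] in
theorem coe_commute (c : Subgroup.centralizer ({z} : Set G)) : Commute (c : G) z :=
  Subgroup.mem_centralizer_singleton_iff.mp c.2

/-- The action is the given pair of permutations. -/
def Rep (ρ : Subgroup.centralizer ({z} : Set G) →* O8) (c : Subgroup.centralizer ({z} : Set G))
    (σ τ : Equiv.Perm (Fin 5)) : Prop :=
  ρ c = pair (toO4 σ, toO4 τ)

/-- An isometry fixing the first summand as a set is a pair. -/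
theorem exists_pair_of (f : O8) (h : ∀ u, ((f : V8 ≃ₗ[ZMod 2] V8) (u, 0)).2 = 0) :
    ∃ σ τ, f = pair (toO4 σ, toO4 τ) := by
  set F : V8 ≃ₗ[ZMod 2] V8 := (f : V8 ≃ₗ[ZMod 2] V8) with hF
  have hu : ∀ u, F (u, 0) = ((F (u, 0)).1, 0) := fun u => Prod.ext rfl (h u)
  have hsurj : ∀ v, ∃ u, (F (u, 0)).1 = v := by
    have hinj : Function.Injective fun u : V4 => (F (u, 0)).1 := fun a b e => by
      have : F (a, 0) = F (b, 0) := by rw [hu a, hu b]; exact Prod.ext e rfl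
      exact (Prod.ext_iff.mp (F.injective this)).1
    exact (Finite.injective_iff_surjective.mp hinj)
  have hw : ∀ w, (F (0, w)).1 = 0 := fun w => by
    refine b4_nondeg _ fun v => ?_
    obtain ⟨u, rfl⟩ := hsurj v
    have hb := O8_b f (0, w) (u, 0)
    rw [← hF, b8, b8, h u] at hb
    simpa [b4_formula] using hb
  have hw' : ∀ w, F (0, w) = (0, (F (0, w)).2) := fun w => Prod.ext (hw w) rfl
  let g1 : V4 →ₗ[ZMod 2] V4 := (LinearMap.fst _ _ _) ∘ₗ F.toLinearMap ∘ₗ LinearMap.inl _ _ _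
  let g2 : V4 →ₗ[ZMod 2] V4 := (LinearMap.snd _ _ _) ∘ₗ F.toLinearMap ∘ₗ LinearMap.inr _ _ _
  have b1 : Function.Bijective g1 := by
    refine Finite.injective_iff_bijective.mp fun a b e => ?_
    have : F (a, 0) = F (b, 0) := by rw [hu a, hu b]; exact Prod.ext e rfl
    exact (Prod.ext_iff.mp (F.injective this)).1
  have b2 : Function.Bijective g2 := by
    refine Finite.injective_iff_bijective.mp fun a b e => ?_
    have : F (0, a) = F (0, b) := by rw [hw' a, hw' b]; exact Prod.ext rfl e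
    exact (Prod.ext_iff.mp (F.injective this)).2
  have q1 : ∀ u, q4 (g1 u) = q4 u := fun u => by
    have := mem_O8.mp f.2 (u, 0)
    rw [← hF, hu u] at this
    show q4 (F (u, 0)).1 = _
    simpa [q8, q4_zero] using this
  have q2 : ∀ u, q4 (g2 u) = q4 u := fun u => by
    have := mem_O8.mp f.2 (0, u)
    rw [← hF, hw' u] at this
    show q4 (F (0, u)).2 = _
    simpa [q8, q4_zero] using this
  let p1 : O4 := ⟨LinearEquiv.ofBijective g1 b1, q1⟩
  let p2 : O4 := ⟨LinearEquiv.ofBijective g2 b2, q2⟩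
  refine ⟨permEquiv p1, permEquiv p2, ?_⟩
  rw [toO4_permEquiv, toO4_permEquiv]
  refine Subtype.ext (LinearEquiv.ext fun v => ?_)
  rw [pair_apply]
  show F v = (g1 v.1, g2 v.2)
  conv_lhs => rw [show v = (v.1, 0) + (0, v.2) by simp, map_add, hu, hw']
  show ((F (v.1, 0)).1 + 0, 0 + (F (0, v.2)).2) = _
  rw [add_zero, zero_add]
  rfl

omit [Finite G] in
/-- A twisted orbit of length five has a fixed point. -/
theorem five_conj [Finite G] {P : Subgroup G} {a b : G} (hP : ¬ 5 ∣ Nat.card P)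
    (ha : a ^ 5 = 1) (hb : b ^ 5 = 1) (hn : ∀ q ∈ P, a * q * a⁻¹ ∈ P) (hab : b * a⁻¹ ∈ P) :
    ∃ q ∈ P, q * a * q⁻¹ = b := by
  classical
  have := Fintype.ofFinite P
  haveI : Fact (Nat.Prime 5) := ⟨by norm_num⟩
  have hmem : ∀ q ∈ P, b * q * a⁻¹ ∈ P := fun q hq => by
    rw [show b * q * a⁻¹ = (b * a⁻¹) * (a * q * a⁻¹) by group]
    exact mul_mem hab (hn q hq)
  let f : P → P := fun q => ⟨b * q * a⁻¹, hmem q q.2⟩
  have hf : Function.Bijective f := by
    refine Finite.injective_iff_bijective.mp fun p q e => Subtype.ext ?_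
    exact mul_left_cancel (mul_right_cancel (congrArg Subtype.val e))
  let σ : Equiv.Perm P := Equiv.ofBijective f hf
  have hpow : ∀ n : ℕ, ∀ q : P, (((σ ^ n) q : P) : G) = b ^ n * q * (a ^ n)⁻¹ := by
    intro n
    induction n with
    | zero => intro q; simp
    | succ n ih =>
      intro q
      rw [pow_succ', Equiv.Perm.mul_apply, pow_succ', pow_succ', mul_inv_rev]
      show b * (((σ ^ n) q : P) : G) * a⁻¹ = _
      rw [ih]
      group
  obtain ⟨q, hq⟩ := Equiv.Perm.exists_fixed_point_of_prime (σ := σ) (p := 5) (n := 1)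
    (by rwa [← Nat.card_eq_fintype_card]) (by
      refine Equiv.ext fun q => Subtype.ext ?_
      rw [pow_one, hpow, ha, hb]
      simp)
  refine ⟨q, q.2, ?_⟩
  have e : b * (q : G) * a⁻¹ = q := congrArg Subtype.val hq
  calc (q : G) * a * (q : G)⁻¹ = b * q * a⁻¹ * a * (q : G)⁻¹ := by rw [e]
    _ = b := by group

theorem pow_mod_five {M : Type*} [Monoid M] {x : M} (hx : x ^ 5 = 1) (j : ℕ) : x ^ j = x ^ (j % 5) := by
  conv_lhs => rw [← Nat.mod_add_div j 5, pow_add, pow_mul, hx, one_pow, mul_one]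

namespace Base

theorem not_five (B : Base z Q) : ¬ 5 ∣ Nat.card Q := by rw [B.card]; norm_num

theorem five_not_mem (B : Base z Q) {a : G} (ha : a ^ 5 = 1) (h : a ∈ Q) : a = 1 := by
  by_contra hne
  apply B.not_five
  have := orderOf_dvd_natCard (⟨a, h⟩ : Q)
  rwa [Subgroup.orderOf_mk, orderOf_eq_prime (hp := ⟨by norm_num⟩) ha hne] at this

end Base

namespace Frame

variable {co : G → V8} {ρ : Subgroup.centralizer ({z} : Set G) →* O8}

theorem conj_co (H : Frame z Q β co ρ) {c a : G} (hc : Commute c z) (ha : a ∈ Q) :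
    co (c * a * c⁻¹) = ((ρ (mkC hc) : O8) : V8 ≃ₗ[ZMod 2] V8) (co a) := H.acts (mkC hc) a ha

theorem exists_of_coord (H : Frame z Q β co ρ) (v : V8) : ∃ a ∈ Q, co a = v := H.crd.surj v

/-- Elements whose action fixes the first summand as a set preserve the fixed group. -/
theorem conj_fix (H : Frame z Q β co ρ) {c : Subgroup.centralizer ({z} : Set G)}
    {σ τ : Equiv.Perm (Fin 5)} (hc : Rep ρ c σ τ) {a : G} (ha : a ∈ fixQ Q β) :
    (c : G) * a * (c : G)⁻¹ ∈ fixQ Q β := by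
  have haQ := (mem_fixQ.mp ha).1
  rw [H.mem_fix _ (H.fx.base.nor _ (coe_commute c) a haQ), H.acts c a haQ, hc, pair_apply,
    toO4_apply, toO4_apply, (H.mem_fix a haQ).mp ha]
  exact map_zero _

/-- An element centralising `β` acts by a pair. -/
theorem exists_rep (H : Frame z Q β co ρ) {c : Subgroup.centralizer ({z} : Set G)}
    (hc : ∀ a ∈ fixQ Q β, (c : G) * a * (c : G)⁻¹ ∈ fixQ Q β) : ∃ σ τ, Rep ρ c σ τ := by
  refine exists_pair_of (ρ c) fun u => ?_
  obtain ⟨a, ha, hau⟩ := H.exists_of_coord (u, 0)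
  rw [← hau, ← H.acts c a ha]
  exact (H.mem_fix _ (H.fx.base.nor _ (coe_commute c) a ha)).mp (hc a ((H.mem_fix a ha).mpr (by rw [hau])))

omit [Finite G] in
theorem conj_fix_of_commute {c a : G} (hc : Commute c β) (ha : a ∈ fixQ Q β)
    (hQ : c * a * c⁻¹ ∈ Q) : c * a * c⁻¹ ∈ fixQ Q β :=
  mem_fixQ.mpr ⟨hQ, (hc.symm.mul_right (mem_fixQ.mp ha).2).mul_right hc.symm.inv_right⟩

theorem exists_rep_of_commute (H : Frame z Q β co ρ) {c : Subgroup.centralizer ({z} : Set G)}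
    (hc : Commute (c : G) β) : ∃ σ τ, Rep ρ c σ τ :=
  H.exists_rep fun a ha =>
    conj_fix_of_commute hc ha (H.fx.base.nor _ (coe_commute c) a (mem_fixQ.mp ha).1)

omit [Finite G] in
theorem rep_unique {c : Subgroup.centralizer ({z} : Set G)} {σ τ σ' τ' : Equiv.Perm (Fin 5)}
    (h : Rep ρ c σ τ) (h' : Rep ρ c σ' τ') : σ = σ' ∧ τ = τ' := by
  have e := pair_injective (h.symm.trans h')
  exact ⟨toO4_bijective.1 (Prod.ext_iff.mp e).1, toO4_bijective.1 (Prod.ext_iff.mp e).2⟩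

omit [Finite G] in
theorem rep_mul {c d : Subgroup.centralizer ({z} : Set G)} {σ τ σ' τ' : Equiv.Perm (Fin 5)}
    (h : Rep ρ c σ τ) (h' : Rep ρ d σ' τ') : Rep ρ (c * d) (σ * σ') (τ * τ') := by
  rw [Rep, map_mul, h, h', ← map_mul, Prod.mk_mul_mk, ← map_mul, ← map_mul]

omit [Finite G] in
theorem rep_inv {c : Subgroup.centralizer ({z} : Set G)} {σ τ : Equiv.Perm (Fin 5)}
    (h : Rep ρ c σ τ) : Rep ρ c⁻¹ σ⁻¹ τ⁻¹ := by
  rw [Rep, map_inv, h, ← map_inv, Prod.inv_mk, ← map_inv, ← map_inv]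

omit [Finite G] in
theorem rep_one : Rep ρ 1 1 1 := by
  rw [Rep, map_one, map_one]
  exact (map_one pair).symm

omit [Finite G] in
theorem rep_pow {c : Subgroup.centralizer ({z} : Set G)} {σ τ : Equiv.Perm (Fin 5)}
    (h : Rep ρ c σ τ) (n : ℕ) : Rep ρ (c ^ n) (σ ^ n) (τ ^ n) := by
  induction n with
  | zero => simpa using rep_one
  | succ n ih => rw [pow_succ, pow_succ, pow_succ]; exact rep_mul ih h

theorem rep_mem (H : Frame z Q β co ρ) {c : Subgroup.centralizer ({z} : Set G)}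
    (h : (c : G) ∈ Q) : Rep ρ c 1 1 := by
  rw [Rep, (H.ker c).mpr h, map_one]
  exact (map_one pair).symm

theorem rep_eq_iff (H : Frame z Q β co ρ) {c d : Subgroup.centralizer ({z} : Set G)}
    {σ τ : Equiv.Perm (Fin 5)} (h : Rep ρ c σ τ) :
    Rep ρ d σ τ ↔ (c : G)⁻¹ * d ∈ Q := by
  have e : (c : G)⁻¹ * d = ((c⁻¹ * d : Subgroup.centralizer ({z} : Set G)) : G) := rfl
  rw [e, ← H.ker, map_mul, map_inv, inv_mul_eq_one, Rep, ← h]
  exact eq_comm

/-- The parity of a representation. -/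
theorem rep_sign (H : Frame z Q β co ρ) {c : Subgroup.centralizer ({z} : Set G)}
    {σ τ : Equiv.Perm (Fin 5)} (h : Rep ρ c σ τ) : Equiv.Perm.sign σ = Equiv.Perm.sign τ := by
  have : pair (toO4 σ, toO4 τ) ∈ R8 := h ▸ H.range ▸ ⟨c, rfl⟩
  rwa [pair_mem_R8_iff, permEquiv_toO4, permEquiv_toO4] at this

theorem exists_rep_pair (H : Frame z Q β co ρ) {σ τ : Equiv.Perm (Fin 5)}
    (h : Equiv.Perm.sign σ = Equiv.Perm.sign τ) : ∃ c, Rep ρ c σ τ := by
  have : pair (toO4 σ, toO4 τ) ∈ ρ.range := by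
    rw [H.range, pair_mem_R8_iff, permEquiv_toO4, permEquiv_toO4]; exact h
  exact this

/-- The permutation of `β`. -/
theorem exists_rep_beta (H : Frame z Q β co ρ) :
    ∃ τ₀, Rep ρ (mkC H.fx.comm) 1 τ₀ ∧ τ₀ ^ 5 = 1 ∧ τ₀ ≠ 1 := by
  obtain ⟨σ, τ, h⟩ := H.exists_rep_of_commute (c := mkC H.fx.comm) (Commute.refl β)
  have hσ : σ = 1 := by
    refine toO4_bijective.1 (Subtype.ext (LinearEquiv.ext fun u => ?_))
    obtain ⟨a, ha, hau⟩ := H.exists_of_coord (u, 0)
    have hf : a ∈ fixQ Q β := (H.mem_fix a ha).mpr (by rw [hau])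
    have e := H.acts (mkC H.fx.comm) a ha
    rw [show ((mkC H.fx.comm : Subgroup.centralizer ({z} : Set G)) : G) = β from rfl,
      (mem_fixQ.mp hf).2.eq, mul_inv_cancel_right, h, hau, pair_apply] at e
    rw [map_one]
    exact (Prod.ext_iff.mp e).1.symm
  subst hσ
  refine ⟨τ, h, ?_, fun e => H.fx.ne (H.fx.base.five_not_mem H.fx.five ?_)⟩
  · have h5 := rep_pow h 5
    rw [show (mkC H.fx.comm) ^ 5 = 1 from Subtype.ext H.fx.five] at h5
    exact (rep_unique h5 rep_one).2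
  · subst e
    exact (H.ker _).mp (h.trans (by rw [map_one]; exact map_one pair))

/-- The action of the centraliser of `β`. -/
theorem commute_rep (H : Frame z Q β co ρ) {τ₀ : Equiv.Perm (Fin 5)}
    (hβ : Rep ρ (mkC H.fx.comm) 1 τ₀) (h5 : τ₀ ^ 5 = 1) (h1 : τ₀ ≠ 1)
    {c : Subgroup.centralizer ({z} : Set G)} (hc : Commute (c : G) β) :
    ∃ σ, ∃ k : Fin 5, Rep ρ c σ (τ₀ ^ (k : ℕ)) ∧ Equiv.Perm.sign σ = 1 := by
  obtain ⟨σ, τ, h⟩ := H.exists_rep_of_commute hc
  have e : c * mkC H.fx.comm = mkC H.fx.comm * c := Subtype.ext hc.eq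
  have h' := rep_mul h hβ
  rw [e] at h'
  obtain ⟨k, rfl⟩ := five_cent τ₀ τ h5 h1 (rep_unique h' (rep_mul hβ h)).2
  refine ⟨σ, k, h, ?_⟩
  rw [H.rep_sign h, map_pow, five_sign τ₀ h5, one_pow]

/-- Lifting a pair commuting with `β`. -/
theorem exists_lift (H : Frame z Q β co ρ) {τ₀ : Equiv.Perm (Fin 5)}
    (hβ : Rep ρ (mkC H.fx.comm) 1 τ₀) {σ τ : Equiv.Perm (Fin 5)} (j : ℕ)
    (hs : Equiv.Perm.sign σ = Equiv.Perm.sign τ) (hj : τ * τ₀ * τ⁻¹ = τ₀ ^ j) :
    ∃ c : Subgroup.centralizer ({z} : Set G), Rep ρ c σ τ ∧ (c : G) * β * (c : G)⁻¹ = β ^ j := by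
  obtain ⟨c, hc⟩ := H.exists_rep_pair hs
  have h1 := rep_mul (rep_mul hc hβ) (rep_inv hc)
  rw [mul_one, mul_inv_cancel, hj] at h1
  have h2 := rep_pow hβ j
  rw [one_pow] at h2
  have hm := (H.rep_eq_iff h2).mp h1
  have hm' : (β ^ j)⁻¹ * ((c : G) * β * (c : G)⁻¹) ∈ Q := by simpa [mkC] using hm
  have hcz := coe_commute c
  obtain ⟨q, hq, e⟩ := five_conj (a := (c : G) * β * (c : G)⁻¹) (b := β ^ j) H.fx.base.not_five
    (by rw [conj_pow, H.fx.five, mul_one, mul_inv_cancel])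
    (by rw [← pow_mul, mul_comm, pow_mul, H.fx.five, one_pow])
    (H.fx.base.nor _ ((hcz.mul_left H.fx.comm).mul_left hcz.inv_left))
    (by
      have := inv_mem hm'
      have h3 := H.fx.base.nor _ (H.fx.comm.pow_left j) _ this
      rw [show β ^ j * ((β ^ j)⁻¹ * ((c : G) * β * (c : G)⁻¹))⁻¹ * (β ^ j)⁻¹ =
        β ^ j * ((c : G) * β * (c : G)⁻¹)⁻¹ by group] at h3
      exact h3)
  refine ⟨mkC (H.fx.base.comm_z hq) * c, ?_, ?_⟩
  · have := rep_mul (H.rep_mem (c := mkC (H.fx.base.comm_z hq)) hq) hc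
    rwa [one_mul, one_mul] at this
  · show q * (c : G) * β * (q * (c : G))⁻¹ = β ^ j
    rw [← e]; group

/-- Elements of the centraliser of `β` with given permutation of the first summand. -/
theorem exists_cent (H : Frame z Q β co ρ) {τ₀ : Equiv.Perm (Fin 5)}
    (hβ : Rep ρ (mkC H.fx.comm) 1 τ₀) {σ : Equiv.Perm (Fin 5)} (hs : Equiv.Perm.sign σ = 1) :
    ∃ c : Subgroup.centralizer ({z} : Set G), Rep ρ c σ 1 ∧ Commute (c : G) β := by
  obtain ⟨c, hc, e⟩ := H.exists_lift hβ 1 (σ := σ) (τ := 1) (by rw [hs, map_one]) (by simp)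
  exact ⟨c, hc, mul_inv_eq_iff_eq_mul.mp (by simpa using e)⟩

/-- Every automorphism of `⟨β⟩` is induced in `C(z)`. -/
theorem exists_normalizing (H : Frame z Q β co ρ) {j : ℕ} (hj : ¬ 5 ∣ j) :
    ∃ c : G, Commute c z ∧ c * β * c⁻¹ = β ^ j := by
  obtain ⟨τ₀, hβ, h5, h1⟩ := H.exists_rep_beta
  obtain ⟨τ, hτ⟩ := five_power_conj τ₀ h5 h1 ⟨j % 5, Nat.mod_lt _ (by norm_num)⟩
    (fun e => hj (Nat.dvd_of_mod_eq_zero (congrArg Fin.val e)))
  have hj' : τ * τ₀ * τ⁻¹ = τ₀ ^ j := by rw [hτ, ← pow_mod_five h5 j]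
  obtain ⟨σ, hσ⟩ : ∃ σ : Equiv.Perm (Fin 5), Equiv.Perm.sign σ = Equiv.Perm.sign τ := ⟨τ, rfl⟩
  obtain ⟨c, -, e⟩ := H.exists_lift hβ j hσ hj'
  exact ⟨c, coe_commute c, e⟩

end Frame

end H65.Conway
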