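import Cfsg.Agent.H36.J2U.Cent

/-!
Groups of Hall–Janko type: the involution centraliser `2^(1+4).A₅` splits.
-/

set_option autoImplicit false

namespace H65.Conway

open H36.HJ

local notation "A5" => alternatingGroup (Fin 5)

theorem a5_inverted : ∀ a : A5, a * a = 1 → a ≠ 1 →
    ∃ b : A5, b ^ 5 = 1 ∧ b ≠ 1 ∧ a * b * a⁻¹ = b⁻¹ := by
  decide +kernel

variable {G : Type*} [Group G] [Finite G] {z : G} {Q : Subgroup G}
  {χ : Subgroup.centralizer ({z} : Set G) →* A5}

/-- The extension splits. -/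
theorem exists_section (W : Two z Q χ) :
    ∃ s : A5 →* G, ∀ a, Commute (s a) z ∧ (s a ∈ Q → a = 1) := by
  classical
  have H := W.toHyp
  obtain ⟨u, h, x, c, X0, S⟩ := W.exists_full
  obtain ⟨e⟩ := S.X0_iso
  have hzX : z ∈ X0 := S.inE_mem (z := z) (u := u) Full.inE_z
  obtain ⟨b, hb5, hb1, hbi⟩ := a5_inverted (e ⟨z, hzX⟩)
    (by rw [← map_mul, ← map_one e]; exact congrArg e (Subtype.ext H.zz))
    (fun h => H.z_ne (congrArg Subtype.val (e.map_eq_one_iff.mp h)))
  obtain ⟨⟨w, hwX⟩, rfl⟩ := e.surjective b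
  have hwo : orderOf w = 5 := by
    have := Fact.mk (show Nat.Prime 5 by norm_num)
    refine orderOf_eq_prime ?_ fun e1 => hb1 ?_
    · have := e.map_eq_one_iff.mp ((map_pow e _ 5).trans hb5)
      exact congrArg Subtype.val this
    · rw [show (⟨w, hwX⟩ : X0) = 1 from Subtype.ext e1, map_one]
  have hinv : z * w * z⁻¹ = w⁻¹ := by
    have : (⟨z, hzX⟩ : X0) * ⟨w, hwX⟩ * (⟨z, hzX⟩ : X0)⁻¹ = (⟨w, hwX⟩ : X0)⁻¹ :=
      e.injective (by rw [map_mul, map_mul, map_inv, map_inv]; exact hbi)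
    exact congrArg Subtype.val this
  set D := H36.J2U.DH z w
  have hD : Nat.card D = 60 := H36.J2U.card_DH S hwX hwo hinv
  have hDC : D ≤ Subgroup.centralizer ({z} : Set G) := inf_le_right
  let φ : D →* A5 := χ.comp (Subgroup.inclusion hDC)
  -- the kernel meets the four-group trivially, so it is trivial
  have hR : D ⊓ Q = ⊥ := by
    set R := D ⊓ Q with hRdef
    set F := FF (x * c) X0 with hFdef
    have hFD : F ≤ D := le_trans S.FF_le_DD (H36.J2U.DD_le_DH S hwX)
    have hdis : F ⊓ R = ⊥ := by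
      refine eq_bot_iff.mpr fun f hf => Subgroup.mem_bot.mpr ?_
      by_contra hf1
      obtain ⟨hfF, -, hfQ⟩ := hf
      have hc := S.FF_conj_y hfF hf1
      have hn : ¬ IsConj z f := fun hzf => S.two.nconj S.ctx (by
        first
        | exact hzf.trans hc.symm
        | exact hzf.trans hc)
      exact H.not_mem_of_nconj (S.FF_sq hfF) hf1 hn hfQ
    have hnorm : F ≤ Subgroup.normalizer (R : Set G) := fun f hf => by
      have hfz : Commute f z := mem_C.mp (hDC (hFD hf))
      refine Subgroup.mem_normalizer_iff.mpr fun r => ⟨fun hr => ?_, fun hr => ?_⟩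
      · exact ⟨D.mul_mem (D.mul_mem (hFD hf) hr.1) (D.inv_mem (hFD hf)), H.conj_memQ hfz hr.2⟩
      · have h2 := H.conj_memQ' hfz hr.2
        have h1 := D.mul_mem (D.mul_mem (D.inv_mem (hFD hf)) hr.1) (hFD hf)
        rw [show f⁻¹ * (f * r * f⁻¹) * f = r by group] at h1 h2
        exact ⟨h1, h2⟩
    let P : Subgroup G := F ⊔ R
    have hP : IsPGroup 2 P := by
      have hFp : IsPGroup 2 F := IsPGroup.of_card (n := 2) (by rw [hFdef, S.card_FF]; norm_num)
      exact hFp.to_sup_of_normal_right' (H.isPGroup_Q.to_le inf_le_right) hnorm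
    have hPD : P ≤ D := sup_le hFD inf_le_left
    have := Fact.mk Nat.prime_two
    obtain ⟨n, hn⟩ := hP.exists_card_eq
    have hdvd : Nat.card P ∣ 60 := hD ▸ Subgroup.card_dvd_of_le hPD
    have hn2 : n ≤ 2 := by
      by_contra h3
      rw [hn] at hdvd
      have : 2 ^ 3 ∣ 60 := (pow_dvd_pow 2 (by omega)).trans hdvd
      norm_num at this
    have hle : Nat.card P ≤ Nat.card F := by
      rw [hn, hFdef, S.card_FF]
      calc 2 ^ n ≤ 2 ^ 2 := Nat.pow_le_pow_right (by norm_num) hn2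
        _ = 4 := rfl
    have hFP : F = P := Subgroup.eq_of_le_of_card_ge le_sup_left hle
    refine eq_bot_iff.mpr fun r hr => ?_
    rw [← hdis]
    exact ⟨hFP ▸ Subgroup.mem_sup_right hr, hr⟩
  have hinj : Function.Injective φ := (injective_iff_map_eq_one φ).mpr fun d hd => by
    have hm : (d : G) ∈ D ⊓ Q := ⟨d.2, (H.ker _).mp hd⟩
    rw [hR, Subgroup.mem_bot] at hm
    exact Subtype.ext hm
  have hbij : Function.Bijective φ := by
    have := Fintype.ofFinite D
    refine (Fintype.bijective_iff_injective_and_card φ).mpr ⟨hinj, ?_⟩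
    rw [← Nat.card_eq_fintype_card, hD, card_alternatingGroup, Fintype.card_fin]
    decide
  let ψ := MulEquiv.ofBijective φ hbij
  refine ⟨D.subtype.comp ψ.symm.toMonoidHom, fun a => ⟨mem_C.mp (hDC (ψ.symm a).2), fun hq => ?_⟩⟩
  have h1 : φ (ψ.symm a) = 1 := (H.ker _).mpr hq
  rwa [show φ (ψ.symm a) = a from ψ.apply_symm_apply a] at h1

end H65.Conway
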