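import Cfsg.Agent.H65.Conway.Ext
import Cfsg.Agent.H65.Conway.A5Hom
import Cfsg.Agent.H65.Conway.J2Split

/-!
Groups of Conway type: the complement `A₅` centralising the fixed group of `β` and containing `β`;
its uniqueness and existence.
-/

set_option autoImplicit false

namespace H65.Conway

local notation "A5" => alternatingGroup (Fin 5)

variable {G : Type*} [Group G] [Finite G] {z : G} {Q : Subgroup G} {β : G}

namespace Frame

variable {co : G → V8} {ρ : Subgroup.centralizer ({z} : Set G) →* O8}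

/-- A normalised complement. -/
structure Comp (H : Frame z Q β co ρ) (s : A5 →* G) : Prop where
  hz : ∀ a, Commute (s a) z
  fix : ∀ a, ∀ p ∈ fixQ Q β, Commute (s a) p
  rep : ∀ a, Rep ρ (mkC (hz a)) 1 ((a : A5) : Equiv.Perm (Fin 5))
  beta : ∃ a, s a = β

/-- Elements centralising the fixed group act on the moving part only. -/
theorem rep_of_fix (H : Frame z Q β co ρ) {c : Subgroup.centralizer ({z} : Set G)}
    (hc : ∀ p ∈ fixQ Q β, Commute (c : G) p) :
    ∃ τ, Rep ρ c 1 τ ∧ Equiv.Perm.sign τ = 1 := by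
  obtain ⟨σ, τ, h⟩ := H.exists_rep (c := c) fun a ha => by
    rw [(hc a ha).eq, mul_inv_cancel_right]; exact ha
  obtain rfl : σ = 1 := by
    refine toO4_bijective.1 (Subtype.ext (LinearEquiv.ext fun u => ?_))
    obtain ⟨a, ha, hau⟩ := H.exists_of_coord (u, 0)
    have hf : a ∈ fixQ Q β := (H.mem_fix a ha).mpr (by rw [hau])
    have e := H.acts c a ha
    rw [(hc a hf).eq, mul_inv_cancel_right, h, hau, pair_apply] at e
    rw [map_one]
    exact (Prod.ext_iff.mp e).1.symm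
  exact ⟨τ, h, (H.rep_sign h).symm.trans (map_one _)⟩

theorem mem_coQ_of_rep (H : Frame z Q β co ρ) {c : Subgroup.centralizer ({z} : Set G)}
    (hc : ∀ p ∈ fixQ Q β, Commute (c : G) p) (h : Rep ρ c 1 1) : (c : G) ∈ coQ Q β :=
  mem_coQ.mpr ⟨(H.ker c).mp (h.trans (by rw [map_one]; exact map_one pair)),
    fun p hp => (hc p hp).symm⟩

/-- A homomorphic image of `A₅` fixing an element modulo the centre centralises it. -/
theorem fix_commute (H : Frame z Q β co ρ) (s : A5 →* G) (hz : ∀ a, Commute (s a) z) {p : G}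
    (hp : p ∈ Q) (hfix : ∀ a, co (s a * p * (s a)⁻¹) = co p) (a : A5) : Commute (s a) p := by
  have B := H.fx.base
  have hval : ∀ x, p⁻¹ * (s x * p * (s x)⁻¹) = 1 ∨ p⁻¹ * (s x * p * (s x)⁻¹) = z := fun x => by
    have hm := B.nor _ (hz x) p hp
    exact H.crd.ker _ (mul_mem (inv_mem hp) hm)
      (by rw [H.crd.mul _ (inv_mem hp) _ hm, H.crd.inv hp, hfix, neg_add_cancel])
  have hvc : ∀ x y, Commute (p⁻¹ * (s x * p * (s x)⁻¹)) (p⁻¹ * (s y * p * (s y)⁻¹)) := fun x y => by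
    rcases hval x with h | h <;> rcases hval y with h' | h' <;> rw [h, h']
    all_goals first | exact Commute.one_left _ | exact Commute.one_right _ | exact Commute.refl _
  let f : A5 →* G := MonoidHom.mk' (fun x => p⁻¹ * (s x * p * (s x)⁻¹)) fun x y => by
    have hy : Commute (s x) (p⁻¹ * (s y * p * (s y)⁻¹)) := by
      rcases hval y with h | h <;> rw [h]
      exacts [Commute.one_right _, hz x]
    calc p⁻¹ * (s (x * y) * p * (s (x * y))⁻¹)
        = p⁻¹ * (s x * p * ((p⁻¹ * (s y * p * (s y)⁻¹)) * (s x)⁻¹)) := by rw [map_mul]; group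
      _ = p⁻¹ * (s x * p * ((s x)⁻¹ * (p⁻¹ * (s y * p * (s y)⁻¹)))) := by rw [← hy.inv_left.eq]
      _ = _ := by group
  have h := hom_trivial' f (fun x y => (hvc x y).eq) a
  exact mul_inv_eq_iff_eq_mul.mp (inv_mul_eq_one.mp h).symm

/-- Normalising a complement. -/
theorem exists_comp_of (H : Frame z Q β co ρ) (s : A5 →* G) (hz : ∀ a, Commute (s a) z)
    (hfix : ∀ a, ∀ p ∈ fixQ Q β, Commute (s a) p) (hQ : ∀ a, s a ∈ Q → a = 1) :
    ∃ s', H.Comp s' := by
  classical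
  choose T hT hTs using fun a => H.rep_of_fix (c := mkC (hz a)) (hfix a)
  have hTmul : ∀ a b, T (a * b) = T a * T b := fun a b => by
    have h := rep_mul (hT a) (hT b)
    rw [one_mul, show mkC (hz a) * mkC (hz b) = mkC (hz (a * b)) from
      Subtype.ext (map_mul s a b).symm] at h
    exact (rep_unique (hT (a * b)) h).2
  let π : A5 →* A5 := MonoidHom.mk'
    (fun a => ⟨T a, Equiv.Perm.mem_alternatingGroup.mpr (hTs a)⟩)
    (fun a b => Subtype.ext (hTmul a b))
  have hπ : Function.Injective π := (injective_iff_map_eq_one π).mpr fun a ha => by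
    refine hQ a (mem_coQ.mp (H.mem_coQ_of_rep (c := mkC (hz a)) (hfix a) ?_)).1
    have := hT a
    rwa [show T a = 1 from congrArg Subtype.val ha] at this
  let e : A5 ≃* A5 := MulEquiv.ofBijective π (Finite.injective_iff_bijective.mp hπ)
  let s₁ : A5 →* G := s.comp e.symm.toMonoidHom
  have hz₁ : ∀ a, Commute (s₁ a) z := fun a => hz _
  have hf₁ : ∀ a, ∀ p ∈ fixQ Q β, Commute (s₁ a) p := fun a => hfix _
  have hr₁ : ∀ a, Rep ρ (mkC (hz₁ a)) 1 (a : Equiv.Perm (Fin 5)) := fun a => by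
    have h := hT (e.symm a)
    rwa [show T (e.symm a) = (a : Equiv.Perm (Fin 5)) from
      congrArg Subtype.val (e.apply_symm_apply a)] at h
  obtain ⟨τ₀, hβ, h5, h1⟩ := H.exists_rep_beta
  let a₀ : A5 := ⟨τ₀, Equiv.Perm.mem_alternatingGroup.mpr (five_sign τ₀ h5)⟩
  have hβfix : ∀ p ∈ fixQ Q β, Commute β p := fun p hp => (mem_fixQ.mp hp).2
  have hd : β * (s₁ a₀)⁻¹ ∈ coQ Q β := by
    refine H.mem_coQ_of_rep (c := mkC H.fx.comm * (mkC (hz₁ a₀))⁻¹)
      (fun p hp => (hβfix p hp).mul_left (hf₁ a₀ p hp).inv_left) ?_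
    have := rep_mul hβ (rep_inv (hr₁ a₀))
    rwa [inv_one, one_mul, show τ₀ * ((a₀ : A5) : Equiv.Perm (Fin 5))⁻¹ = 1 from mul_inv_cancel τ₀]
      at this
  have ha5 : (s₁ a₀) ^ 5 = 1 := by
    rw [← map_pow, show a₀ ^ 5 = 1 from Subtype.ext h5, map_one]
  obtain ⟨q, hq, hqe⟩ := five_conj (P := coQ Q β) (a := s₁ a₀) (b := β)
    (by rw [H.fx.card_parts.2]; norm_num) ha5 H.fx.five (fun r hr => by
      refine mem_coQ.mpr ⟨H.fx.base.nor _ (hz₁ a₀) r (mem_coQ.mp hr).1, fun p hp => ?_⟩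
      have h1 := hf₁ a₀ p hp
      exact (h1.symm.mul_right ((mem_coQ.mp hr).2 p hp)).mul_right h1.symm.inv_right) hd
  let s₂ : A5 →* G := (MulAut.conj q).toMonoidHom.comp s₁
  have hqQ := (mem_coQ.mp hq).1
  have hz₂ : ∀ a, Commute (s₂ a) z := fun a =>
    ((H.fx.base.comm_z hqQ).mul_left (hz₁ a)).mul_left (H.fx.base.comm_z hqQ).inv_left
  refine ⟨s₂, hz₂, fun a p hp => ?_, fun a => ?_, a₀, hqe⟩
  · exact (((mem_coQ.mp hq).2 p hp).symm.mul_left (hf₁ a p hp)).mul_left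
      ((mem_coQ.mp hq).2 p hp).symm.inv_left
  · have hqr := H.rep_mem (c := mkC (H.fx.base.comm_z hqQ)) hqQ
    have := rep_mul (rep_mul hqr (hr₁ a)) (rep_inv hqr)
    simp only [one_mul, inv_one, mul_one] at this
    exact this

namespace Comp

variable {H : Frame z Q β co ρ} {s s' : A5 →* G}

theorem beta_eq (S : H.Comp s) {τ₀ : Equiv.Perm (Fin 5)} (hβ : Rep ρ (mkC H.fx.comm) 1 τ₀)
    {a : A5} (ha : s a = β) : (a : Equiv.Perm (Fin 5)) = τ₀ := by
  have := S.rep a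
  rw [show mkC (S.hz a) = mkC H.fx.comm from Subtype.ext ha] at this
  exact (rep_unique this hβ).2

/-- Complements are equal. -/
theorem unique (S : H.Comp s) (S' : H.Comp s') : s' = s := by
  classical
  obtain ⟨τ₀, hβ, h5, h1⟩ := H.exists_rep_beta
  obtain ⟨a₀, ha₀⟩ := S.beta
  obtain ⟨a₀', ha₀'⟩ := S'.beta
  obtain rfl : a₀' = a₀ := Subtype.ext ((S'.beta_eq hβ ha₀').trans (S.beta_eq hβ ha₀).symm)
  have B := H.fx.base
  set x : A5 → G := fun a => s' a * (s a)⁻¹ with hx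
  have hxm : ∀ a, x a ∈ coQ Q β := fun a => by
    refine H.mem_coQ_of_rep (c := mkC (S'.hz a) * (mkC (S.hz a))⁻¹)
      (fun p hp => (S'.fix a p hp).mul_left (S.fix a p hp).inv_left) ?_
    have := rep_mul (S'.rep a) (rep_inv (S.rep a))
    simpa using this
  have hxmul : ∀ a b, x (a * b) = x a * (s a * x b * (s a)⁻¹) := fun a b => by
    simp only [hx, map_mul]; group
  let D : A5 → V4 := fun a => (co (x a)).2
  have hD : ∀ a b, D (a * b) = D a + act (a : Equiv.Perm (Fin 5)) (D b) := by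
    intro a b
    have hb := (mem_coQ.mp (hxm b)).1
    have hm := B.nor _ (S.hz a) _ hb
    show (co (x (a * b))).2 = _
    rw [hxmul, H.crd.mul _ (mem_coQ.mp (hxm a)).1 _ hm, H.conj_co (S.hz a) hb, S.rep a, pair_apply,
      toO4_apply, toO4_apply]
    rfl
  have hD0 : D a₀' = 0 := by
    show (co (s' a₀' * (s a₀')⁻¹)).2 = 0
    rw [ha₀', ha₀, mul_inv_cancel, H.crd.one]
    rfl
  have hA5 : a₀' ^ 5 = 1 := Subtype.ext (by
    rw [SubgroupClass.coe_pow, S.beta_eq hβ ha₀, h5]; rfl)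
  have hA1 : a₀' ≠ 1 := fun e => h1 (by rw [← S.beta_eq hβ ha₀, e]; rfl)
  have hzero := cocycle_vanish (Subgroup.subtype A5) (Subgroup.subtype_injective _) D hD hA5 hA1 hD0
  have hval : ∀ a, x a = 1 ∨ x a = z := fun a => by
    have hq := (mem_coQ.mp (hxm a)).1
    exact H.crd.ker _ hq (Prod.ext ((H.mem_co _ hq).mp (hxm a)) (hzero a))
  let f : A5 →* G := MonoidHom.mk' x fun a b => by
    rw [hxmul]
    congr 1
    have : Commute (s a) (x b) := by
      rcases hval b with h | h <;> rw [h]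
      exacts [Commute.one_right _, S.hz a]
    rw [this.eq, mul_inv_cancel_right]
  refine MonoidHom.ext fun a => ?_
  have h := hom_trivial' f (fun a b => by
    show x a * x b = x b * x a
    rcases hval a with h | h <;> rcases hval b with h' | h' <;> rw [h, h'] <;> simp) a
  exact mul_inv_eq_one.mp h

end Comp

/-- A complement exists. -/
theorem exists_comp (H : Frame z Q β co ρ) : ∃ s, H.Comp s := by
  classical
  have B := H.fx.base
  obtain ⟨τ₀, hβ, h5, h1⟩ := H.exists_rep_beta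
  obtain ⟨σ, hσ, hσ5, hσ1⟩ : ∃ σ : Equiv.Perm (Fin 5), Equiv.Perm.sign σ = 1 ∧ σ ^ 5 = 1 ∧ σ ≠ 1 :=
    ⟨finRotate 5, by decide +kernel, by decide +kernel, by decide +kernel⟩
  obtain ⟨c, hc, hcb⟩ := H.exists_cent hβ hσ
  set β₂ : G := ((c ^ 16 : Subgroup.centralizer ({z} : Set G)) : G) with hβ₂
  have hr : Rep ρ (c ^ 16) σ 1 := by
    have := rep_pow hc 16
    rwa [one_pow, pow_mod_five hσ5 16, show 16 % 5 = 1 from rfl, pow_one] at this
  have h25 : β₂ ^ 5 = 1 := by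
    have hm : ((c ^ 5 : Subgroup.centralizer ({z} : Set G)) : G) ∈ Q := (H.ker _).mp (by
      rw [rep_pow hc 5, one_pow, hσ5, map_one]; exact map_one pair)
    rw [SubgroupClass.coe_pow] at hm
    rw [hβ₂, SubgroupClass.coe_pow, ← pow_mul, show 16 * 5 = 5 * (4 * 4) from rfl, pow_mul, pow_mul]
    have h4 : ((c : G) ^ 5) ^ 4 = 1 := by
      rw [show (4 : ℕ) = 2 * 2 from rfl, pow_mul, pow_two]
      rcases B.sq_cases hm with e | e <;> rw [pow_two ((c : G) ^ 5), e]
      exacts [one_mul 1, B.zz]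
    rw [h4, one_pow]
  have h2z : Commute β₂ z := coe_commute (c ^ 16)
  have h2b : Commute β₂ β := by
    rw [hβ₂, SubgroupClass.coe_pow]; exact hcb.pow_left 16
  have h21 : β₂ ≠ 1 := fun e => hσ1 (rep_unique hr (by
    rw [show c ^ 16 = 1 from Subtype.ext e]; exact rep_one)).1
  have hco : ∀ r ∈ coQ Q β, Commute β₂ r := fun r hr' => by
    have hrQ := (mem_coQ.mp hr').1
    have hm := B.nor _ h2z r hrQ
    have e : co (β₂ * r * β₂⁻¹) = co r := by
      have e1 := H.acts (c ^ 16) r hrQ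
      rw [hr, pair_apply, toO4_apply, toO4_apply, act_one, (H.mem_co r hrQ).mp hr', map_zero] at e1
      exact e1.trans (Prod.ext ((H.mem_co r hrQ).mp hr').symm rfl)
    rcases H.crd.ker _ (mul_mem (inv_mem hrQ) hm) (by
      rw [H.crd.mul _ (inv_mem hrQ) _ hm, H.crd.inv hrQ, e, neg_add_cancel]) with h | h
    · exact mul_inv_eq_iff_eq_mul.mp (inv_mul_eq_one.mp h).symm
    · exfalso
      have h' : β₂ * r * β₂⁻¹ = r * z := inv_mul_eq_iff_eq_mul.mp h
      have := five_shift h25 h2z h' (B.comm_z hrQ)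
      rw [H.fx.z5] at this
      exact B.z_ne this
  obtain ⟨r, hr0, hrv⟩ := H.exists_of_coord (0, sv 0)
  have hrc : r ∈ coQ Q β := (H.mem_co r hr0).mpr (by rw [hrv])
  have hrne : r ≠ 1 ∧ r ≠ z := by
    constructor <;> rintro rfl <;> simp only [H.crd.one, H.crd.coz] at hrv <;>
      exact (sv_singular 0).2 (Prod.ext_iff.mp hrv).2.symm
  have F₂ : Fix z Q β₂ := ⟨B, h2z, h25, h21, r, hr0, hrne.1, hrne.2, hco r hrc⟩
  have hfix2 : coQ Q β = fixQ Q β₂ := Subgroup.eq_of_le_of_card_ge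
    (fun a ha => mem_fixQ.mpr ⟨(mem_coQ.mp ha).1, hco a ha⟩)
    (by rw [F₂.card_parts.1, H.fx.card_parts.2])
  have hco2 : fixQ Q β = coQ Q β₂ := Subgroup.eq_of_le_of_card_ge
    (fun a ha => mem_coQ.mpr ⟨(mem_fixQ.mp ha).1, fun p hp => by
      rw [← hfix2] at hp
      exact ((mem_coQ.mp hp).2 a ha).symm⟩)
    (by rw [F₂.card_parts.2, H.fx.card_parts.1])
  obtain ⟨co₂, ρ₂, H₂⟩ := exists_frame F₂ (Or.inl H.plus)
  obtain ⟨χ, W⟩ := H₂.exists_two
  obtain ⟨t, ht⟩ := exists_section W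
  obtain ⟨hsup, hinf, -⟩ := H₂.split
  let π := (QuotientGroup.mk' (BB0 β₂)).comp (commutator (CB β₂)).subtype
  have hπ : Function.Bijective π := by
    refine ⟨(injective_iff_map_eq_one π).mpr fun l hl => ?_, fun x => ?_⟩
    · have : (l : CB β₂) ∈ BB0 β₂ ⊓ commutator (CB β₂) := ⟨(QuotientGroup.eq_one_iff _).mp hl, l.2⟩
      rw [hinf, Subgroup.mem_bot] at this
      exact Subtype.ext this
    · obtain ⟨g, rfl⟩ := QuotientGroup.mk'_surjective (BB0 β₂) x
      obtain ⟨b, hb, l, hl, hbl⟩ := (Subgroup.mem_sup_of_normal_left (s := BB0 β₂)).mp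
        (hsup ▸ Subgroup.mem_top g)
      refine ⟨⟨l, hl⟩, ?_⟩
      show QuotientGroup.mk' (BB0 β₂) l = _
      rw [← hbl, map_mul, show QuotientGroup.mk' (BB0 β₂) b = 1 from
        (QuotientGroup.eq_one_iff _).mpr hb, one_mul]
  let eπ := MulEquiv.ofBijective π hπ
  let s₀ : A5 →* CB β₂ := (commutator (CB β₂)).subtype.comp (eπ.symm.toMonoidHom.comp t)
  have hts : ∀ a, toQt (s₀ a) = t a := fun a => eπ.apply_symm_apply (t a)
  let s : A5 →* G := (CB β₂).subtype.comp s₀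
  have hz : ∀ a, Commute (s a) z := fun a =>
    H₂.commute_lift (g := s₀ a) (by rw [hts]; exact (ht a).1)
  obtain ⟨τ₂, hβ2, h25', h21'⟩ := H₂.exists_rep_beta
  have hrep := fun a => H₂.commute_rep hβ2 h25' h21' (c := mkC (hz a)) (mem_CB.mp (s₀ a).2)
  choose sg k hk _ using hrep
  let T : A5 →* Equiv.Perm (Fin 5) := MonoidHom.mk' (fun a => τ₂ ^ (k a : ℕ)) fun a b => by
    have h := rep_mul (hk a) (hk b)
    rw [show mkC (hz a) * mkC (hz b) = mkC (hz (a * b)) from Subtype.ext (map_mul s a b).symm] at h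
    exact (rep_unique (hk (a * b)) h).2
  have hT : ∀ a, τ₂ ^ (k a : ℕ) = 1 := hom_trivial' T fun a b => (Commute.pow_pow_self τ₂ _ _).eq
  refine H.exists_comp_of s hz (fun a p hp => H₂.fix_commute s hz (mem_fixQ.mp hp).1 (fun b => ?_) a)
    fun a ha => (ht a).2 ⟨s₀ a, mem_fixQ.mpr ⟨ha, (mem_CB.mp (s₀ a).2).symm⟩, hts a⟩
  have hpQ := (mem_fixQ.mp hp).1
  have hp2 : p ∈ coQ Q β₂ := hco2 ▸ hp
  rw [H₂.conj_co (hz b) hpQ, hk b, hT, pair_apply, toO4_apply, toO4_apply, act_one,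
    (H₂.mem_co p hpQ).mp hp2, map_zero]
  exact Prod.ext ((H₂.mem_co p hpQ).mp hp2).symm rfl

end Frame

end H65.Conway
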