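import Cfsg.Agent.H65.Conway.Cent

/-!
Groups of Conway type: fusion of the involutions of the extraspecial subgroup, centralising an element
of order five.
-/

set_option autoImplicit false

namespace H65.Conway

open Matrix

/-- Some isometry in `Ω` moves any singular vector to the standard one. -/
theorem exists_sing_map (v : V8) (hv : q8 v = 0) (hv0 : v ≠ 0) :
    ∃ f ∈ R8, ((f : O8) : V8 ≃ₗ[ZMod 2] V8) v = (sv 0, 0) := by
  obtain ⟨σ, hσ, hσ0⟩ : ∃ σ : Equiv.Perm (Fin 5), Equiv.Perm.sign σ = -1 ∧ σ 0 = 0 :=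
    ⟨Equiv.swap 1 2, by decide⟩
  set Qf := H43.qPlus 4 (ZMod 2) with hQf
  have htgt : ((sv 0, 0) : V8) ≠ 0 := fun h => (sv_singular 0).2 (Prod.ext_iff.mp h).1
  obtain ⟨g, hg⟩ := H43.exists_orth_map (H43.qPlus_nondeg 4 (F := ZMod 2))
    (x := e8.symm v) (y := e8.symm (sv 0, 0))
    (fun h => hv0 (e8.symm.map_eq_zero_iff.mp h)) (fun h => htgt (e8.symm.map_eq_zero_iff.mp h))
    (by
      rw [H43.coe_qPlus, e8_symm_form, e8_symm_form, hv]
      show 0 = q4 (sv 0) + q4 0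
      rw [(sv_singular 0).1, q4_zero, add_zero])
  let f : O8 := ⟨(e8.symm.trans g.1).trans e8, fun w => by
    show q8 (e8 (g.1 (e8.symm w))) = q8 w
    rw [e8_form, ← H43.coe_qPlus, g.2, H43.coe_qPlus, e8_symm_form]⟩
  have hf : (f : V8 ≃ₗ[ZMod 2] V8) v = (sv 0, 0) := by
    show e8 (g.1 (e8.symm v)) = _
    rw [hg, e8.apply_symm_apply]
  by_cases hm : f ∈ R8
  · exact ⟨f, hm, hf⟩
  refine ⟨pair (toO4 σ, 1) * f, ?_, ?_⟩
  · rw [Subgroup.mul_mem_iff_of_index_two R8_index, pair_left_mem_iff, hσ]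
    exact iff_of_false (by decide) hm
  · show (pair (toO4 σ, 1) : V8 ≃ₗ[ZMod 2] V8) ((f : V8 ≃ₗ[ZMod 2] V8) v) = _
    rw [hf, pair_apply, toO4_apply, act_sv, hσ0]
    rfl

variable {G : Type*} [Group G] [Finite G] {z : G} {Q : Subgroup G} {β : G}

namespace Frame

variable {co : G → V8} {ρ : Subgroup.centralizer ({z} : Set G) →* O8}

theorem exists_of_R8 (H : Frame z Q β co ρ) {f : O8} (hf : f ∈ R8) : ∃ c, ρ c = f := by
  rw [← H.range] at hf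
  exact hf

theorem noncentral_co (H : Frame z Q β co ρ) {a : G} (ha : a ∈ Q) (h1 : a ≠ 1) (hz : a ≠ z) :
    co a ≠ 0 := fun h => (H.crd.ker a ha h).elim h1 hz

/-- The noncentral involutions of `Q` are conjugate in `C(z)`. -/
theorem invol_conj (H : Frame z Q β co ρ) {a b : G} (ha : a ∈ Q) (ha2 : a * a = 1) (ha1 : a ≠ 1)
    (haz : a ≠ z) (hb : b ∈ Q) (hb2 : b * b = 1) (hb1 : b ≠ 1) (hbz : b ≠ z) :
    ∃ c, Commute c z ∧ c * a * c⁻¹ = b := by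
  have B := H.fx.base
  obtain ⟨f, hf, hfa⟩ := exists_sing_map (co a) ((H.crd.sq a ha).mp ha2) (H.noncentral_co ha ha1 haz)
  obtain ⟨g, hg, hgb⟩ := exists_sing_map (co b) ((H.crd.sq b hb).mp hb2) (H.noncentral_co hb hb1 hbz)
  obtain ⟨c, hc⟩ := H.exists_of_R8 (mul_mem (inv_mem hg) hf)
  have hm := B.nor _ (coe_commute c) a ha
  have e : co ((c : G) * a * (c : G)⁻¹) = co b := by
    rw [H.acts c a ha, hc]
    show (((g⁻¹ : O8) : V8 ≃ₗ[ZMod 2] V8)) (((f : O8) : V8 ≃ₗ[ZMod 2] V8) (co a)) = co b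
    rw [hfa, ← hgb]
    exact (g : V8 ≃ₗ[ZMod 2] V8).symm_apply_apply _
  rcases H.crd.ker _ (mul_mem (inv_mem hb) hm) (by
    rw [H.crd.mul _ (inv_mem hb) _ hm, H.crd.inv hb, e, neg_add_cancel]) with h | h
  · exact ⟨c, coe_commute c, (inv_mul_eq_one.mp h).symm⟩
  obtain ⟨q, hq, hqb⟩ : ∃ q ∈ Q, ¬ Commute q b := by
    by_contra hn
    push Not at hn
    exact (B.center_mem hb hn).elim hb1 hbz
  refine ⟨q * c, (B.comm_z hq).mul_left (coe_commute c), ?_⟩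
  rw [show q * (c : G) * a * (q * (c : G))⁻¹ = q * ((c : G) * a * (c : G)⁻¹) * q⁻¹ by group,
    show (c : G) * a * (c : G)⁻¹ = b * z from inv_mul_eq_iff_eq_mul.mp h,
    show q * (b * z) * q⁻¹ = q * b * (z * q⁻¹) by group,
    ← (B.comm_z (inv_mem hq)).eq, ((B.comm_cases hq hb).resolve_left hqb)]
  rw [show b * q * z * (q⁻¹ * z) = b * (q * z) * q⁻¹ * z by group, (B.comm_z hq).eq,
    show b * (z * q) * q⁻¹ * z = b * (z * z) by group, B.zz, mul_one]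

/-- Noncentral involutions of `Q` are conjugates of `z`. -/
theorem exists_conj_z (H : Frame z Q β co ρ) {b : G} (hb : b ∈ Q) (hb2 : b * b = 1) (hb1 : b ≠ 1)
    (hbz : b ≠ z) : ∃ g : G, g * z * g⁻¹ = b := by
  have B := H.fx.base
  obtain ⟨g, hg, hgz⟩ := B.nwc
  obtain ⟨c, -, hc⟩ := H.invol_conj hg
    (by rw [show g * z * g⁻¹ * (g * z * g⁻¹) = g * (z * z) * g⁻¹ by group, B.zz]; group)
    (fun e => B.z_ne (conj_eq_one_iff.mp e)) hgz hb hb2 hb1 hbz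
  exact ⟨c * g, by rw [← hc]; group⟩

/-- Elements of order five with fixed points are conjugate in `C(z)` up to powers. -/
theorem fix_conj (H : Frame z Q β co ρ) {β₂ : G} (F₂ : Fix z Q β₂) :
    ∃ c : G, ∃ m : ℕ, Commute c z ∧ c * β * c⁻¹ = β₂ ^ m := by
  have B := H.fx.base
  obtain ⟨co₂, ρ₂, H₂⟩ := exists_frame F₂ (Or.inl H.plus)
  choose s hs hsv using H₂.crd.surj
  have hwd : ∀ a ∈ Q, co a = co (s (co₂ a)) := fun a ha => by
    have h := H₂.crd.ker _ (mul_mem (inv_mem (hs (co₂ a))) ha) (by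
      rw [H₂.crd.mul _ (inv_mem (hs _)) _ ha, H₂.crd.inv (hs _), hsv, neg_add_cancel])
    have h0 : co ((s (co₂ a))⁻¹ * a) = 0 := by
      rcases h with e | e <;> rw [e]
      exacts [H.crd.one, H.crd.coz]
    rw [H.crd.mul _ (inv_mem (hs _)) _ ha, H.crd.inv (hs _)] at h0
    exact (neg_add_eq_zero.mp h0).symm
  -- the change of coordinates, from the second system to the first
  let T : V8 →ₗ[ZMod 2] V8 := (AddMonoidHom.mk' (fun v => co (s v)) (fun v w => by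
    rw [← H.crd.mul _ (hs v) _ (hs w), hwd _ (mul_mem (hs v) (hs w)),
      H₂.crd.mul _ (hs v) _ (hs w), hsv, hsv])).toZModLinearMap 2
  have hT : ∀ a ∈ Q, T (co₂ a) = co a := fun a ha => (hwd a ha).symm
  have hTs : Function.Surjective T := fun v => by
    obtain ⟨a, ha, hav⟩ := H.crd.surj v
    exact ⟨co₂ a, (hT a ha).trans hav⟩
  have hTb : Function.Bijective T := ⟨Finite.injective_iff_surjective.mpr hTs, hTs⟩
  let f₀ : O8 := ⟨LinearEquiv.ofBijective T hTb, fun v => by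
    show q8 (co (s v)) = q8 v
    rw [← hsv v]
    have e1 := H.crd.sq _ (hs v)
    have e2 := H₂.crd.sq _ (hs v)
    rw [hsv v] at e2
    rw [hsv v]
    rcases zmod_two_cases (q8 (co (s v))) with g | g <;> rcases zmod_two_cases (q8 v) with g' | g' <;>
      simp_all⟩
  obtain ⟨σ, hσ⟩ : ∃ σ : Equiv.Perm (Fin 5), Equiv.Perm.sign σ = -1 := ⟨Equiv.swap 1 2, by decide⟩
  -- an element of `Ω` moving the first fixed space onto the second
  obtain ⟨f, hf, hfU⟩ : ∃ f ∈ R8, ∀ u, ((f₀ : V8 ≃ₗ[ZMod 2] V8).symm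
      (((f : O8) : V8 ≃ₗ[ZMod 2] V8) (u, 0))).2 = 0 := by
    by_cases hm : f₀ ∈ R8
    · exact ⟨f₀, hm, fun u => by rw [(f₀ : V8 ≃ₗ[ZMod 2] V8).symm_apply_apply]⟩
    · refine ⟨f₀ * pair (toO4 σ, 1), ?_, fun u => ?_⟩
      · rw [Subgroup.mul_mem_iff_of_index_two R8_index, pair_left_mem_iff, hσ]
        exact iff_of_false hm (by decide)
      · show ((f₀ : V8 ≃ₗ[ZMod 2] V8).symm ((f₀ : V8 ≃ₗ[ZMod 2] V8)
          ((pair (toO4 σ, 1) : V8 ≃ₗ[ZMod 2] V8) (u, 0)))).2 = 0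
        rw [(f₀ : V8 ≃ₗ[ZMod 2] V8).symm_apply_apply, pair_apply]
        exact map_zero _
  obtain ⟨c, hc⟩ := H.exists_of_R8 hf
  have hcz := coe_commute c
  set β₃ := (c : G) * β * (c : G)⁻¹ with hβ₃
  have hβ₃z : Commute β₃ z := (hcz.mul_left H.fx.comm).mul_left hcz.inv_left
  have hβ₃5 : β₃ ^ 5 = 1 := by rw [hβ₃, conj_pow, H.fx.five, mul_one, mul_inv_cancel]
  have hβ₃1 : β₃ ≠ 1 := fun e => H.fx.ne (conj_eq_one_iff.mp e)
  -- `β₃` centralises the second fixed group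
  have hsub : ∀ a ∈ fixQ Q β, (c : G) * a * (c : G)⁻¹ ∈ fixQ Q β₂ := fun a ha => by
    have haQ := (mem_fixQ.mp ha).1
    have hm := B.nor _ hcz a haQ
    rw [H₂.mem_fix _ hm]
    have e : co₂ ((c : G) * a * (c : G)⁻¹) =
        (f₀ : V8 ≃ₗ[ZMod 2] V8).symm (co ((c : G) * a * (c : G)⁻¹)) :=
      ((f₀ : V8 ≃ₗ[ZMod 2] V8).eq_symm_apply).mpr (hT _ hm)
    have hu : co a = ((co a).1, 0) := Prod.ext rfl ((H.mem_fix a haQ).mp ha)
    rw [e, H.acts c a haQ, hc, hu]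
    exact hfU _
  have hmap : (fixQ Q β).map (MulAut.conj (c : G)).toMonoidHom = fixQ Q β₂ := by
    refine Subgroup.eq_of_le_of_card_ge (fun b hb => ?_) ?_
    · obtain ⟨a, ha, rfl⟩ := hb
      exact hsub a ha
    · rw [F₂.card_parts.1, ← Nat.card_congr
        ((fixQ Q β).equivMapOfInjective _ (MulAut.conj (c : G)).injective).toEquiv, H.fx.card_parts.1]
  have hcent : ∀ b ∈ fixQ Q β₂, Commute β₃ b := fun b hb => by
    rw [← hmap] at hb
    obtain ⟨a, ha, rfl⟩ := hb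
    show Commute ((c : G) * β * (c : G)⁻¹) ((c : G) * a * (c : G)⁻¹)
    exact (mem_fixQ.mp ha).2.map (MulAut.conj (c : G))
  -- both act on the second coordinates as permutations of the second summand
  obtain ⟨τ₂, hb2, h25, h21⟩ := H₂.exists_rep_beta
  obtain ⟨σ₃, τ₃, hb3⟩ := H₂.exists_rep (c := mkC hβ₃z) fun a ha => by
    show β₃ * a * β₃⁻¹ ∈ fixQ Q β₂
    rw [(hcent a ha).eq, mul_inv_cancel_right]
    exact ha
  obtain rfl : σ₃ = 1 := by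
    refine toO4_bijective.1 (Subtype.ext (LinearEquiv.ext fun u => ?_))
    obtain ⟨a, ha, hau⟩ := H₂.exists_of_coord (u, 0)
    have hfx : a ∈ fixQ Q β₂ := (H₂.mem_fix a ha).mpr (by rw [hau])
    have e := H₂.acts (mkC hβ₃z) a ha
    rw [show ((mkC hβ₃z : Subgroup.centralizer ({z} : Set G)) : G) = β₃ from rfl,
      (hcent a hfx).eq, mul_inv_cancel_right, hb3, hau, pair_apply] at e
    rw [map_one]
    exact (Prod.ext_iff.mp e).1.symm
  have h35 : τ₃ ^ 5 = 1 := by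
    have h5 := rep_pow hb3 5
    rw [show (mkC hβ₃z) ^ 5 = 1 from Subtype.ext hβ₃5] at h5
    exact (rep_unique h5 rep_one).2
  have h31 : τ₃ ≠ 1 := fun e => hβ₃1 (B.five_not_mem hβ₃5 ((H₂.ker _).mp (by
    rw [hb3, e, map_one]; exact map_one pair)))
  obtain ⟨k₃, t₃, ht₃, hs₃⟩ := five_base τ₃ h35 h31
  obtain ⟨k₂, t₂, ht₂, hs₂⟩ := five_base τ₂ h25 h21
  obtain ⟨d, hd⟩ := H₂.exists_rep_pair (σ := 1) (τ := t₂ * t₃⁻¹)
    (by rw [map_one, map_mul, map_inv, hs₂, hs₃, inv_one, mul_one])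
  have h1 := rep_mul (rep_mul hd (rep_pow hb3 (k₃ : ℕ))) (rep_inv hd)
  rw [one_pow, mul_one, mul_inv_cancel, show t₂ * t₃⁻¹ * τ₃ ^ (k₃ : ℕ) * (t₂ * t₃⁻¹)⁻¹ = τ₂ ^ (k₂ : ℕ) by
    rw [← ht₂, ← ht₃]; group] at h1
  have h2 := rep_pow hb2 (k₂ : ℕ)
  rw [one_pow] at h2
  have hm : (β₂ ^ (k₂ : ℕ))⁻¹ * ((d : G) * β₃ ^ (k₃ : ℕ) * (d : G)⁻¹) ∈ Q := by
    simpa [mkC] using (H₂.rep_eq_iff h2).mp h1
  set β₄ := (d : G) * β₃ ^ (k₃ : ℕ) * (d : G)⁻¹ with hβ₄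
  obtain ⟨q, hq, e⟩ := five_conj (a := β₄) (b := β₂ ^ (k₂ : ℕ)) B.not_five
    (by rw [hβ₄, conj_pow, ← pow_mul, mul_comm, pow_mul, hβ₃5, one_pow, mul_one, mul_inv_cancel])
    (by rw [← pow_mul, mul_comm, pow_mul, F₂.five, one_pow])
    (B.nor _ (((coe_commute d).mul_left (hβ₃z.pow_left _)).mul_left (coe_commute d).inv_left))
    (by
      have h3 := B.nor _ (F₂.comm.pow_left (k₂ : ℕ)) _ (inv_mem hm)
      rw [show β₂ ^ (k₂ : ℕ) * ((β₂ ^ (k₂ : ℕ))⁻¹ * β₄)⁻¹ * (β₂ ^ (k₂ : ℕ))⁻¹ =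
        β₂ ^ (k₂ : ℕ) * β₄⁻¹ by group] at h3
      exact h3)
  have hk₃ : (k₃ : ℕ) ≠ 0 := fun e0 => by
    rw [e0, pow_zero] at ht₃
    exact absurd (conj_eq_one_iff.mp ht₃) (by decide)
  obtain ⟨j, hj⟩ : ∃ j : ℕ, (k₃ : ℕ) * j % 5 = 1 :=
    (by decide : ∀ k : Fin 5, (k : ℕ) ≠ 0 → ∃ j : Fin 5, (k : ℕ) * (j : ℕ) % 5 = 1) k₃ hk₃ |>.elim
      fun j hj => ⟨j, hj⟩
  refine ⟨q * d * c, k₂ * j, (((B.comm_z hq).mul_left (coe_commute d)).mul_left hcz), ?_⟩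
  rw [pow_mul, ← e, conj_pow, hβ₄, conj_pow, ← pow_mul, pow_mod_five hβ₃5, hj, pow_one, hβ₃]
  group

/-- A noncentral involution fixed by `β` is conjugate to `z` under the centraliser of `β`. -/
theorem exists_fusion (H : Frame z Q β co ρ) {y : G} (hy : y ∈ fixQ Q β) (hy2 : y * y = 1)
    (hy1 : y ≠ 1) (hyz : y ≠ z) : ∃ g : G, Commute g β ∧ g * z * g⁻¹ = y := by
  have B := H.fx.base
  obtain ⟨g, hg⟩ := H.exists_conj_z (mem_fixQ.mp hy).1 hy2 hy1 hyz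
  have hyQ : g * z * g⁻¹ ∈ Q := hg ▸ (mem_fixQ.mp hy).1
  have hc1 : Commute (g⁻¹ * β * g) z := by
    have h := (mem_fixQ.mp hy).2
    rw [← hg] at h
    have h' := h.map (MulAut.conj g⁻¹)
    simp only [MulAut.conj_apply, inv_inv] at h'
    rwa [show g⁻¹ * (g * z * g⁻¹) * g = z by group] at h'
  have hne : g⁻¹ * z * g ≠ z := fun e => hyz (by
    rw [← hg]
    calc g * z * g⁻¹ = g * (g⁻¹ * z * g) * g⁻¹ := by rw [e]
      _ = z := by group)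
  have F' : Fix z Q (g⁻¹ * β * g) := by
    refine ⟨B, hc1, ?_, fun e => H.fx.ne ?_, g⁻¹ * z * g, B.symm hyQ, fun e => B.z_ne ?_, hne, ?_⟩
    · rw [show g⁻¹ * β * g = g⁻¹ * β * g⁻¹⁻¹ by group, conj_pow, H.fx.five]; group
    · calc β = g * (g⁻¹ * β * g) * g⁻¹ := by group
        _ = 1 := by rw [e]; group
    · calc z = g * (g⁻¹ * z * g) * g⁻¹ := by group
        _ = 1 := by rw [e]; group
    · have h' := H.fx.comm.map (MulAut.conj g⁻¹)
      simpa only [MulAut.conj_apply, inv_inv] using h'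
  obtain ⟨c, m, hcz, hc⟩ := H.fix_conj F'
  have hm : ¬ 5 ∣ m := fun hd => by
    obtain ⟨l, rfl⟩ := hd
    rw [pow_mul, F'.five, one_pow] at hc
    exact H.fx.ne (conj_eq_one_iff.mp hc)
  obtain ⟨j, hj⟩ : ∃ j : ℕ, m * j % 5 = 1 ∧ ¬ 5 ∣ j := by
    have : m % 5 = 1 ∨ m % 5 = 2 ∨ m % 5 = 3 ∨ m % 5 = 4 := by omega
    rcases this with h | h | h | h
    exacts [⟨1, by omega⟩, ⟨3, by omega⟩, ⟨2, by omega⟩, ⟨4, by omega⟩]
  obtain ⟨n, hnz, hn⟩ := H.exists_normalizing hj.2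
  have h1 : (g * c) * β * (g * c)⁻¹ = β ^ m := by
    rw [show g * c * β * (g * c)⁻¹ = g * (c * β * c⁻¹) * g⁻¹ by group, hc,
      show g * (g⁻¹ * β * g) ^ m * g⁻¹ = g * (g⁻¹ * β * g⁻¹⁻¹) ^ m * g⁻¹ by rw [inv_inv],
      conj_pow]
    group
  refine ⟨g * c * n, ?_, ?_⟩
  · refine mul_inv_eq_iff_eq_mul.mp ?_
    rw [show g * c * n * β * (g * c * n)⁻¹ = g * c * (n * β * n⁻¹) * (g * c)⁻¹ by group, hn,
      ← conj_pow, h1, ← pow_mul, pow_mod_five H.fx.five, hj.1, pow_one]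
  · have e : (c * n) * z * (c * n)⁻¹ = z := by rw [(hcz.mul_left hnz).eq, mul_inv_cancel_right]
    calc g * c * n * z * (g * c * n)⁻¹ = g * ((c * n) * z * (c * n)⁻¹) * g⁻¹ := by group
      _ = y := by rw [e, hg]

end Frame

end H65.Conway
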