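import Cfsg.Agent.H65.Conway.O4
import Cfsg.Agent.H29.ExtraspecialCoords
import Cfsg.Agent.H6.Extraspecial
import Cfsg.Agent.H93.Basic
import Cfsg.Agent.H93.Large
import Cfsg.Agent.H31.ExtraspecialTwo
import Cfsg.Prelude.Def_Transfer

/-!
Coordinates for extraspecial groups of order `32`, and counting fixed points of an element of order
five.
-/

set_option autoImplicit false

namespace H65.Conway

open scoped commutatorElement

/-- The hyperbolic form of dimension four. -/
def p4 (v : V4) : ZMod 2 := v 0 * v 1 + v 2 * v 3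

theorem card_q4_one : Nat.card {v : V4 // q4 v = 1} = 10 := by
  rw [Nat.card_eq_fintype_card]; decide +kernel

theorem card_p4_one : Nat.card {v : V4 // p4 v = 1} = 6 := by
  rw [Nat.card_eq_fintype_card]; decide +kernel

/-- The coordinates of a frame, in the elliptic space. -/
def frameQ (x : Fin 2 ⊕ Fin 2 → ZMod 2) : V4 :=
  x (.inl 0) • ![1, 0, 0, 0] + x (.inr 0) • ![0, 1, 0, 0] + x (.inl 1) • ![1, 1, 1, 0] +
    x (.inr 1) • ![1, 1, 0, 1]

/-- The coordinates of a frame, in the hyperbolic space. -/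
def frameP (x : Fin 2 ⊕ Fin 2 → ZMod 2) : V4 :=
  ![x (.inl 0), x (.inr 0), x (.inl 1), x (.inr 1)]

theorem frameQ_add (x y : Fin 2 ⊕ Fin 2 → ZMod 2) : frameQ (x + y) = frameQ x + frameQ y := by
  simp only [frameQ, Pi.add_apply, add_smul]
  abel

theorem frameP_add (x y : Fin 2 ⊕ Fin 2 → ZMod 2) : frameP (x + y) = frameP x + frameP y := by
  funext i
  fin_cases i <;> simp [frameP]

theorem frameQ_bij : Function.Bijective frameQ := by decide +kernel

theorem frameP_bij : Function.Bijective frameP := by decide +kernel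

theorem frameQ_polar : ∀ v w : Fin 2 ⊕ Fin 2 → ZMod 2, b4 (frameQ v) (frameQ w) =
    ∑ i, (v (.inl i) * w (.inr i) + v (.inr i) * w (.inl i)) := by decide +kernel

variable {G : Type*} [Group G] [Finite G]

/-- An element of order five permuting a finite set by conjugation. -/
theorem five_orbit {β : G} (hβ : β ^ 5 = 1) (S : Set G) (hS : ∀ a ∈ S, β * a * β⁻¹ ∈ S) :
    Nat.card S ≡ Nat.card {a : G | a ∈ S ∧ Commute β a} [MOD 5] := by
  classical
  haveI : Fact (Nat.Prime 5) := ⟨by norm_num⟩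
  have hA : IsPGroup 5 (Subgroup.zpowers β) := by
    rintro ⟨_, i, rfl⟩
    refine ⟨1, Subtype.ext ?_⟩
    show (β ^ i) ^ 5 ^ 1 = 1
    rw [pow_one, ← zpow_natCast, ← zpow_mul, mul_comm, zpow_mul, zpow_natCast, hβ, one_zpow]
  have hN : ∀ n : ℕ, ∀ a ∈ S, β ^ n * a * (β ^ n)⁻¹ ∈ S := by
    intro n
    induction n with
    | zero => intro a ha; simpa using ha
    | succ n ih =>
      intro a ha
      have h := hS _ (ih a ha)
      rw [pow_succ', mul_inv_rev]
      simpa [mul_assoc] using h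
  have hmem : ∀ (k : Subgroup.zpowers β), ∀ a ∈ S, (k : G) * a * (k : G)⁻¹ ∈ S := by
    intro k a ha
    obtain ⟨i, hi⟩ := Subgroup.mem_zpowers_iff.mp k.2
    have hfin : IsOfFinOrder β := isOfFinOrder_of_finite β
    obtain ⟨n, hn⟩ := hfin.mem_powers_iff_mem_zpowers.mpr k.2
    simp only at hn
    rw [← hn]
    exact hN n a ha
  letI : MulAction (Subgroup.zpowers β) S :=
    { smul := fun k a => ⟨(k : G) * a * (k : G)⁻¹, hmem k a a.2⟩
      one_smul := fun a => Subtype.ext (by show (1 : G) * a * 1⁻¹ = a; simp)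
      mul_smul := fun k l a => Subtype.ext (by
        show ((k : G) * l) * a * ((k : G) * l)⁻¹ = k * (l * a * (l : G)⁻¹) * (k : G)⁻¹
        group) }
  have hfix : Nat.card (MulAction.fixedPoints (Subgroup.zpowers β) S) =
      Nat.card {a : G | a ∈ S ∧ Commute β a} := by
    refine Nat.card_congr
      { toFun := fun x => ⟨((x : S) : G), (x : S).2, ?_⟩
        invFun := fun x => ⟨⟨(x : G), x.2.1⟩, ?_⟩
        left_inv := fun x => rfl
        right_inv := fun x => rfl }
    · have := congrArg Subtype.val (x.2 ⟨β, Subgroup.mem_zpowers β⟩)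
      change β * ((x : S) : G) * β⁻¹ = ((x : S) : G) at this
      exact mul_inv_eq_iff_eq_mul.mp this
    · rintro ⟨_, i, rfl⟩
      refine Subtype.ext ?_
      show β ^ i * (x : G) * (β ^ i)⁻¹ = (x : G)
      rw [mul_inv_eq_iff_eq_mul]
      exact ((x.2.2).zpow_left i).eq
  rw [← hfix]
  exact hA.card_modEq_card_fixedPoints S

/-- Coordinates of a group `P` with centre of order two. -/
structure Coord (z : G) (P : Subgroup G) {A : Type*} [AddCommGroup A] (q : A → ZMod 2) (c : G → A) :
    Prop where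
  mul : ∀ a ∈ P, ∀ b ∈ P, c (a * b) = c a + c b
  ker : ∀ a ∈ P, c a = 0 → a = 1 ∨ a = z
  surj : ∀ v, ∃ a ∈ P, c a = v
  coz : c z = 0
  sq : ∀ a ∈ P, (a * a = 1 ↔ q (c a) = 0)

omit [Finite G] in
theorem Coord.one {z : G} {P : Subgroup G} {A : Type*} [AddCommGroup A] {q : A → ZMod 2} {c : G → A}
    (H : Coord z P q c) : c 1 = 0 := by
  have h := H.mul 1 P.one_mem 1 P.one_mem
  rw [mul_one] at h
  exact right_eq_add.mp h

omit [Finite G] in
theorem Coord.inv {z : G} {P : Subgroup G} {A : Type*} [AddCommGroup A] {q : A → ZMod 2} {c : G → A}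
    (H : Coord z P q c) {a : G} (ha : a ∈ P) : c a⁻¹ = -c a := by
  have h := H.mul a ha a⁻¹ (inv_mem ha)
  rw [mul_inv_cancel, H.one] at h
  exact (neg_eq_of_add_eq_zero_right h.symm).symm

/-- Each vector has two preimages. -/
theorem Coord.card_fibre {z : G} {P : Subgroup G} {A : Type*} [AddCommGroup A] {q : A → ZMod 2}
    {c : G → A} (H : Coord z P q c) (hz : z ≠ 1) (hzP : z ∈ P) (p : A → Prop) :
    Nat.card {a : G | a ∈ P ∧ p (c a)} = 2 * Nat.card {v : A // p v} := by
  classical
  choose s hsP hs using H.surj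
  let f : Bool × {v : A // p v} → {a : G | a ∈ P ∧ p (c a)} := fun x =>
    ⟨s x.2.1 * (if x.1 then z else 1), mul_mem (hsP _) (by split <;> simp [hzP]), by
      rw [H.mul _ (hsP _) _ (by split <;> simp [hzP]), hs]
      cases x.1 <;> simp [H.coz, H.one, x.2.2]⟩
  have hf : Function.Bijective f := by
    refine ⟨?_, ?_⟩
    · rintro ⟨b, v⟩ ⟨b', v'⟩ e
      have e' : s v.1 * (if b then z else 1) = s v'.1 * (if b' then z else 1) := congrArg Subtype.val e
      have hv : v = v' := by
        have := congrArg c e'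
        rw [H.mul _ (hsP _) _ (by split <;> simp [hzP]), H.mul _ (hsP _) _ (by split <;> simp [hzP]),
          hs, hs] at this
        refine Subtype.ext ?_
        cases b <;> cases b' <;> simpa [H.coz, H.one] using this
      subst hv
      have h2 := mul_left_cancel e'
      refine Prod.ext ?_ rfl
      cases b <;> cases b'
      · rfl
      · exact absurd h2.symm hz
      · exact absurd h2 hz
      · rfl
    · rintro ⟨a, ha, hp⟩
      have hm : (s (c a))⁻¹ * a ∈ P := mul_mem (inv_mem (hsP _)) ha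
      rcases H.ker _ hm (by rw [H.mul _ (inv_mem (hsP _)) _ ha, H.inv (hsP _), hs, neg_add_cancel]) with h | h
      · exact ⟨⟨false, c a, hp⟩, Subtype.ext (by
          show s (c a) * 1 = a
          rw [← h]; group)⟩
      · exact ⟨⟨true, c a, hp⟩, Subtype.ext (by
          show s (c a) * z = a
          rw [← h]; group)⟩
  rw [← Nat.card_congr (Equiv.ofBijective f hf), Nat.card_prod, Nat.card_eq_fintype_card (α := Bool),
    Fintype.card_bool]

/-- An extraspecial group of order `32` has elliptic or hyperbolic coordinates. -/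
theorem exists_coord32 {z : G} {P : Subgroup G} (hP : Cfsg.IsExtraspecial 2 P)
    (hcard : Nat.card P = 32) (hzP : z ∈ P) (hzc : ∀ a ∈ P, Commute z a) (hz1 : z ≠ 1) :
    ∃ c : G → V4, Coord z P q4 c ∨ Coord z P p4 c := by
  classical
  have : Fact (Nat.Prime 2) := ⟨Nat.prime_two⟩
  obtain ⟨z₀, n, x, y, ε, hz₀, hz₀c, hf⟩ := H5.exists_frame hP (Or.inl rfl)
  have hz₀z : (z₀ : G) = z := by
    have hm : (⟨z, hzP⟩ : P) ∈ Subgroup.center P :=
      Subgroup.mem_center_iff.mpr fun a => Subtype.ext (hzc a a.2).eq.symm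
    have hm0 : z₀ ∈ Subgroup.center P := Subgroup.mem_center_iff.mpr fun a => (hz₀c a).symm
    obtain ⟨w, -, -, -, huniq⟩ := H31.Extra2.center_data hP
    have e1 := (huniq _ hm).resolve_left fun h => hz1 (congrArg Subtype.val h)
    have e2 := (huniq _ hm0).resolve_left fun h => by rw [h, orderOf_one] at hz₀; omega
    rw [e2, ← e1]
  have hzc' : Subgroup.center P = Subgroup.zpowers z₀ := by
    refine (Subgroup.eq_of_le_of_card_ge (Subgroup.zpowers_le.mpr ?_)
      (by rw [Nat.card_zpowers, hz₀, hP.2])).symm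
    exact Subgroup.mem_center_iff.mpr fun q => (hz₀c q).symm
  obtain rfl : n = 2 := by
    obtain ⟨-, -, -, hc⟩ := hf
    rw [Subgroup.card_top, hcard, show (32 : ℕ) = 2 ^ 5 by norm_num] at hc
    have := Nat.pow_right_injective (le_refl 2) hc
    omega
  obtain ⟨φ, hφ, hker, hsq⟩ := Cfsg.Agent.H29.exists_coords hz₀ hz₀c hzc'
    (H6.extraspecial_commutator_mem_center hP)
    (fun u => by rw [← pow_two]; exact H6.extraspecial_pow_mem_center hP u) hf
  have hbuild : ∀ (m : (Fin 2 ⊕ Fin 2 → ZMod 2) → V4) (q : V4 → ZMod 2),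
      (∀ a b, m (a + b) = m a + m b) → Function.Bijective m →
      (∀ g : P, g * g = z₀ ^ (q (m (Multiplicative.toAdd (φ g)))).val) →
      ∃ c : G → V4, Coord z P q c := by
    intro m q hadd hbij hq
    let c : G → V4 := fun a => if h : a ∈ P then m (Multiplicative.toAdd (φ ⟨a, h⟩)) else 0
    have hc : ∀ a : P, c a = m (Multiplicative.toAdd (φ a)) := fun a => by simp [c, a.2]
    have hm0 : m 0 = 0 := by
      have := hadd 0 0
      rw [add_zero] at this
      exact right_eq_add.mp this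
    refine ⟨c, fun a ha b hb => ?_, fun a ha h => ?_, fun v => ?_, ?_, fun a ha => ?_⟩
    · rw [hc ⟨a, ha⟩, hc ⟨b, hb⟩, ← hadd, ← toAdd_mul, ← map_mul]
      exact hc (⟨a, ha⟩ * ⟨b, hb⟩)
    · rw [hc ⟨a, ha⟩, ← hm0] at h
      have h1 : (⟨a, ha⟩ : P) ∈ Subgroup.center P := by
        rw [← hker, MonoidHom.mem_ker, ← toAdd_eq_zero]
        exact hbij.1 h
      rw [hzc'] at h1
      rcases H93.zpowers_two_cases hz₀ h1 with h2 | h2
      · exact Or.inl (congrArg Subtype.val h2)
      · exact Or.inr ((congrArg Subtype.val h2).trans hz₀z)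
    · obtain ⟨u, rfl⟩ := hbij.2 v
      obtain ⟨g, hg⟩ := hφ (Multiplicative.ofAdd u)
      exact ⟨g, g.2, by rw [hc, hg, toAdd_ofAdd]⟩
    · have h1 : φ z₀ = 1 := by rw [← MonoidHom.mem_ker, hker, hzc']; exact Subgroup.mem_zpowers _
      rw [← hz₀z, hc, h1, toAdd_one, hm0]
    · have h1 := congrArg Subtype.val (hq ⟨a, ha⟩)
      rw [← hc] at h1
      rcases zmod_two_cases (q (c a)) with e | e
      · simp only [e] at h1 ⊢
        simpa using h1
      · simp only [e] at h1 ⊢
        simp only [ZMod.val_one, pow_one, Subgroup.coe_mul, hz₀z] at h1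
        rw [h1]
        exact iff_of_false hz1 (by decide)
  cases ε
  · obtain ⟨c, hc⟩ := hbuild frameP p4 frameP_add frameP_bij (hsq (fun v => p4 (frameP v))
      (by intro v w; simp [p4, frameP, Fin.sum_univ_two]; ring)
      (by intro j; fin_cases j <;> simp [p4, frameP, H5.twistData])
      (by intro j; fin_cases j <;> simp [p4, frameP, H5.twistData]))
    exact ⟨c, Or.inr hc⟩
  · obtain ⟨c, hc⟩ := hbuild frameQ q4 frameQ_add frameQ_bij (hsq (fun v => q4 (frameQ v))
      (by
        intro v w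
        rw [frameQ_add, q4_add, frameQ_polar])
      (by decide +kernel) (by decide +kernel))
    exact ⟨c, Or.inl hc⟩

/-- No elementary abelian subgroup of order eight: elliptic. -/
theorem Coord.not_p4_of_no_eight {z : G} {P : Subgroup G} {c : G → V4} (H : Coord z P p4 c)
    (hz : z ≠ 1) (hzP : z ∈ P)
    (hno : ∀ A : Subgroup G, A ≤ P → Cfsg.IsElementaryAbelian 2 A → Nat.card A ≤ 4) : False := by
  let A : Subgroup G :=
    { carrier := {a | a ∈ P ∧ c a 1 = 0 ∧ c a 3 = 0}
      one_mem' := ⟨P.one_mem, by simp [H.one], by simp [H.one]⟩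
      mul_mem' := fun {a b} ha hb => ⟨mul_mem ha.1 hb.1, by
        simp [H.mul a ha.1 b hb.1, ha.2.1, hb.2.1], by simp [H.mul a ha.1 b hb.1, ha.2.2, hb.2.2]⟩
      inv_mem' := fun {a} ha => ⟨inv_mem ha.1, by simp [H.inv ha.1, ha.2.1], by
        simp [H.inv ha.1, ha.2.2]⟩ }
  have hsq : ∀ a ∈ A, a * a = 1 := fun a ha => (H.sq a ha.1).mpr (by simp [p4, ha.2.1, ha.2.2])
  have hel : Cfsg.IsElementaryAbelian 2 A :=
    ⟨⟨⟨fun a b => Subtype.ext (by
      have h := hsq _ (mul_mem a.2 b.2)
      show (a : G) * b = b * a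
      calc (a : G) * b = ((a : G) * b)⁻¹ := eq_inv_of_mul_eq_one_left h
        _ = (b : G)⁻¹ * (a : G)⁻¹ := mul_inv_rev _ _
        _ = b * a := by
          rw [inv_eq_of_mul_eq_one_right (hsq _ b.2), inv_eq_of_mul_eq_one_right (hsq _ a.2)])⟩⟩,
      fun a ha => by rw [pow_two]; exact hsq a ha⟩
  have h8 : Nat.card A = 8 := by
    have := H.card_fibre hz hzP (fun v => v 1 = 0 ∧ v 3 = 0)
    rw [show Nat.card {v : V4 // v 1 = 0 ∧ v 3 = 0} = 4 by
      rw [Nat.card_eq_fintype_card]; decide +kernel] at this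
    exact this
  have := hno A (fun a ha => ha.1) hel
  omega

/-- An element of order five fixing only the centre: elliptic. -/
theorem Coord.not_p4_of_five {z β : G} {P : Subgroup G} {c : G → V4} (H : Coord z P p4 c)
    (hz : z ≠ 1) (hzP : z ∈ P) (hzz : z * z = 1) (hβ : β ^ 5 = 1)
    (hn : ∀ a ∈ P, β * a * β⁻¹ ∈ P) (hfix : ∀ a ∈ P, Commute β a → a = 1 ∨ a = z) : False := by
  let S : Set G := {a | a ∈ P ∧ a * a ≠ 1}
  have h := five_orbit hβ S fun a ha => ⟨hn a ha.1, fun e => ha.2 (by
    have : β * a * β⁻¹ * (β * a * β⁻¹) = β * (a * a) * β⁻¹ := by group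
    rw [this] at e
    exact conj_eq_one_iff.mp e)⟩
  have h0 : Nat.card {a : G | a ∈ S ∧ Commute β a} = 0 := by
    rw [Nat.card_eq_zero]
    refine Or.inl ⟨fun a => ?_⟩
    obtain ⟨⟨haP, ha⟩, hc⟩ := a.2
    rcases hfix _ haP hc with e | e
    · exact ha (by rw [e, one_mul])
    · exact ha (by rw [e, hzz])
  have h12 : Nat.card S = 12 := by
    rw [show 12 = 2 * Nat.card {v : V4 // p4 v = 1} by rw [card_p4_one], ← H.card_fibre hz hzP]
    refine congrArg (fun s : Set G => Nat.card s) (Set.ext fun a => and_congr_right fun ha => ?_)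
    rw [Ne, H.sq a ha]
    rcases zmod_two_cases (p4 (c a)) with e | e <;> simp [e]
  rw [h0, h12] at h
  exact absurd h (by decide)

end H65.Conway
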