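import Cfsg.Agent.H65.Conway.Quot
import Cfsg.Agent.H36.J2U.Instance
import Cfsg.Agent.H26.J2Schur
import Cfsg.Agent.H91.J2Simple
import Cfsg.Prelude.Def_CaseTheorems

/-!
Groups of Conway type: the centraliser of an element of order five with a fixed point is the direct
product of the element and the Hall–Janko group, which is its layer.
-/

set_option autoImplicit false

namespace H65.Conway

open Cfsg.Spor
open scoped commutatorElement

universe u

theorem isPerfect_J2 : Group.IsPerfect J2 := by
  haveI := H91.J2A.J2_isSimple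
  refine ⟨(IsSimpleGroup.eq_bot_or_eq_top_of_normal (commutator J2) inferInstance).resolve_left fun h => ?_⟩
  obtain ⟨a, b, hab⟩ := H91.J2A.J2_noncomm
  refine hab (commutatorElement_eq_one_iff_mul_comm.mp ?_)
  rw [← Subgroup.mem_bot, ← h, commutator_def]
  exact Subgroup.commutator_mem_commutator (Subgroup.mem_top a) (Subgroup.mem_top b)

/-- A plain finite carrier. -/
def Carrier (n : ℕ) : Type := Fin n

instance carrier_finite (n : ℕ) : Finite (Carrier n) := inferInstanceAs (Finite (Fin n))

/-- A central extension of `J2` by a group of odd order splits. -/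
theorem j2_odd_stem {L : Type u} [Group L] [Finite L] (σ : L →* J2) (hs : Function.Surjective σ)
    (hc : σ.ker ≤ Subgroup.center L) (hp : σ.ker ≤ commutator L) (hodd : ¬ 2 ∣ Nat.card σ.ker) :
    σ.ker = ⊥ := by
  classical
  obtain ⟨n, ⟨e₀⟩⟩ := Finite.exists_equiv_fin L
  let e : L ≃ Carrier n := e₀
  letI : Group (Carrier n) := e.symm.group
  let f : Carrier n ≃* L := e.symm.mulEquiv
  let σ' : Carrier n →* J2 := σ.comp f.toMonoidHom
  have hmem : ∀ a, a ∈ σ'.ker ↔ f a ∈ σ.ker := fun a => Iff.rfl
  have hst : Cfsg.IsStemExtension σ' := by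
    refine ⟨hs.comp f.surjective, fun a ha => Subgroup.mem_center_iff.mpr fun b => f.injective ?_,
      fun a ha => ?_⟩
    · rw [map_mul, map_mul]
      exact Subgroup.mem_center_iff.mp (hc ((hmem a).mp ha)) (f b)
    · have hmap : (commutator (Carrier n)).map f.toMonoidHom = commutator L := by
        rw [commutator_def, Subgroup.map_commutator, Subgroup.map_top_of_surjective _ f.surjective,
          ← commutator_def]
      have := hp ((hmem a).mp ha)
      rw [← hmap] at this
      exact (Subgroup.mem_map_iff_mem f.injective).mp this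
  obtain ⟨π, hπ⟩ := H26.J2Schur.hasCyclicSchurMultiplier_J2.2 (Carrier n) σ' hst
  have hdvd : Nat.card σ'.ker ∣ 2 := by
    have := Subgroup.card_dvd_of_surjective π hπ
    simpa using this
  have hcard : Nat.card σ'.ker = Nat.card σ.ker :=
    Nat.card_congr ((f.toEquiv.subtypeEquiv fun a => hmem a))
  rw [hcard] at hdvd
  rcases (Nat.dvd_prime Nat.prime_two).mp hdvd with h | h
  · exact Subgroup.card_eq_one.mp h
  · exact absurd (by rw [h]) hodd

theorem isPerfect_of_mulEquiv {K : Type u} [Group K] (e : K ≃* J2) : Group.IsPerfect K := by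
  haveI := isPerfect_J2
  refine ⟨Subgroup.map_injective (f := e.toMonoidHom) e.injective ?_⟩
  rw [commutator_def, Subgroup.map_commutator, Subgroup.map_top_of_surjective _ e.surjective,
    ← commutator_def]
  exact Group.IsPerfect.commutator_eq_top

variable {G : Type*} [Group G] [Finite G] {z : G} {Q : Subgroup G} {β : G}

namespace Frame

variable {co : G → V8} {ρ : Subgroup.centralizer ({z} : Set G) →* O8}

theorem quot_iso (H : Frame z Q β co ρ) : Cfsg.Spor.IsoJ2 (CB β ⧸ BB0 β) := by
  obtain ⟨χ, W⟩ := H.exists_two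
  exact H36.J2U.isoJ2_of_two W

omit [Finite G] in
theorem bb0_central : BB0 β ≤ Subgroup.center (CB β) := fun a ha => by
  obtain ⟨i, hi⟩ := Subgroup.mem_zpowers_iff.mp (Subgroup.mem_subgroupOf.mp ha)
  refine Subgroup.mem_center_iff.mpr fun g => Subtype.ext ?_
  show (g : G) * a = a * g
  rw [← hi]
  exact ((mem_CB.mp g.2).zpow_right i).eq

theorem card_bb0 (H : Frame z Q β co ρ) : Nat.card (BB0 β) = 5 := by
  rw [Nat.card_congr (Subgroup.subgroupOfEquivOfLe
    (Subgroup.zpowers_le.mpr (mem_CB.mpr (Commute.refl β)))).toEquiv, Nat.card_zpowers]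
  exact orderOf_eq_prime (hp := ⟨by norm_num⟩) H.fx.five H.fx.ne

/-- The centraliser is `⟨β⟩` times its derived group, which is isomorphic to `J2`. -/
theorem split (H : Frame z Q β co ρ) :
    BB0 β ⊔ commutator (CB β) = ⊤ ∧ BB0 β ⊓ commutator (CB β) = ⊥ ∧
      Nonempty (commutator (CB β) ≃* J2) := by
  obtain ⟨e⟩ := H.quot_iso
  haveI := isPerfect_J2
  let π : CB β →* J2 := e.toMonoidHom.comp (QuotientGroup.mk' (BB0 β))
  have hπs : Function.Surjective π := e.surjective.comp (QuotientGroup.mk'_surjective _)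
  have hπk : π.ker = BB0 β := by
    ext a
    rw [MonoidHom.mem_ker]
    show e (QuotientGroup.mk' (BB0 β) a) = 1 ↔ _
    rw [map_eq_one_iff _ e.injective]
    exact QuotientGroup.eq_one_iff a
  set L := commutator (CB β) with hL
  have hmapL : L.map π = ⊤ := by
    rw [hL, commutator_def, Subgroup.map_commutator, Subgroup.map_top_of_surjective _ hπs,
      ← commutator_def]
    exact Group.IsPerfect.commutator_eq_top
  have hsup : BB0 β ⊔ L = ⊤ := by
    rw [Subgroup.eq_top_iff']
    intro g
    obtain ⟨l, hl, hlg⟩ := (hmapL ▸ Subgroup.mem_top (π g) : π g ∈ L.map π)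
    rw [show g = (g * l⁻¹) * l by group]
    refine mul_mem (Subgroup.mem_sup_left ?_) (Subgroup.mem_sup_right hl)
    rw [← hπk, MonoidHom.mem_ker, map_mul, map_inv, hlg, mul_inv_cancel]
  have hperf : ⁅L, L⁆ = L := by
    refine le_antisymm (Subgroup.commutator_le_self L) ?_
    suffices hh : ⁅(⊤ : Subgroup (CB β)), (⊤ : Subgroup (CB β))⁆ ≤ ⁅L, L⁆ by
      rwa [← commutator_def] at hh
    rw [Subgroup.commutator_le]
    intro a _ b _
    have ha : a ∈ BB0 β ⊔ L := hsup ▸ Subgroup.mem_top a
    have hb : b ∈ BB0 β ⊔ L := hsup ▸ Subgroup.mem_top b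
    obtain ⟨x, hx, l, hl, rfl⟩ := (Subgroup.mem_sup_of_normal_left (s := BB0 β)).mp ha
    obtain ⟨y, hy, m, hm, rfl⟩ := (Subgroup.mem_sup_of_normal_left (s := BB0 β)).mp hb
    have e : ⁅x * l, y * m⁆ = ⁅l, m⁆ := by
      have hxc := fun g => Subgroup.mem_center_iff.mp (bb0_central hx) g
      have hyc := fun g => Subgroup.mem_center_iff.mp (bb0_central hy) g
      simp only [commutatorElement_def, mul_inv_rev]
      calc x * l * (y * m) * (l⁻¹ * x⁻¹) * (m⁻¹ * y⁻¹)
          = x * (l * y) * m * l⁻¹ * x⁻¹ * m⁻¹ * y⁻¹ := by group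
        _ = x * y * (l * m * l⁻¹) * x⁻¹ * m⁻¹ * y⁻¹ := by rw [hyc l]; group
        _ = y * x * (l * m * l⁻¹) * x⁻¹ * m⁻¹ * y⁻¹ := by rw [hyc x]
        _ = y * (x * (l * m * l⁻¹)) * x⁻¹ * m⁻¹ * y⁻¹ := by group
        _ = y * ((l * m * l⁻¹) * x) * x⁻¹ * m⁻¹ * y⁻¹ := by rw [hxc]
        _ = y * (l * m * l⁻¹ * m⁻¹) * y⁻¹ := by group
        _ = l * m * l⁻¹ * m⁻¹ := by rw [← hyc]; group
    rw [e]
    exact Subgroup.commutator_mem_commutator hl hm
  let σ : L →* J2 := π.comp L.subtype
  have hσs : Function.Surjective σ := fun w => by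
    obtain ⟨l, hl, hlw⟩ := (hmapL ▸ Subgroup.mem_top w : w ∈ L.map π)
    exact ⟨⟨l, hl⟩, hlw⟩
  have hσk : ∀ l : L, l ∈ σ.ker ↔ (l : CB β) ∈ BB0 β := fun l => by
    rw [← hπk]; exact Iff.rfl
  have hkb : σ.ker = ⊥ := by
    refine j2_odd_stem σ hσs (fun l hl => Subgroup.mem_center_iff.mpr fun m => Subtype.ext
      (Subgroup.mem_center_iff.mp (bb0_central ((hσk l).mp hl)) m)) (fun l _ => ?_) ?_
    · have htop : commutator L = ⊤ := by
        refine Subgroup.map_injective L.subtype_injective ?_
        rw [commutator_def, Subgroup.map_commutator, ← MonoidHom.range_eq_map, Subgroup.range_subtype,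
          hperf]
      rw [htop]; exact Subgroup.mem_top _
    · intro h
      have h5 : Nat.card σ.ker ∣ Nat.card (BB0 β) := by
        have := Subgroup.card_dvd_of_injective
          ((L.subtype.comp σ.ker.subtype).codRestrict (BB0 β) fun l => (hσk _).mp l.2)
          (fun a b e => Subtype.ext (Subtype.ext (congrArg (fun w : BB0 β => (w : CB β)) e)))
        exact this
      rw [H.card_bb0] at h5
      have := h.trans h5
      norm_num at this
  refine ⟨hsup, ?_, ⟨MulEquiv.ofBijective σ ⟨(MonoidHom.ker_eq_bot_iff σ).mp hkb, hσs⟩⟩⟩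
  refine eq_bot_iff.mpr fun a ha => Subgroup.mem_bot.mpr ?_
  have := (hσk ⟨a, ha.2⟩).mpr ha.1
  rw [hkb, Subgroup.mem_bot] at this
  exact congrArg Subtype.val this

/-- The layer is the derived group. -/
theorem layer_eq (H : Frame z Q β co ρ) : Cfsg.layer (CB β) = commutator (CB β) := by
  obtain ⟨-, -, ⟨e⟩⟩ := H.split
  haveI := H91.J2A.J2_isSimple
  haveI := isPerfect_J2
  haveI : Nontrivial (commutator (CB β)) := e.toEquiv.nontrivial
  haveI hsim : IsSimpleGroup (commutator (CB β)) := e.isSimpleGroup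
  refine le_antisymm (sSup_le fun K hK => ?_) (le_sSup ⟨Subgroup.Normal.isSubnormal inferInstance, ?_, ?_⟩)
  · have hp := hK.2.1.commutator_eq_top
    intro k hk
    have : (⟨k, hk⟩ : K) ∈ commutator K := hp ▸ Subgroup.mem_top _
    have hle : (commutator K).map K.subtype ≤ commutator (CB β) := by
      rw [commutator_def, Subgroup.map_commutator, commutator_def]
      exact Subgroup.commutator_mono le_top le_top
    exact hle ⟨_, this, rfl⟩
  · exact isPerfect_of_mulEquiv e
  · have hz : Subgroup.center (commutator (CB β)) = ⊥ :=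
      (IsSimpleGroup.eq_bot_or_eq_top_of_normal _ inferInstance).resolve_right fun h => by
        obtain ⟨a, b, hab⟩ := H91.J2A.J2_noncomm
        obtain ⟨a', rfl⟩ := e.surjective a
        obtain ⟨b', rfl⟩ := e.surjective b
        refine hab ?_
        rw [← map_mul, ← map_mul]
        exact congrArg e (Subgroup.mem_center_iff.mp (h ▸ Subgroup.mem_top b') a')
    haveI : Nontrivial ((commutator (CB β)) ⧸ Subgroup.center (commutator (CB β))) :=
      ((QuotientGroup.quotientMulEquivOfEq hz).trans QuotientGroup.quotientBot).toEquiv.nontrivial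
    exact ((QuotientGroup.quotientMulEquivOfEq hz).trans QuotientGroup.quotientBot).isSimpleGroup

end Frame

end H65.Conway
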