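import Cfsg.Agent.H65.Conway.Base
import Cfsg.Agent.H73.Suz.Setup

/-!
Groups of Conway type: coordinates adapted to an element of order five with a fixed point, and the
action of the involution centraliser on them.
-/

set_option autoImplicit false

namespace H65.Conway

variable {G : Type*} [Group G] [Finite G] {z : G} {Q : Subgroup G} {β : G}

theorem one_add_one : (1 : ZMod 2) + 1 = 0 := by decide

/-- The extraspecial group is of plus type: it has `271` involutions. -/
def Plus (Q : Subgroup G) : Prop := Nat.card {a : G | a ∈ Q ∧ a * a = 1} = 272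

/-- Coordinates adapted to `β`, with the action of the centraliser. -/
structure Frame (z : G) (Q : Subgroup G) (β : G) (co : G → V8)
    (ρ : Subgroup.centralizer ({z} : Set G) →* O8) : Prop where
  fx : Fix z Q β
  crd : Coord z Q q8 co
  mem_fix : ∀ a ∈ Q, a ∈ fixQ Q β ↔ (co a).2 = 0
  mem_co : ∀ a ∈ Q, a ∈ coQ Q β ↔ (co a).1 = 0
  commute : ∀ a ∈ Q, ∀ b ∈ Q, Commute a b ↔ b8 (co a) (co b) = 0
  acts : ∀ (c : Subgroup.centralizer ({z} : Set G)), ∀ a ∈ Q,
    co ((c : G) * a * (c : G)⁻¹) = ((ρ c : O8) : V8 ≃ₗ[ZMod 2] V8) (co a)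
  ker : ∀ c, ρ c = 1 ↔ (c : G) ∈ Q
  range : ρ.range = R8

theorem card_q8_zero : Nat.card {v : V8 // q8 v = 0} = 136 := by
  rw [Nat.card_eq_fintype_card]; decide +kernel

/-- The mixed form. -/
def m8 (v : V8) : ZMod 2 := p4 v.1 + q4 v.2

theorem card_m8_zero : Nat.card {v : V8 // m8 v = 0} = 120 := by
  rw [Nat.card_eq_fintype_card]; decide +kernel

/-- Coordinates from the two factors. -/
theorem exists_co (F : Fix z Q β) {fu : V4 → ZMod 2} {fw : V4 → ZMod 2} {cu cw : G → V4}
    (hu : Coord z (fixQ Q β) fu cu) (hw : Coord z (coQ Q β) fw cw) :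
    ∃ co : G → V8, Coord z Q (fun v => fu v.1 + fw v.2) co ∧
      (∀ a ∈ Q, a ∈ fixQ Q β ↔ (co a).2 = 0) ∧ (∀ a ∈ Q, a ∈ coQ Q β ↔ (co a).1 = 0) := by
  classical
  choose s hs hs' using fun q : Q => F.decomp q.2
  have hzc : z ∈ coQ Q β :=
    mem_coQ.mpr ⟨F.base.zmem, fun p hp => F.base.comm_z (mem_fixQ.mp hp).1⟩
  let co : G → V8 := fun a => if h : a ∈ Q then (cu (s ⟨a, h⟩), cw ((s ⟨a, h⟩)⁻¹ * a)) else 0
  have key : ∀ p ∈ fixQ Q β, ∀ r ∈ coQ Q β, co (p * r) = (cu p, cw r) := by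
    intro p hp r hr
    have hm : p * r ∈ Q := mul_mem (mem_fixQ.mp hp).1 (mem_coQ.mp hr).1
    simp only [co, dif_pos hm]
    set t := s ⟨p * r, hm⟩ with ht
    have htP : t ∈ fixQ Q β := hs _
    have htr : t⁻¹ * (p * r) ∈ coQ Q β := hs' ⟨p * r, hm⟩
    have hw' : t⁻¹ * p ∈ coQ Q β := by
      rw [show t⁻¹ * p = t⁻¹ * (p * r) * r⁻¹ by group]
      exact mul_mem htr (inv_mem hr)
    have hcases := F.inter (mul_mem (inv_mem htP) hp) hw'
    have h0 : cu (t⁻¹ * p) = 0 ∧ cw (t⁻¹ * p) = 0 := by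
      rcases hcases with h | h <;> rw [h]
      exacts [⟨hu.one, hw.one⟩, ⟨hu.coz, hw.coz⟩]
    refine Prod.ext ?_ ?_
    · show cu t = cu p
      have := hu.mul t htP _ (mul_mem (inv_mem htP) hp)
      rw [mul_inv_cancel_left, h0.1, add_zero] at this
      exact this.symm
    · show cw (t⁻¹ * (p * r)) = cw r
      rw [← mul_assoc, hw.mul _ hw' r hr, h0.2, zero_add]
  have hdec : ∀ a ∈ Q, ∃ p ∈ fixQ Q β, ∃ r ∈ coQ Q β, a = p * r := fun a ha => by
    obtain ⟨p, hp, hr⟩ := F.decomp ha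
    exact ⟨p, hp, _, hr, by group⟩
  refine ⟨co, ⟨?_, ?_, ?_, ?_, ?_⟩, ?_, ?_⟩
  · intro a ha b hb
    obtain ⟨p, hp, r, hr, rfl⟩ := hdec a ha
    obtain ⟨p', hp', r', hr', rfl⟩ := hdec b hb
    have hc : Commute p' r := (mem_coQ.mp hr).2 p' hp'
    rw [show p * r * (p' * r') = p * p' * (r * r') by
      rw [mul_assoc p r, ← mul_assoc r p', ← hc.eq]; group]
    rw [key _ (mul_mem hp hp') _ (mul_mem hr hr'), key _ hp _ hr, key _ hp' _ hr', hu.mul _ hp _ hp',
      hw.mul _ hr _ hr']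
    rfl
  · intro a ha h
    obtain ⟨p, hp, r, hr, rfl⟩ := hdec a ha
    rw [key _ hp _ hr, Prod.mk_eq_zero] at h
    rcases hu.ker p hp h.1 with h1 | h1 <;> rcases hw.ker r hr h.2 with h2 | h2 <;>
      simp [h1, h2, F.base.zz]
  · intro v
    obtain ⟨p, hp, hpv⟩ := hu.surj v.1
    obtain ⟨r, hr, hrv⟩ := hw.surj v.2
    exact ⟨p * r, mul_mem (mem_fixQ.mp hp).1 (mem_coQ.mp hr).1, by rw [key _ hp _ hr, hpv, hrv]⟩
  · have := key z F.zmem 1 (one_mem _)
    rw [mul_one, hu.coz, hw.one] at this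
    exact this
  · intro a ha
    obtain ⟨p, hp, r, hr, rfl⟩ := hdec a ha
    rw [key _ hp _ hr]
    have hc : Commute p r := (mem_coQ.mp hr).2 p hp
    rw [show p * r * (p * r) = p * p * (r * r) by rw [mul_assoc p r, ← mul_assoc r p, ← hc.eq]; group]
    show p * p * (r * r) = 1 ↔ fu (cu p) + fw (cw r) = 0
    have e1 := hu.sq p hp
    have e2 := hw.sq r hr
    have hz1 := F.base.z_ne
    rcases zmod_two_cases (fu (cu p)) with h1 | h1 <;> rcases zmod_two_cases (fw (cw r)) with h2 | h2 <;>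
      rw [h1] at e1 <;> rw [h2] at e2 <;>
      rcases F.base.sq_cases (mem_fixQ.mp hp).1 with g1 | g1 <;>
      rcases F.base.sq_cases (mem_coQ.mp hr).1 with g2 | g2 <;>
      rw [g1] at e1 <;> rw [g2] at e2 <;> rw [g1, g2, h1, h2] <;>
      simp_all [F.base.zz, one_add_one]
  · intro a ha
    obtain ⟨p, hp, r, hr, rfl⟩ := hdec a ha
    rw [key _ hp _ hr]
    show p * r ∈ fixQ Q β ↔ cw r = 0
    refine ⟨fun h => ?_, fun h => ?_⟩
    · have : r ∈ fixQ Q β := by
        rw [show r = p⁻¹ * (p * r) by group]; exact mul_mem (inv_mem hp) h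
      rcases F.inter this hr with e | e <;> rw [e]
      exacts [hw.one, hw.coz]
    · rcases hw.ker r hr h with e | e <;> rw [e]
      exacts [mul_mem hp (one_mem _), mul_mem hp F.zmem]
  · intro a ha
    obtain ⟨p, hp, r, hr, rfl⟩ := hdec a ha
    rw [key _ hp _ hr]
    show p * r ∈ coQ Q β ↔ cu p = 0
    refine ⟨fun h => ?_, fun h => ?_⟩
    · have : p ∈ coQ Q β := by
        rw [show p = (p * r) * r⁻¹ by group]; exact mul_mem h (inv_mem hr)
      rcases F.inter hp this with e | e <;> rw [e]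
      exacts [hu.one, hu.coz]
    · rcases hu.ker p hp h with e | e <;> rw [e]
      exacts [mul_mem (one_mem _) hr, mul_mem hzc hr]

theorem plus_of_coord {co : G → V8} (hb : Base z Q) (H : Coord z Q q8 co) : Plus Q := by
  rw [Plus, show 272 = 2 * Nat.card {v : V8 // q8 v = 0} by rw [card_q8_zero],
    ← H.card_fibre hb.z_ne hb.zmem]
  exact congrArg (fun s : Set G => Nat.card s) (Set.ext fun a => and_congr_right fun ha => H.sq a ha)

/-- The type of the fixed group is determined by plus type or by the absence of `E₈`. -/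
theorem exists_q4_parts (F : Fix z Q β)
    (h : Plus Q ∨ ∀ A : Subgroup G, A ≤ fixQ Q β → Cfsg.IsElementaryAbelian 2 A → Nat.card A ≤ 4) :
    ∃ cu cw : G → V4, Coord z (fixQ Q β) q4 cu ∧ Coord z (coQ Q β) q4 cw := by
  have hzc : z ∈ coQ Q β :=
    mem_coQ.mpr ⟨F.base.zmem, fun p hp => F.base.comm_z (mem_fixQ.mp hp).1⟩
  obtain ⟨cw, hw⟩ := exists_coord32 F.coQ_extraspecial F.card_parts.2 hzc
    (fun a ha => (F.base.comm_z (mem_coQ.mp ha).1).symm) F.base.z_ne
  have hw' : Coord z (coQ Q β) q4 cw := hw.resolve_right fun H =>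
    H.not_p4_of_five F.base.z_ne hzc F.base.zz F.five (fun a ha => F.coQ_conj ha)
      fun a ha hc => F.coQ_fix ha hc
  obtain ⟨cu, hu⟩ := exists_coord32 F.fixQ_extraspecial F.card_parts.1 F.zmem
    (fun a ha => (F.base.comm_z (mem_fixQ.mp ha).1).symm) F.base.z_ne
  refine ⟨cu, cw, hu.resolve_right fun H => ?_, hw'⟩
  rcases h with h | h
  · obtain ⟨co, hco, -, -⟩ := exists_co F H hw'
    have h2 := hco.card_fibre F.base.z_ne F.base.zmem (fun v => m8 v = 0)
    rw [card_m8_zero] at h2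
    have e : {a : G | a ∈ Q ∧ m8 (co a) = 0} = {a : G | a ∈ Q ∧ a * a = 1} :=
      Set.ext fun a => and_congr_right fun ha => (hco.sq a ha).symm
    rw [e] at h2
    rw [Plus] at h
    omega
  · exact H.not_p4_of_no_eight F.base.z_ne F.zmem h

/-- Coordinates and the action. -/
theorem exists_frame (F : Fix z Q β)
    (h : Plus Q ∨ ∀ A : Subgroup G, A ≤ fixQ Q β → Cfsg.IsElementaryAbelian 2 A → Nat.card A ≤ 4) :
    ∃ co ρ, Frame z Q β co ρ := by
  classical
  have := Fact.mk Nat.prime_two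
  obtain ⟨cu, cw, hu, hw⟩ := exists_q4_parts F h
  obtain ⟨co, hco, hfix, hcoQ⟩ := exists_co F hu hw
  have hcrd : Coord z Q q8 co := hco
  have B := F.base
  have hsq : ∀ a ∈ Q, a * a = if q8 (co a) = 0 then 1 else z := fun a ha => by
    by_cases e : q8 (co a) = 0
    · rw [if_pos e]; exact (hcrd.sq a ha).mpr e
    · rw [if_neg e]; exact (B.sq_cases ha).resolve_left fun g => e ((hcrd.sq a ha).mp g)
  have hcomm : ∀ a ∈ Q, ∀ b ∈ Q, Commute a b ↔ b8 (co a) (co b) = 0 := by
    intro a ha b hb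
    have h1 := hsq _ (mul_mem ha hb)
    rw [hcrd.mul a ha b hb, q8_add] at h1
    rcases B.comm_cases hb ha with e | e
    · have h2 : a * b * (a * b) = (a * a) * (b * b) := by
        rw [mul_assoc a b, ← mul_assoc b a, e.eq]; group
      rw [h2, hsq a ha, hsq b hb] at h1
      refine iff_of_true e.symm ?_
      rcases zmod_two_cases (b8 (co a) (co b)) with g | g
      · exact g
      · exfalso
        rw [g] at h1
        rcases zmod_two_cases (q8 (co a)) with g1 | g1 <;> rcases zmod_two_cases (q8 (co b)) with g2 | g2 <;>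
          rw [g1, g2] at h1 <;>
          simp [B.z_ne, B.z_ne.symm, B.zz, one_add_one] at h1
    · have h2 : a * b * (a * b) = (a * a) * (b * b) * z := by
        rw [mul_assoc a b, ← mul_assoc b a, e,
          show a * (a * b * z * b) = a * a * (b * (z * b)) by group, ← (B.comm_z hb).eq]
        group
      rw [h2, hsq a ha, hsq b hb] at h1
      refine iff_of_false (fun g => B.z_ne ?_) ?_
      · rw [g.eq] at e
        exact left_eq_mul.mp e
      · intro g
        rw [g] at h1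
        rcases zmod_two_cases (q8 (co a)) with g1 | g1 <;> rcases zmod_two_cases (q8 (co b)) with g2 | g2 <;>
          rw [g1, g2] at h1 <;>
          simp [B.z_ne, B.z_ne.symm, B.zz, one_add_one] at h1
  let φ : Q →* Multiplicative P8 := MonoidHom.mk'
    (fun a => Multiplicative.ofAdd (e8.symm (co a))) (fun a b => by
      rw [Subgroup.coe_mul, hcrd.mul _ a.2 _ b.2, map_add]; rfl)
  set zQ : Q := ⟨z, B.zmem⟩
  have hzo : orderOf zQ = 2 := by rw [Subgroup.orderOf_mk, B.ord]
  have hzc : Subgroup.center Q = Subgroup.zpowers zQ := by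
    refine le_antisymm (fun a ha => ?_) (Subgroup.zpowers_le.mpr
      (Subgroup.mem_center_iff.mpr fun q => Subtype.ext (B.comm_z q.2).eq))
    rcases B.center_mem a.2 fun q hq => congrArg Subtype.val (Subgroup.mem_center_iff.mp ha ⟨q, hq⟩)
      with e | e
    · rw [show a = 1 from Subtype.ext e]; exact one_mem _
    · rw [show a = zQ from Subtype.ext e]; exact Subgroup.mem_zpowers _
  have hφs : Function.Surjective φ := fun v => by
    obtain ⟨a, ha, hav⟩ := hcrd.surj (e8 (Multiplicative.toAdd v))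
    exact ⟨⟨a, ha⟩, by show Multiplicative.ofAdd (e8.symm (co a)) = v; rw [hav, e8.symm_apply_apply]; rfl⟩
  have hφk : φ.ker = Subgroup.center Q := by
    ext a
    rw [hzc, MonoidHom.mem_ker]
    show Multiplicative.ofAdd (e8.symm (co a)) = 1 ↔ _
    rw [ofAdd_eq_one, e8.symm.map_eq_zero_iff]
    refine ⟨fun e => ?_, fun e => ?_⟩
    · rcases hcrd.ker a a.2 e with g | g
      · rw [show a = 1 from Subtype.ext g]; exact one_mem _
      · rw [show a = zQ from Subtype.ext g]; exact Subgroup.mem_zpowers _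
    · rcases H93.zpowers_two_cases hzo e with g | g
      · rw [g]; exact hcrd.one
      · rw [g]; exact hcrd.coz
  have hφq : ∀ g : Q, g * g = zQ ^ (Cfsg.quadFormPlus 4 (ZMod 2) (Multiplicative.toAdd (φ g))).val := by
    intro g
    refine Subtype.ext ?_
    show (g : G) * g = _
    rw [hsq _ g.2, SubgroupClass.coe_pow]
    show _ = z ^ (Cfsg.quadFormPlus 4 (ZMod 2) (e8.symm (co g))).val
    rw [e8_symm_form]
    rcases zmod_two_cases (q8 (co (g : G))) with e | e <;> rw [e] <;>
      simp [ZMod.val_one]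
  obtain ⟨ρ₀, hρ, hk⟩ := H73.Suz.exists_action B.pre.1 B.zmem B.nor
    (fun q hq => B.comm_z hq) (fun c _ hc => B.self hc) hzc B.z_ne B.zz φ hφs hφk
    (Cfsg.quadFormPlus 4 (ZMod 2)) hφq
  refine ⟨co, phi.toMonoidHom.comp ρ₀, F, hcrd, hfix, hcoQ, hcomm, fun c a ha => ?_, fun c => ?_, ?_⟩
  · have hm := B.nor c (Subgroup.mem_centralizer_singleton_iff.mp c.2) a ha
    have h1 : e8.symm (co ((c : G) * a * (c : G)⁻¹)) = _ := hρ c ⟨a, ha⟩ ⟨_, hm⟩ rfl
    have h2 := congrArg e8 h1
    rw [e8.apply_symm_apply, ← phi_apply] at h2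
    rw [h2]
    show ((phi (ρ₀ c) : O8) : V8 ≃ₗ[ZMod 2] V8) (e8 (e8.symm (co a))) = _
    rw [e8.apply_symm_apply]
    rfl
  · show phi (ρ₀ c) = 1 ↔ _
    rw [map_eq_one_iff _ phi.injective, hk]
  · rw [MonoidHom.range_comp, R8]
    congr 1
    refine eq_omega _ ?_
    have h1 := Subgroup.card_eq_card_quotient_mul_card_subgroup ρ₀.ker
    have hkQ : Nat.card ρ₀.ker = 512 := by
      rw [← B.card]
      refine Nat.card_congr
        { toFun := fun c => ⟨((c : Subgroup.centralizer ({z} : Set G)) : G), (hk _).mp c.2⟩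
          invFun := fun q => ⟨⟨q, Subgroup.mem_centralizer_singleton_iff.mpr (B.comm_z q.2)⟩,
            (hk _).mpr q.2⟩
          left_inv := fun _ => rfl
          right_inv := fun _ => rfl }
    rw [B.cardC, hkQ, Nat.card_congr (QuotientGroup.quotientKerEquivRange ρ₀).toEquiv] at h1
    omega

theorem Frame.plus {co : G → V8} {ρ : Subgroup.centralizer ({z} : Set G) →* O8}
    (H : Frame z Q β co ρ) : Plus Q := plus_of_coord H.fx.base H.crd

end H65.Conway
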