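import Cfsg.Agent.H65.Conway.Comp

/-!
Groups of Conway type: the centraliser of the layer of the centraliser of an element of order five
with a fixed point is the alternating group of degree five.
-/

set_option autoImplicit false

open scoped commutatorElement

namespace H65.Conway

local notation "A5" => alternatingGroup (Fin 5)

theorem perp_line : ∀ u0 : V4, u0 ≠ 0 → ∀ v : V4, v = 0 ∨ v = u0 ∨
    ∃ u : V4, b4 u u0 = 0 ∧ b4 v u = 1 := by
  decide +kernel

theorem exists_pairing : ∀ u0 : V4, u0 ≠ 0 → ∃ u1 : V4, b4 u1 u0 = 1 := by decide +kernel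

theorem a5_center : ∀ a : A5, (∀ b : A5, a * b = b * a) → a = 1 := by decide +kernel

variable {G : Type*} [Group G] [Finite G] {z : G} {Q : Subgroup G} {β : G}

namespace Frame

variable {co : G → V8} {ρ : Subgroup.centralizer ({z} : Set G) →* O8}

namespace Comp

variable {H : Frame z Q β co ρ} {s : A5 →* G}

theorem injective (S : H.Comp s) : Function.Injective s := (injective_iff_map_eq_one s).mpr fun a ha => by
  have := S.rep a
  rw [show mkC (S.hz a) = 1 from Subtype.ext ha] at this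
  exact Subtype.ext (rep_unique this rep_one).2

/-- The centraliser of `β` in `C(z)` is `⟨β⟩` times the centraliser of the complement. -/
theorem exists_cent_mul (S : H.Comp s) {c : G} (hcz : Commute c z) (hcb : Commute c β) :
    ∃ k : ℕ, ∀ a, Commute (c * (β ^ k)⁻¹) (s a) := by
  have B := H.fx.base
  obtain ⟨τ₀, hβ, h5, h1⟩ := H.exists_rep_beta
  obtain ⟨a₀, ha₀⟩ := S.beta
  have ha₀' := S.beta_eq hβ ha₀
  obtain ⟨σ, k, hc, -⟩ := H.commute_rep hβ h5 h1 (c := mkC hcz) hcb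
  let m : ℕ := k
  let s' : A5 →* G := (MulAut.conj c).toMonoidHom.comp
    (s.comp (MulAut.conj (a₀ ^ m)⁻¹).toMonoidHom)
  have hval : ∀ a, s' a = c * s ((a₀ ^ m)⁻¹ * a * a₀ ^ m) * c⁻¹ := fun a => by
    show c * s ((a₀ ^ m)⁻¹ * a * ((a₀ ^ m)⁻¹)⁻¹) * c⁻¹ = _
    rw [inv_inv]
  have hz' : ∀ a, Commute (s' a) z := fun a => by
    rw [hval]; exact (hcz.mul_left (S.hz _)).mul_left hcz.inv_left
  have S' : H.Comp s' := by
    refine ⟨hz', fun a p hp => ?_, fun a => ?_, a₀, ?_⟩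
    · have hm : c⁻¹ * p * c ∈ fixQ Q β := by
        have := B.nor _ hcz.inv_left p (mem_fixQ.mp hp).1
        rw [inv_inv] at this
        exact mem_fixQ.mpr ⟨this,
          (hcb.symm.inv_right.mul_right (mem_fixQ.mp hp).2).mul_right hcb.symm⟩
      have h := (S.fix ((a₀ ^ m)⁻¹ * a * a₀ ^ m) _ hm).map (MulAut.conj c)
      simp only [MulAut.conj_apply] at h
      rw [hval]
      rwa [show c * (c⁻¹ * p * c) * c⁻¹ = p by group] at h
    · have h := rep_mul (rep_mul hc (S.rep ((a₀ ^ m)⁻¹ * a * a₀ ^ m))) (rep_inv hc)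
      rw [mul_one, mul_inv_cancel,
        show τ₀ ^ (k : ℕ) * ((((a₀ ^ m)⁻¹ * a * a₀ ^ m : A5)) : Equiv.Perm (Fin 5)) *
            (τ₀ ^ (k : ℕ))⁻¹ = (a : Equiv.Perm (Fin 5)) by
          push_cast
          rw [ha₀']; simp only [m]; group] at h
      rwa [show mkC hcz * mkC (S.hz ((a₀ ^ m)⁻¹ * a * a₀ ^ m)) * (mkC hcz)⁻¹ = mkC (hz' a) from
        Subtype.ext (hval a).symm] at h
    · rw [hval, ((Commute.pow_self a₀ m).inv_left).eq, inv_mul_cancel_right, ha₀, hcb.eq,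
        mul_inv_cancel_right]
  refine ⟨m, fun a => ?_⟩
  have e : s' a = s a := DFunLike.congr_fun (S.unique S') a
  rw [hval, map_mul, map_mul, map_inv, map_pow, ha₀] at e
  refine mul_inv_eq_iff_eq_mul.mp ?_
  conv_rhs => rw [← e]
  group

/-- Two-elements of the centraliser of `β` in `C(z)` centralise the complement. -/
theorem two_elem_cent (S : H.Comp s) {c : G} (hcz : Commute c z) (hcb : Commute c β)
    (h16 : c ^ 16 = 1) (a : A5) : Commute c (s a) := by
  obtain ⟨k, hk⟩ := S.exists_cent_mul hcz hcb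
  obtain ⟨a₀, ha₀⟩ := S.beta
  set d := c * (β ^ k)⁻¹ with hd
  have hcomm : Commute c (β ^ k) := hcb.pow_right k
  have hd16 : d ^ 16 = ((β ^ k) ^ 16)⁻¹ := by
    rw [hd, hcomm.inv_right.mul_pow, h16, one_mul, inv_pow]
  have hcen : (a₀ ^ k) ^ 16 = 1 := a5_center _ fun b => S.injective (by
    have hb := (hk b).pow_left 16
    rw [hd16] at hb
    have hb' := hb.inv_left
    rw [inv_inv, ← ha₀, ← map_pow, ← map_pow] at hb'
    rw [map_mul, map_mul]
    exact hb'.eq)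
  have hb16 : (β ^ k) ^ 16 = 1 := by rw [← ha₀, ← map_pow, ← map_pow, hcen, map_one]
  have h5 : (β ^ k) ^ 5 = 1 := by rw [← pow_mul, mul_comm, pow_mul, H.fx.five, one_pow]
  have hb1 : β ^ k = 1 := by
    rwa [pow_mod_five h5 16, show 16 % 5 = 1 from rfl, pow_one] at hb16
  have := hk a
  rwa [hd, hb1, inv_one, mul_one] at this

/-- Fusion inside the centraliser of the complement. -/
theorem exists_fusion_cent (S : H.Comp s) {y : G} (hy : y ∈ fixQ Q β) (hy2 : y * y = 1)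
    (hy1 : y ≠ 1) (hyz : y ≠ z) : ∃ g : G, (∀ a, Commute g (s a)) ∧ g * z * g⁻¹ = y := by
  classical
  have B := H.fx.base
  obtain ⟨τ₀, hβ, h5, h1⟩ := H.exists_rep_beta
  obtain ⟨a₀, ha₀⟩ := S.beta
  have ha₀' := S.beta_eq hβ ha₀
  obtain ⟨g, hgb, hgy⟩ := H.exists_fusion hy hy2 hy1 hyz
  have hyQ : g * z * g⁻¹ ∈ Q := hgy ▸ (mem_fixQ.mp hy).1
  set z₀ := g⁻¹ * z * g with hz₀def
  have hz₀Q : z₀ ∈ Q := B.symm hyQ
  have hzb : Commute z β := H.fx.comm.symm
  have hz₀f : z₀ ∈ fixQ Q β :=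
    mem_fixQ.mpr ⟨hz₀Q, ((hgb.inv_left.mul_left hzb).mul_left hgb).symm⟩
  have hz₀1 : z₀ ≠ 1 := fun e => B.z_ne (by
    calc z = g * z₀ * g⁻¹ := by rw [hz₀def]; group
      _ = 1 := by rw [e]; group)
  have hz₀z : z₀ ≠ z := fun e => hyz (by
    rw [← hgy]
    calc g * z * g⁻¹ = g * z₀ * g⁻¹ := by rw [e]
      _ = z := by rw [hz₀def]; group)
  have hz₀2 : z₀ * z₀ = 1 := by
    rw [hz₀def, show g⁻¹ * z * g * (g⁻¹ * z * g) = g⁻¹ * (z * z) * g by group, B.zz]; group
  have hco₀ : co z₀ = ((co z₀).1, 0) := Prod.ext rfl ((H.mem_fix _ hz₀Q).mp hz₀f)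
  set u₀ := (co z₀).1 with hu₀
  have hu₀ne : u₀ ≠ 0 := fun e => H.noncentral_co hz₀Q hz₀1 hz₀z (by rw [hco₀, e]; rfl)
  have hu₀q : q4 u₀ = 0 := by
    have h := (H.crd.sq z₀ hz₀Q).mp hz₀2
    rw [hco₀] at h
    simpa [q8, q4_zero] using h
  -- the conjugate complement
  let s₁ : A5 →* G := (MulAut.conj g⁻¹).toMonoidHom.comp s
  have hs₁ : ∀ a, s₁ a = g⁻¹ * s a * g := fun a => by
    show g⁻¹ * s a * g⁻¹⁻¹ = _
    rw [inv_inv]
  have hz₁ : ∀ a, Commute (s₁ a) z := fun a => by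
    have h := (S.fix a y hy).map (MulAut.conj g⁻¹)
    simp only [MulAut.conj_apply, inv_inv] at h
    rw [← hgy, show g⁻¹ * (g * z * g⁻¹) * g = z by group] at h
    rw [hs₁]
    exact h
  have hb₁ : s₁ a₀ = β := by
    rw [hs₁, ha₀, mul_assoc, ← hgb.eq, inv_mul_cancel_left]
  set f : A5 → V8 ≃ₗ[ZMod 2] V8 := fun a => ((ρ (mkC (hz₁ a)) : O8) : V8 ≃ₗ[ZMod 2] V8) with hf
  have hfmul : ∀ a b v, f (a * b) v = f a (f b v) := fun a b v => by
    have e : mkC (hz₁ (a * b)) = mkC (hz₁ a) * mkC (hz₁ b) := Subtype.ext (map_mul s₁ a b)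
    show ((ρ (mkC (hz₁ (a * b))) : O8) : V8 ≃ₗ[ZMod 2] V8) v = _
    rw [e, map_mul]
    rfl
  have hfperp : ∀ a u, b4 u u₀ = 0 → f a (u, 0) = (u, 0) := by
    intro a u hu
    obtain ⟨p, hp, hpu⟩ := H.exists_of_coord (u, 0)
    have hpf : p ∈ fixQ Q β := (H.mem_fix p hp).mpr (by rw [hpu])
    have hcp : Commute p z₀ := (H.commute p hp z₀ hz₀Q).mpr (by
      rw [hpu, hco₀]
      show b4 u u₀ + b4 0 0 = 0
      rw [hu, show b4 0 0 = 0 by decide, add_zero])
    have hgz : Commute (g * p * g⁻¹) z := by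
      have h := hcp.map (MulAut.conj g)
      simp only [MulAut.conj_apply] at h
      rwa [hz₀def, show g * (g⁻¹ * z * g) * g⁻¹ = z by group] at h
    have hgpb : Commute (g * p * g⁻¹) β :=
      (hgb.mul_left (mem_fixQ.mp hpf).2.symm).mul_left hgb.inv_left
    have hg16 : (g * p * g⁻¹) ^ 16 = 1 := by
      rw [conj_pow, show (16 : ℕ) = 2 * (2 * 4) from rfl, pow_mul, pow_two]
      rcases B.sq_cases hp with e | e <;> rw [e]
      · group
      · rw [pow_mul, pow_two z, B.zz]; group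
    have h := ((S.two_elem_cent hgz hgpb hg16 a).map (MulAut.conj g⁻¹))
    simp only [MulAut.conj_apply, inv_inv] at h
    rw [show g⁻¹ * (g * p * g⁻¹) * g = p by group, ← hs₁] at h
    have e := H.conj_co (hz₁ a) hp
    rw [← h.eq, mul_inv_cancel_right, hpu] at e
    exact e.symm
  have hu₀0 : b4 u₀ u₀ = 0 := (by decide +kernel : ∀ v : V4, b4 v v = 0) u₀
  have hfu₀ : ∀ a x, (x = 0 ∨ x = u₀) → f a (x, 0) = (x, 0) := fun a x hx => by
    rcases hx with rfl | rfl
    · exact map_zero (f a)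
    · exact hfperp a _ hu₀0
  have horth : ∀ a v u, b4 u u₀ = 0 →
      b4 (f a v).1 u = b4 v.1 u := fun a v u hu => by
    have h := O8_b (ρ (mkC (hz₁ a))) v (u, 0)
    have hz' : ∀ w : V4, b4 w 0 = 0 := fun w => by simp [b4_formula]
    change b8 (f a v) (f a (u, 0)) = b8 v (u, 0) at h
    rw [hfperp a u hu, b8, b8] at h
    simpa [hz'] using h
  have hline : ∀ v : V4, (∀ u, b4 u u₀ = 0 → b4 v u = 0) → v = 0 ∨ v = u₀ := fun v h => by
    rcases perp_line u₀ hu₀ne v with e | e | ⟨u, hu, hu'⟩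
    exacts [Or.inl e, Or.inr e, absurd (h u hu) (by rw [hu']; decide)]
  have hfW : ∀ a w, (f a (0, w)).1 = 0 ∨ (f a (0, w)).1 = u₀ := fun a w =>
    hline _ fun u hu => by rw [horth a (0, w) u hu]; simp [b4_formula]
  -- the action on the moving part
  have hπex : ∀ a, ∃ σ : Equiv.Perm (Fin 5), ∀ w, (f a (0, w)).2 = act σ w := by
    intro a
    let A : V4 →ₗ[ZMod 2] V4 :=
      (LinearMap.snd _ _ _) ∘ₗ (f a).toLinearMap ∘ₗ LinearMap.inr _ _ _
    have hAi : Function.Injective A := (injective_iff_map_eq_zero A).mpr fun w hw => by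
      have e : f a (0, w) = f a ((f a (0, w)).1, 0) := by
        rw [hfu₀ a _ (hfW a w)]
        exact Prod.ext rfl hw
      exact (Prod.ext_iff.mp ((f a).injective e)).2
    have hAq : ∀ w, q4 (A w) = q4 w := fun w => by
      have h := mem_O8.mp (ρ (mkC (hz₁ a))).2 (0, w)
      change q4 (f a (0, w)).1 + q4 (f a (0, w)).2 = q4 0 + q4 w at h
      have h0 : q4 (f a (0, w)).1 = 0 := by
        rcases hfW a w with e | e <;> rw [e]
        exacts [q4_zero, hu₀q]
      rw [h0, q4_zero, zero_add, zero_add] at h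
      exact h
    let fo : O4 := ⟨LinearEquiv.ofBijective A (Finite.injective_iff_bijective.mp hAi), hAq⟩
    exact ⟨permEquiv fo, fun w => apply_eq fo w⟩
  choose π hπ using hπex
  have hact : ∀ σ τ : Equiv.Perm (Fin 5), (∀ w, act σ w = act τ w) → σ = τ := fun σ τ h =>
    toO4_bijective.1 (Subtype.ext (LinearEquiv.ext fun w => h w))
  have hsplit : ∀ (a : A5) (v : V8), (v.1 = 0 ∨ v.1 = u₀) → (f a v).2 = act (π a) v.2 := by
    intro a v hv
    rw [show v = (v.1, 0) + (0, v.2) by simp, map_add, hfu₀ a _ hv, Prod.snd_add, hπ]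
    simp
  let πh : A5 →* Equiv.Perm (Fin 5) := MonoidHom.mk' π fun a b => hact _ _ fun w => by
    rw [← hπ (a * b) w, hfmul, hsplit a _ (hfW b w), hπ, act_mul_apply]
  have hπ₀ : π a₀ = τ₀ := hact _ _ fun w => by
    have e : mkC (hz₁ a₀) = mkC H.fx.comm := Subtype.ext hb₁
    rw [← hπ a₀ w]
    simp only [hf, e]
    rw [hβ, pair_apply, toO4_apply, toO4_apply]
  have hπinj : Function.Injective πh := by
    haveI := a5_simple
    rcases IsSimpleGroup.eq_bot_or_eq_top_of_normal πh.ker inferInstance with h | h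
    · exact (MonoidHom.ker_eq_bot_iff _).mp h
    · exact absurd (hπ₀ ▸ (MonoidHom.mem_ker.mp (h ▸ Subgroup.mem_top a₀ : a₀ ∈ πh.ker))) h1
  obtain ⟨u₁, hu₁⟩ := exists_pairing u₀ hu₀ne
  -- the displacement of the last vector
  let D : A5 → V8 := fun a => f a (u₁, 0) + (u₁, 0)
  have hD1 : ∀ a, (D a).1 = 0 ∨ (D a).1 = u₀ := fun a => hline _ fun u hu => by
    show b4 ((f a (u₁, 0)).1 + u₁) u = 0
    rw [b4_add_left, horth a (u₁, 0) u hu]
    exact CharTwo.add_self_eq_zero _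
  have hDval : ∀ a, f a (u₁, 0) = D a + (u₁, 0) := fun a => by
    show _ = f a (u₁, 0) + (u₁, 0) + (u₁, 0)
    rw [add_assoc, ZModModule.add_self, add_zero]
  have hDmul : ∀ a b, D (a * b) = f a (D b) + D a := fun a b => by
    show f (a * b) (u₁, 0) + (u₁, 0) = _
    rw [hfmul, hDval b, map_add, add_assoc]
  have hD2 : ∀ a, (D a).2 = 0 := by
    refine cocycle_vanish πh hπinj (fun a => (D a).2) (fun a b => ?_)
      (a₀ := a₀) (Subtype.ext (by rw [SubgroupClass.coe_pow, ha₀', h5]; rfl))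
      (fun e => h1 (by rw [← ha₀', e]; rfl)) ?_
    · show (D (a * b)).2 = (D a).2 + act (π a) (D b).2
      rw [hDmul, Prod.snd_add, hsplit a _ (hD1 b), add_comm]
    · have e : mkC (hz₁ a₀) = mkC H.fx.comm := Subtype.ext hb₁
      show (f a₀ (u₁, 0) + (u₁, 0)).2 = 0
      simp only [hf, e]
      rw [hβ, pair_apply, toO4_apply, toO4_apply]
      simp
  have hD0 : ∀ a, D a = 0 := by
    have hval : ∀ b, D b = ((D b).1, 0) := fun b => Prod.ext rfl (hD2 b)
    let F : A5 →* Multiplicative V8 := MonoidHom.mk' (fun a => Multiplicative.ofAdd (D a)) fun a b => by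
      show Multiplicative.ofAdd (D (a * b)) = Multiplicative.ofAdd (D a + D b)
      rw [hDmul, hval b, hfu₀ a _ (hD1 b), add_comm]
    intro a
    exact Multiplicative.ofAdd.injective ((hom_trivial F a).trans ofAdd_zero.symm)
  have hfU : ∀ a u, f a (u, 0) = (u, 0) := by
    intro a u
    rcases zmod_two_cases (b4 u u₀) with h | h
    · exact hfperp a u h
    · have hu : b4 (u + u₁) u₀ = 0 := by rw [b4_add_left, h, hu₁]; decide
      have e : ((u, 0) : V8) = (u + u₁, 0) + (u₁, 0) := by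
        rw [Prod.mk_add_mk, add_assoc, ZModModule.add_self, add_zero, add_zero]
      rw [e, map_add, hfperp a _ hu, hDval, hD0, zero_add]
  have hfix₁ : ∀ a, ∀ p ∈ fixQ Q β, Commute (s₁ a) p := fun a p hp => by
    refine H.fix_commute s₁ hz₁ (mem_fixQ.mp hp).1 (fun b => ?_) a
    have e : co p = ((co p).1, 0) := Prod.ext rfl ((H.mem_fix p (mem_fixQ.mp hp).1).mp hp)
    rw [H.conj_co (hz₁ b) (mem_fixQ.mp hp).1, e]
    exact hfU b _
  have hrep : ∀ a, Rep ρ (mkC (hz₁ a)) 1 (π a) := fun a => by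
    obtain ⟨τ, h, -⟩ := H.rep_of_fix (c := mkC (hz₁ a)) (hfix₁ a)
    rwa [hact (π a) τ fun w => by
      rw [← hπ a w]
      simp only [hf]
      rw [h, pair_apply, toO4_apply, toO4_apply]]
  let π' : A5 →* A5 := MonoidHom.mk'
    (fun a => ⟨π a, Equiv.Perm.mem_alternatingGroup.mpr (by simpa [πh] using hom_trivial (Equiv.Perm.sign.comp πh) a)⟩)
    (fun a b => Subtype.ext (map_mul πh a b))
  have hπ' : Function.Injective π' := fun a b e => hπinj (congrArg Subtype.val e)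
  let e := MulEquiv.ofBijective π' (Finite.injective_iff_bijective.mp hπ')
  have S₂ : H.Comp (s₁.comp e.symm.toMonoidHom) := by
    refine ⟨fun a => hz₁ _, fun a => hfix₁ _, fun a => ?_, e a₀, ?_⟩
    · have h := hrep (e.symm a)
      rwa [show π (e.symm a) = (a : Equiv.Perm (Fin 5)) from
        congrArg Subtype.val (e.apply_symm_apply a)] at h
    · show s₁ (e.symm (e a₀)) = β
      rw [e.symm_apply_apply, hb₁]
  obtain ⟨k, hk⟩ := aut_fix_five π' hπ'
    (Subtype.ext (by rw [SubgroupClass.coe_pow, ha₀', h5]; rfl))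
    (fun e' => h1 (by rw [← ha₀', e']; rfl)) (Subtype.ext (hπ₀.trans ha₀'.symm))
  refine ⟨g * β ^ k, fun a => ?_, ?_⟩
  · have h := DFunLike.congr_fun (S.unique S₂) (π' a)
    change s₁ (e.symm (e a)) = s (π' a) at h
    rw [e.symm_apply_apply, hk a, map_mul, map_mul, map_inv, map_pow, ha₀, hs₁] at h
    refine mul_inv_eq_iff_eq_mul.mp ?_
    rw [show g * β ^ k * s a * (g * β ^ k)⁻¹ = g * (β ^ k * s a * (β ^ k)⁻¹) * g⁻¹ by group, ← h]
    group
  · rw [show g * β ^ k * z * (g * β ^ k)⁻¹ = g * (β ^ k * z * (β ^ k)⁻¹) * g⁻¹ by group,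
      (H.fx.comm.pow_left k).eq, mul_inv_cancel_right, hgy]

/-- The derived group of the centraliser of `β` centralises the complement. -/
theorem commutator_cent (S : H.Comp s) :
    commutator (CB β) ≤ (Subgroup.centralizer (s.range : Set G)).subgroupOf (CB β) := by
  classical
  have B := H.fx.base
  obtain ⟨a₀, ha₀⟩ := S.beta
  have hmemK : ∀ {g : G}, g ∈ Subgroup.centralizer (s.range : Set G) ↔ ∀ a, Commute g (s a) := by
    intro g
    rw [Subgroup.mem_centralizer_iff]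
    refine ⟨fun h a => (h _ ⟨a, rfl⟩).symm, fun h b hb => ?_⟩
    obtain ⟨a, rfl⟩ := hb
    exact (h a).eq.symm
  set K := (Subgroup.centralizer (s.range : Set G)).subgroupOf (CB β)
  set Kb := K.map (QuotientGroup.mk' (BB0 β))
  obtain ⟨χ, W⟩ := H.exists_two
  -- the centraliser of the involution lies in the image
  have hC : Subgroup.centralizer ({H.zbar} : Set (CB β ⧸ BB0 β)) ≤ Kb := by
    intro x hx
    obtain ⟨g, rfl⟩ := QuotientGroup.mk'_surjective (BB0 β) x
    have hgz := H.commute_lift (g := g) (Subgroup.mem_centralizer_singleton_iff.mp hx)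
    obtain ⟨k, hk⟩ := S.exists_cent_mul hgz (mem_CB.mp g.2)
    refine ⟨g * ⟨β ^ k, mem_CB.mpr ((Commute.refl β).pow_left k)⟩⁻¹,
      Subgroup.mem_subgroupOf.mpr (hmemK.mpr hk), ?_⟩
    refine (toQt_eq_iff.mpr ⟨(k : ℤ), ?_⟩)
    rw [zpow_natCast]
    show (g : G) = (g : G) * (β ^ k)⁻¹ * β ^ k
    group
  have hzK : H.zbar ∈ Kb := hC (Subgroup.mem_centralizer_singleton_iff.mpr rfl)
  have hQK : H.Qbar ≤ Kb := le_trans W.toHyp.le hC
  let incl : Subgroup.centralizer ({(⟨H.zbar, hzK⟩ : Kb)} : Set Kb) →*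
      Subgroup.centralizer ({H.zbar} : Set (CB β ⧸ BB0 β)) :=
    MonoidHom.mk' (fun x => ⟨((x : Kb) : CB β ⧸ BB0 β), Subgroup.mem_centralizer_singleton_iff.mpr
      (congrArg Subtype.val (Subgroup.mem_centralizer_singleton_iff.mp x.2))⟩) fun _ _ => rfl
  obtain ⟨u, h, x, c, K₀⟩ := W.toHyp.exists_ctx
  have hxc : x * c ∈ Kb := hC (Subgroup.mem_centralizer_singleton_iff.mpr (K₀.comm_z W.toHyp))
  have hcoe : ∀ {p : Kb}, p ∈ H.Qbar.subgroupOf Kb ↔ (p : CB β ⧸ BB0 β) ∈ H.Qbar := Iff.rfl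
  have W' : H36.HJ.Two (⟨H.zbar, hzK⟩ : Kb) (H.Qbar.subgroupOf Kb) (χ.comp incl) := by
    refine ⟨⟨?_, fun p hp => ?_, fun a => ?_, fun p => W.toHyp.ker (incl p), ?_, ?_, ?_, ?_, ?_⟩, ?_⟩
    · rw [Subgroup.orderOf_mk]; exact W.toHyp.ord
    · exact Subgroup.mem_centralizer_singleton_iff.mpr (Subtype.ext
        (Subgroup.mem_centralizer_singleton_iff.mp (W.toHyp.le (hcoe.mp hp))))
    · obtain ⟨w, hw⟩ := W.toHyp.surj a
      refine ⟨⟨⟨w, hC w.2⟩, Subgroup.mem_centralizer_singleton_iff.mpr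
        (Subtype.ext (Subgroup.mem_centralizer_singleton_iff.mp w.2))⟩, hw⟩
    · exact H36.HJ.isExtraspecial_congr (Subgroup.subgroupOfEquivOfLe hQK).symm W.toHyp.extra
    · rw [Nat.card_congr (Subgroup.subgroupOfEquivOfLe hQK).toEquiv]; exact W.toHyp.card
    · exact W.toHyp.zmem
    · intro k hk hq
      exact W.toHyp.self k (congrArg Subtype.val hk.eq) fun q hq' =>
        congrArg Subtype.val (hq ⟨q, hQK hq'⟩ hq').eq
    · obtain ⟨y, hyQ, hyv⟩ := H.exists_of_coord (sv 0, 0)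
      have hyf : y ∈ fixQ Q β := (H.mem_fix y hyQ).mpr (by rw [hyv])
      have hy0 : co y ≠ 0 := by
        rw [hyv]; exact fun h => (sv_singular 0).2 (Prod.ext_iff.mp h).1
      have hy2 : y * y = 1 := (H.crd.sq y hyQ).mpr (by
        rw [hyv]; show q4 (sv 0) + q4 0 = 0; rw [(sv_singular 0).1, q4_zero, add_zero])
      have hy1 : y ≠ 1 := fun e => hy0 (by rw [e, H.crd.one])
      have hyz : y ≠ z := fun e => hy0 (by rw [e, H.crd.coz])
      obtain ⟨g, hgs, hgy⟩ := S.exists_fusion_cent hyf hy2 hy1 hyz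
      have hgb : Commute g β := ha₀ ▸ hgs a₀
      let g' : CB β := ⟨g, mem_CB.mpr hgb⟩
      let y' : CB β := ⟨y, mem_CB.mpr (mem_fixQ.mp hyf).2.symm⟩
      have hg' : toQt g' ∈ Kb := ⟨g', Subgroup.mem_subgroupOf.mpr (hmemK.mpr hgs), rfl⟩
      have e : toQt g' * H.zbar * (toQt g')⁻¹ = toQt y' := by
        show toQt (g' * ⟨z, _⟩ * g'⁻¹) = _
        exact congrArg toQt (Subtype.ext hgy)
      refine ⟨⟨_, hg'⟩, hcoe.mpr ?_, fun h => ?_⟩
      · show toQt g' * H.zbar * (toQt g')⁻¹ ∈ H.Qbar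
        rw [e]; exact ⟨y', hyf, rfl⟩
      · have h' : toQt g' * H.zbar * (toQt g')⁻¹ = H.zbar := congrArg Subtype.val h
        rw [e] at h'
        obtain ⟨i, hi⟩ := toQt_eq_iff.mp h'
        have hi' : z = y * β ^ i := hi
        have hb : β ^ i = y⁻¹ * z := by rw [hi']; group
        have := H.fx.zpow_mem_Q (hb ▸ mul_mem (inv_mem hyQ) B.zmem)
        rw [this, mul_one] at hi'
        exact hyz hi'.symm
    · refine ⟨⟨H.zbar, hzK⟩, ⟨x * c, hxc⟩, ?_, ?_, fun hc => W.nconj K₀ ?_⟩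
      · rw [Subgroup.orderOf_mk]; exact W.toHyp.ord
      · have := Fact.mk Nat.prime_two
        exact orderOf_eq_prime (Subtype.ext (by rw [pow_two]; exact K₀.sq W.toHyp))
          fun e => K₀.ne_one W.toHyp (congrArg Subtype.val e)
      · obtain ⟨k, hk⟩ := isConj_iff.mp hc
        exact isConj_iff.mpr ⟨k, congrArg Subtype.val hk⟩
  obtain ⟨_, _, _, _, _, F1⟩ := W.exists_full
  obtain ⟨_, _, _, _, _, F2⟩ := W'.exists_full
  have hKb : Kb = ⊤ := Subgroup.eq_top_of_card_eq _ (F2.card_G.trans F1.card_G.symm)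
  have hsup : ∀ g : CB β, ∃ b ∈ BB0 β, ∃ k ∈ K, g = b * k := fun g => by
    obtain ⟨k, hk, e⟩ := (hKb ▸ Subgroup.mem_top (QuotientGroup.mk' (BB0 β) g) :
      QuotientGroup.mk' (BB0 β) g ∈ Kb)
    refine ⟨g * k⁻¹, ?_, k, hk, by group⟩
    refine (QuotientGroup.eq_one_iff _).mp ?_
    show QuotientGroup.mk' (BB0 β) (g * k⁻¹) = 1
    rw [map_mul, map_inv, e, mul_inv_cancel]
  have hbK : BB0 β ≤ Subgroup.center (CB β) := bb0_central
  rw [commutator_def, Subgroup.commutator_le]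
  intro p _ q _
  obtain ⟨b, hb, k, hk, rfl⟩ := hsup p
  obtain ⟨b', hb', k', hk', rfl⟩ := hsup q
  have hc := fun g => Subgroup.mem_center_iff.mp (hbK hb) g
  have hc' := fun g => Subgroup.mem_center_iff.mp (hbK hb') g
  have e : ⁅b * k, b' * k'⁆ = k * k' * k⁻¹ * k'⁻¹ := by
    simp only [commutatorElement_def, mul_inv_rev]
    calc b * k * (b' * k') * (k⁻¹ * b⁻¹) * (k'⁻¹ * b'⁻¹)
        = b * (k * b') * k' * k⁻¹ * b⁻¹ * k'⁻¹ * b'⁻¹ := by group
      _ = b * b' * (k * k' * k⁻¹) * b⁻¹ * k'⁻¹ * b'⁻¹ := by rw [hc' k]; group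
      _ = b' * b * (k * k' * k⁻¹) * b⁻¹ * k'⁻¹ * b'⁻¹ := by rw [hc' b]
      _ = b' * (b * (k * k' * k⁻¹)) * b⁻¹ * k'⁻¹ * b'⁻¹ := by group
      _ = b' * ((k * k' * k⁻¹) * b) * b⁻¹ * k'⁻¹ * b'⁻¹ := by rw [hc]
      _ = b' * (k * k' * k⁻¹ * k'⁻¹) * b'⁻¹ := by group
      _ = k * k' * k⁻¹ * k'⁻¹ := by rw [← hc']; group
  rw [e]
  exact mul_mem (mul_mem (mul_mem hk hk') (inv_mem hk)) (inv_mem hk')

end Comp

/-- Two-elements centralising `β` lie in the derived group. -/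
theorem mem_commutator_of_pow (H : Frame z Q β co ρ) {g : CB β} (h16 : g ^ 16 = 1) :
    g ∈ commutator (CB β) := by
  obtain ⟨hsup, -, -⟩ := H.split
  obtain ⟨b, hb, l, hl, rfl⟩ := (Subgroup.mem_sup_of_normal_left (s := BB0 β)).mp
    (hsup ▸ Subgroup.mem_top g)
  have hc : Commute b l := (Subgroup.mem_center_iff.mp (bb0_central hb) l).symm
  rw [hc.mul_pow] at h16
  have hb16 : b ^ 16 ∈ commutator (CB β) := by
    rw [eq_inv_of_mul_eq_one_left h16]; exact inv_mem (pow_mem hl _)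
  have h5 : b ^ 5 = 1 := by
    obtain ⟨i, hi⟩ := Subgroup.mem_zpowers_iff.mp (Subgroup.mem_subgroupOf.mp hb)
    refine Subtype.ext ?_
    show (b : G) ^ 5 = 1
    rw [← hi, ← zpow_natCast, ← zpow_mul, mul_comm, zpow_mul, zpow_natCast, H.fx.five, one_zpow]
  rw [pow_mod_five h5 16, show 16 % 5 = 1 from rfl, pow_one] at hb16
  exact mul_mem hb16 hl

/-- The centraliser of the derived group of the centraliser of `β`. -/
theorem centralizer_derived (H : Frame z Q β co ρ) :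
    Nonempty (↥(Subgroup.centralizer (((commutator (CB β)).map (CB β).subtype : Subgroup G) : Set G))
      ≃* A5) := by
  classical
  have B := H.fx.base
  obtain ⟨s, S⟩ := H.exists_comp
  set L0 := (commutator (CB β)).map (CB β).subtype with hL0
  have hfixL : ∀ p ∈ fixQ Q β, p ∈ L0 := by
    intro p hp
    refine ⟨⟨p, mem_CB.mpr (mem_fixQ.mp hp).2.symm⟩, H.mem_commutator_of_pow (Subtype.ext ?_), rfl⟩
    show p ^ 16 = 1
    rw [show (16 : ℕ) = 2 * (2 * 4) from rfl, pow_mul, pow_two]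
    rcases B.sq_cases (mem_fixQ.mp hp).1 with e | e <;> rw [e]
    · exact one_pow _
    · rw [pow_mul, pow_two z, B.zz, one_pow]
  have hnz : ¬ (∀ l ∈ L0, Commute z l) := by
    intro h
    obtain ⟨-, -, ⟨e⟩⟩ := H.split
    have hzL : (⟨z, mem_CB.mpr H.fx.comm.symm⟩ : CB β) ∈ commutator (CB β) :=
      H.mem_commutator_of_pow (Subtype.ext (by
        show z ^ 16 = 1
        rw [show (16 : ℕ) = 2 * 8 from rfl, pow_mul, pow_two, B.zz, one_pow]))
    haveI := H91.J2A.J2_isSimple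
    have hcen : e ⟨_, hzL⟩ ∈ Subgroup.center Cfsg.Spor.J2 := Subgroup.mem_center_iff.mpr fun w => by
      obtain ⟨l, rfl⟩ := e.surjective w
      rw [← map_mul, ← map_mul]
      exact congrArg e (Subtype.ext (Subtype.ext (h _ ⟨_, l.2, rfl⟩).eq.symm))
    rcases IsSimpleGroup.eq_bot_or_eq_top_of_normal (Subgroup.center Cfsg.Spor.J2) inferInstance
      with hb | hb
    · rw [hb, Subgroup.mem_bot, e.map_eq_one_iff] at hcen
      exact B.z_ne (congrArg (fun w : commutator (CB β) => ((w : CB β) : G)) hcen)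
    · obtain ⟨a, b, hab⟩ := H91.J2A.J2_noncomm
      exact hab (Subgroup.mem_center_iff.mp (hb ▸ Subgroup.mem_top b) a)
  have hle : ∀ a, s a ∈ Subgroup.centralizer (L0 : Set G) := by
    intro a
    refine Subgroup.mem_centralizer_iff.mpr ?_
    rintro _ ⟨l, hl, rfl⟩
    exact (Subgroup.mem_centralizer_iff.mp (Subgroup.mem_subgroupOf.mp (S.commutator_cent hl)) _
      ⟨a, rfl⟩).symm
  have hge : ∀ h ∈ Subgroup.centralizer (L0 : Set G), ∃ a, s a = h := by
    intro h hh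
    have hc : ∀ l ∈ L0, Commute h l := fun l hl => (Subgroup.mem_centralizer_iff.mp hh l hl).symm
    have hhz : Commute h z := hc z (hfixL z H.fx.zmem)
    obtain ⟨τ, hτ, hts⟩ := H.rep_of_fix (c := mkC hhz) fun p hp => hc p (hfixL p hp)
    refine ⟨⟨τ, Equiv.Perm.mem_alternatingGroup.mpr hts⟩, ?_⟩
    set a : A5 := ⟨τ, Equiv.Perm.mem_alternatingGroup.mpr hts⟩
    set x := (s a)⁻¹ * h with hx
    have hxc : ∀ l ∈ L0, Commute x l := fun l hl =>
      Commute.mul_left (show Commute (s a)⁻¹ l from (Subgroup.mem_centralizer_iff.mp (inv_mem (hle a)) l hl).symm)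
        (hc l hl)
    have hxQ : x ∈ coQ Q β := by
      refine H.mem_coQ_of_rep (c := (mkC (S.hz a))⁻¹ * mkC hhz) (fun p hp => hxc p (hfixL p hp)) ?_
      have := rep_mul (rep_inv (S.rep a)) hτ
      simpa [a] using this
    -- the normalised part of the centraliser inside `Q`
    obtain ⟨τ₀, hβ, h5, h1⟩ := H.exists_rep_beta
    have hβL : ∀ l ∈ L0, Commute β l := by
      rintro _ ⟨l, -, rfl⟩
      exact (mem_CB.mp l.2).symm
    let D : Subgroup G := coQ Q β ⊓ Subgroup.centralizer (L0 : Set G)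
    have hmemD : ∀ {d}, d ∈ D ↔ d ∈ coQ Q β ∧ ∀ l ∈ L0, Commute d l := by
      intro d
      rw [Subgroup.mem_inf, Subgroup.mem_centralizer_iff]
      exact and_congr_right fun _ => ⟨fun h l hl => (h l hl).symm, fun h l hl => (h l hl).symm⟩
    let T : Set V4 := {w | ∃ d ∈ D, co d = (0, w)}
    have hTadd : ∀ w w', w ∈ T → w' ∈ T → w + w' ∈ T := by
      rintro w w' ⟨d, hd, e⟩ ⟨d', hd', e'⟩
      exact ⟨d * d', mul_mem hd hd', by
        rw [H.crd.mul _ (mem_coQ.mp (hmemD.mp hd).1).1 _ (mem_coQ.mp (hmemD.mp hd').1).1, e, e',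
          Prod.mk_add_mk, add_zero]⟩
    have hT0 : (0 : V4) ∈ T := ⟨1, one_mem _, by rw [H.crd.one]; rfl⟩
    have hTact : ∀ w, w ∈ T → act τ₀ w ∈ T := by
      rintro w ⟨d, hd, e⟩
      obtain ⟨hd1, hd2⟩ := hmemD.mp hd
      refine ⟨β * d * β⁻¹, hmemD.mpr ⟨H.fx.coQ_conj hd1, fun l hl =>
        ((hβL l hl).mul_left (hd2 l hl)).mul_left (hβL l hl).inv_left⟩, ?_⟩
      rw [H.conj_co H.fx.comm (mem_coQ.mp hd1).1, e, hβ, pair_apply, toO4_apply, toO4_apply, map_zero]
    have hxQ' := (mem_coQ.mp hxQ).1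
    have hxv : co x = (0, (co x).2) := Prod.ext ((H.mem_co x hxQ').mp hxQ) rfl
    have hzero : (co x).2 = 0 := by
      by_contra hne
      obtain ⟨c₀, c₁, c₂, c₃, he⟩ := five_span τ₀ h5 h1 _ hne ![1, 1, 0, 0]
      have hv : (co x).2 ∈ T := ⟨x, hmemD.mpr ⟨hxQ, hxc⟩, hxv⟩
      have hsm : ∀ (k : ZMod 2) w, w ∈ T → k • w ∈ T := fun k w hw => by
        rcases zmod_two_cases k with rfl | rfl
        · rw [zero_smul]; exact hT0
        · rwa [one_smul]
      have hw₀ : (![1, 1, 0, 0] : V4) ∈ T := by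
        rw [he]
        exact hTadd _ _ (hTadd _ _ (hTadd _ _ (hsm _ _ hv) (hsm _ _ (hTact _ hv)))
          (hsm _ _ (hTact _ (hTact _ hv)))) (hsm _ _ (hTact _ (hTact _ (hTact _ hv))))
      obtain ⟨d, hd, hde⟩ := hw₀
      obtain ⟨hd1, hd2⟩ := hmemD.mp hd
      have hdQ := (mem_coQ.mp hd1).1
      have hsq : d * d = z := (B.sq_cases hdQ).resolve_left fun e => by
        have := (H.crd.sq d hdQ).mp e
        rw [hde] at this
        exact absurd this (by decide)
      exact hnz fun l hl => hsq ▸ (hd2 l hl).mul_left (hd2 l hl)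
    rw [hzero] at hxv
    rcases H.crd.ker x hxQ' hxv with e | e
    · rw [hx] at e
      exact inv_mul_eq_one.mp e
    · exact absurd (fun l hl => e ▸ hxc l hl) hnz
  let φ : A5 →* ↥(Subgroup.centralizer (L0 : Set G)) := s.codRestrict _ hle
  exact ⟨(MulEquiv.ofBijective φ ⟨fun a b e => S.injective (congrArg Subtype.val e), fun h => by
    obtain ⟨a, ha⟩ := hge h h.2
    exact ⟨a, Subtype.ext ha⟩⟩).symm⟩

end Frame

end H65.Conway
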