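import Cfsg.Agent.H65.Conway.Conj

/-!
Groups of Conway type: an involution centralising `β` and outside the extraspecial group is no
conjugate of `z` under the centraliser of `β`.
-/

set_option autoImplicit false

namespace H65.Conway

/-- The plane spanned by two vectors. -/
def InR (r0 r1 v : V4) : Prop := v = 0 ∨ v = r0 ∨ v = r1 ∨ v = r0 + r1

theorem inR_self {r0 r1 : V4} {v : V4} (h : InR r0 r1 v) : b4 r0 r1 = 0 →
    b4 v r0 = 0 ∧ b4 v r1 = 0 := by
  intro h01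
  have h10 : b4 r1 r0 = 0 := by rw [b4_comm, h01]
  have hz : ∀ w, b4 0 w = 0 := fun w => by simp [b4_formula]
  have hd : ∀ w, b4 w w = 0 := by decide +kernel
  rcases h with rfl | rfl | rfl | rfl <;>
    simp [b4_add_left, h01, h10, hz, hd]

/-- Isometries trivial on the chain of the plane commute. -/
theorem commute_of_chain {r0 r1 : V4} (h0 : q4 r0 = 0) (h1 : q4 r1 = 1) (h01 : b4 r0 r1 = 0)
    (hperp : ∀ v, b4 v r0 = 1 ∨ b4 v r1 = 1 ∨ InR r0 r1 v) {f f' : O8}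
    (hf : ∀ f₀ ∈ ({f, f'} : Set O8), ((f₀ : V8 ≃ₗ[ZMod 2] V8) (r0, 0)) = (r0, 0) ∧
      ((f₀ : V8 ≃ₗ[ZMod 2] V8) (r1, 0)) = (r1, 0) ∧
      ∀ w, ((f₀ : V8 ≃ₗ[ZMod 2] V8) (0, w)).2 = w ∧ InR r0 r1 ((f₀ : V8 ≃ₗ[ZMod 2] V8) (0, w)).1) :
    f * f' = f' * f := by
  set F : V8 ≃ₗ[ZMod 2] V8 := (f : V8 ≃ₗ[ZMod 2] V8) with hF
  set F' : V8 ≃ₗ[ZMod 2] V8 := (f' : V8 ≃ₗ[ZMod 2] V8) with hF'
  have hz : ∀ w, b4 0 w = 0 := fun w => by simp [b4_formula]
  have hz' : ∀ w, b4 w 0 = 0 := fun w => by simp [b4_formula]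
  -- facts for one map
  have one : ∀ g : O8, g ∈ ({f, f'} : Set O8) →
      (∀ a, InR r0 r1 a → (g : V8 ≃ₗ[ZMod 2] V8) (a, 0) = (a, 0)) ∧
      (∀ w, ∃ ℓ : ZMod 2, (g : V8 ≃ₗ[ZMod 2] V8) (0, w) = (ℓ • r0, w) ∧
        ∀ u, b4 ((g : V8 ≃ₗ[ZMod 2] V8) (u, 0)).2 w = b4 u r0 * ℓ) ∧
      ∀ u, ∃ a, InR r0 r1 a ∧ ((g : V8 ≃ₗ[ZMod 2] V8) (u, 0)).1 = u + a := by
    intro g hg
    obtain ⟨g0, g1, gw⟩ := hf g hg
    set T : V8 ≃ₗ[ZMod 2] V8 := (g : V8 ≃ₗ[ZMod 2] V8) with hT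
    have hR : ∀ a, InR r0 r1 a → T (a, 0) = (a, 0) := by
      rintro a (rfl | rfl | rfl | rfl)
      · exact map_zero T
      · exact g0
      · exact g1
      · have h : ((r0 + r1, 0) : V8) = (r0, 0) + (r1, 0) := by simp
        rw [h, map_add, g0, g1]
    have hU : ∀ u, ∃ a, InR r0 r1 a ∧ (T (u, 0)).1 = u + a := by
      intro u
      have key : ∀ r, InR r0 r1 r → b4 ((T (u, 0)).1 + u) r = 0 := fun r hr => by
        have h := O8_b g (u, 0) (r, 0)
        rw [← hT, hR r hr, b8, b8] at h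
        simp only [hz', add_zero] at h
        rw [b4_add_left, h]
        exact CharTwo.add_self_eq_zero _
      refine ⟨(T (u, 0)).1 + u, ?_, by abel_nf; simp [ZModModule.add_self, two_smul]⟩
      rcases hperp ((T (u, 0)).1 + u) with h | h | h
      · rw [key r0 (Or.inr (Or.inl rfl))] at h; exact absurd h (by decide)
      · rw [key r1 (Or.inr (Or.inr (Or.inl rfl)))] at h; exact absurd h (by decide)
      · exact h
    refine ⟨hR, fun w => ?_, hU⟩
    obtain ⟨h2, h1'⟩ := gw w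
    have hq := mem_O8.mp g.2 (0, w)
    rw [← hT] at hq
    simp only [q8, h2, q4_zero, zero_add] at hq
    have hq1 : q4 (T (0, w)).1 = 0 := by simpa using hq
    obtain ⟨ℓ, hℓ⟩ : ∃ ℓ : ZMod 2, (T (0, w)).1 = ℓ • r0 := by
      rcases h1' with e | e | e | e
      · exact ⟨0, by rw [e, zero_smul]⟩
      · exact ⟨1, by rw [e, one_smul]⟩
      · rw [e, h1] at hq1; exact absurd hq1 (by decide)
      · rw [e, q4_add, h0, h1, h01] at hq1; exact absurd hq1 (by decide)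
    refine ⟨ℓ, Prod.ext hℓ h2, fun u => ?_⟩
    have h := O8_b g (u, 0) (0, w)
    rw [← hT, b8, b8, h2, hℓ] at h
    simp only [hz, hz', add_zero] at h
    obtain ⟨a, ha, hu⟩ := hU u
    rw [hu, b4_add_left] at h
    have ha0 : b4 a r0 = 0 := (inR_self ha h01).1
    rcases zmod_two_cases ℓ with rfl | rfl
    · simp only [zero_smul, hz', zero_add, mul_zero] at h ⊢
      exact h
    · simp only [one_smul, ha0, add_zero, mul_one] at h ⊢
      exact (CharTwo.add_eq_zero.mp h).symm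
  obtain ⟨hR, hW, hU⟩ := one f (by simp)
  obtain ⟨hR', hW', hU'⟩ := one f' (by simp)
  have hr0 : InR r0 r1 r0 := Or.inr (Or.inl rfl)
  have hsm : ∀ ℓ : ZMod 2, InR r0 r1 (ℓ • r0) := fun ℓ => by
    rcases zmod_two_cases ℓ with rfl | rfl
    exacts [Or.inl (zero_smul _ _), Or.inr (Or.inl (one_smul _ _))]
  have hw : ∀ w, F (F' (0, w)) = F' (F (0, w)) := fun w => by
    obtain ⟨l, hl, -⟩ := hW w
    obtain ⟨l', hl', -⟩ := hW' w
    have e : ∀ a : V4, ((a, w) : V8) = (a, 0) + (0, w) := fun a => by simp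
    rw [hl, hl', e (l • r0), e (l' • r0), map_add, map_add, hR _ (hsm l'), hR' _ (hsm l), hl, hl']
    rw [Prod.mk_add_mk, Prod.mk_add_mk, add_comm (l' • r0)]
  have hu : ∀ u, F (F' (u, 0)) = F' (F (u, 0)) := fun u => by
    obtain ⟨a, ha, hua⟩ := hU u
    obtain ⟨a', ha', hua'⟩ := hU' u
    set m := (F (u, 0)).2 with hm
    set m' := (F' (u, 0)).2 with hm'
    have e : F (u, 0) = (u + a, m) := Prod.ext hua rfl
    have e' : F' (u, 0) = (u + a', m') := Prod.ext hua' rfl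
    obtain ⟨l, hl, hlb⟩ := hW m'
    obtain ⟨l', hl', hlb'⟩ := hW' m
    have sp : ∀ (x y : V4) (w : V4), ((x + y, w) : V8) = (x, 0) + (y, 0) + (0, w) := fun x y w => by simp
    rw [e, e', sp u a' m', sp u a m, map_add, map_add, map_add, map_add, e, e', hR a' ha', hR' a ha,
      hl, hl']
    have hll : l • r0 = l' • r0 := by
      have h := hlb u
      have h' := hlb' u
      rw [← hF, e] at h
      rw [← hF', e', b4_comm] at h'
      rcases zmod_two_cases (b4 u r0) with g | g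
      · -- both second parts vanish
        have hmz : ∀ (T : O8) (hT : T ∈ ({f, f'} : Set O8)), ((T : V8 ≃ₗ[ZMod 2] V8) (u, 0)).2 = 0 := by
          intro T hT
          refine b4_nondeg _ fun w => ?_
          obtain ⟨-, hWT, -⟩ := one T hT
          obtain ⟨l₁, -, hb₁⟩ := hWT w
          rw [hb₁ u, g, zero_mul]
        have hm0 : m = 0 := hmz f (by simp)
        have hm0' : m' = 0 := hmz f' (by simp)
        rw [hm0'] at hl
        rw [hm0] at hl'
        have a1 : l • r0 = 0 := (Prod.ext_iff.mp (hl.symm.trans (map_zero F))).1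
        have a2 : l' • r0 = 0 := (Prod.ext_iff.mp (hl'.symm.trans (map_zero F'))).1
        rw [a1, a2]
      · rw [g, one_mul] at h h'
        rw [← h, ← h']
    simp only [Prod.mk_add_mk, add_zero, zero_add, hll]
    refine Prod.ext ?_ ?_
    · show u + a + a' + l' • r0 = u + a' + a + l' • r0
      abel
    · show m + m' = m' + m
      abel
  refine Subtype.ext (LinearEquiv.ext fun v => ?_)
  show F (F' v) = F' (F v)
  rw [show v = (v.1, 0) + (0, v.2) by simp, map_add, map_add, map_add, map_add, hu, hw]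

variable {G : Type*} [Group G] [Finite G] {z : G} {Q : Subgroup G} {β : G}

namespace Frame

variable {co : G → V8} {ρ : Subgroup.centralizer ({z} : Set G) →* O8}

theorem co_mul_z (H : Frame z Q β co ρ) {a : G} (ha : a ∈ Q) : co (a * z) = co a := by
  rw [H.crd.mul _ ha _ H.fx.base.zmem, H.crd.coz, add_zero]

/-- Every element of the moving part is, up to the centre, a commutator with `β`. -/
theorem coQ_comm_surj (H : Frame z Q β co ρ) {τ₀ : Equiv.Perm (Fin 5)}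
    (hβ : Rep ρ (mkC H.fx.comm) 1 τ₀) (h5 : τ₀ ^ 5 = 1) (h1 : τ₀ ≠ 1) {r : G} (hr : r ∈ coQ Q β) :
    ∃ s ∈ coQ Q β, r = s⁻¹ * (β * s * β⁻¹) ∨ r = s⁻¹ * (β * s * β⁻¹) * z := by
  have hrQ := (mem_coQ.mp hr).1
  have hsurj : ∀ w, ∃ v, v + act τ₀ v = w := by
    have hinj : Function.Injective fun v : V4 => v + act τ₀ v := fun a b e => by
      have e' : a + act τ₀ a = b + act τ₀ b := e
      have h2 : act τ₀ (a - b) = a - b := by
        rw [map_sub, sub_eq_sub_iff_add_eq_add]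
        have : ∀ x y x' y' : V4, x + x' = y + y' → x' + y = x + y' := fun x y x' y' h => by
          calc x' + y = (x + x') + (x + y) := by
                  rw [add_add_add_comm, ZModModule.add_self, zero_add]
            _ = (y + y') + (x + y) := by rw [h]
            _ = x + y' := by
                  rw [add_comm x y, add_add_add_comm, ZModModule.add_self, zero_add, add_comm]
        exact this _ _ _ _ e'
      exact sub_eq_zero.mp ((five_fpf τ₀ h5 h1 _).resolve_right (not_not.mpr h2))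
    exact Finite.injective_iff_surjective.mp hinj
  obtain ⟨v, hv⟩ := hsurj (co r).2
  obtain ⟨s, hs, hsv⟩ := H.exists_of_coord (0, v)
  have hsc : s ∈ coQ Q β := (H.mem_co s hs).mpr (by rw [hsv])
  have hbs := H.fx.base.nor β H.fx.comm s hs
  have hd : s⁻¹ * (β * s * β⁻¹) ∈ Q := mul_mem (inv_mem hs) hbs
  have e : co (s⁻¹ * (β * s * β⁻¹)) = co r := by
    rw [H.crd.mul _ (inv_mem hs) _ hbs, H.crd.inv hs, H.conj_co H.fx.comm hs, hsv, hβ, pair_apply,
      toO4_apply, toO4_apply, ZModModule.neg_eq_self, map_zero]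
    show ((0 : V4) + 0, v + act τ₀ v) = _
    rw [hv, add_zero]
    exact Prod.ext ((H.mem_co r hrQ).mp hr).symm rfl
  refine ⟨s, hsc, ?_⟩
  rcases H.crd.ker _ (mul_mem (inv_mem hd) hrQ) (by
    rw [H.crd.mul _ (inv_mem hd) _ hrQ, H.crd.inv hd, e, neg_add_cancel]) with g | g
  · exact Or.inl (inv_mul_eq_one.mp g).symm
  · exact Or.inr (inv_mul_eq_iff_eq_mul.mp g)

/-- An involution of the centraliser of `β` in `C(z)` that is conjugate to `z` there lies in `Q`. -/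
theorem no_out (H : Frame z Q β co ρ) {g : G} (hg : Commute g β)
    (ht : Commute (g * z * g⁻¹) z) : g * z * g⁻¹ ∈ Q := by
  classical
  have B := H.fx.base
  have := Fact.mk Nat.prime_two
  by_contra htQ
  obtain ⟨τ₀, hβ, h5, h1⟩ := H.exists_rep_beta
  set t := g * z * g⁻¹ with htdef
  set w := g⁻¹ * z * g with hwdef
  have hzb : Commute z β := H.fx.comm.symm
  have htb : Commute t β := (hg.mul_left hzb).mul_left hg.inv_left
  have hwb : Commute w β := (hg.inv_left.mul_left hzb).mul_left hg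
  have ht2 : t * t = 1 := by
    rw [htdef, show g * z * g⁻¹ * (g * z * g⁻¹) = g * (z * z) * g⁻¹ by group, B.zz]; group
  have hw2 : w * w = 1 := by
    rw [hwdef, show g⁻¹ * z * g * (g⁻¹ * z * g) = g⁻¹ * (z * z) * g by group, B.zz]; group
  have hwz : Commute w z := by
    have h := ht.map (MulAut.conj g⁻¹)
    simp only [MulAut.conj_apply, inv_inv] at h
    rw [htdef, show g⁻¹ * (g * z * g⁻¹) * g = z by group] at h
    exact h.symm
  have hwQ : w ∉ Q := fun h => htQ (by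
    have := B.symm (g := g⁻¹) (by rwa [inv_inv])
    rwa [inv_inv] at this)
  -- an involution commuting with `β` acts trivially on the moving part
  have htriv : ∀ c : Subgroup.centralizer ({z} : Set G), (c : G) * c = 1 → Commute (c : G) β →
      ∃ σ, Rep ρ c σ 1 ∧ Equiv.Perm.sign σ = 1 ∧ σ * σ = 1 := by
    intro c hc2 hcb
    obtain ⟨σ, k, h, hs⟩ := H.commute_rep hβ h5 h1 hcb
    have hh := rep_mul h h
    rw [show c * c = 1 from Subtype.ext hc2] at hh
    obtain ⟨e1, e2⟩ := rep_unique hh rep_one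
    have e3 : τ₀ ^ (k : ℕ) = 1 := by
      have h10 : (τ₀ ^ (k : ℕ)) ^ 5 = 1 := by rw [← pow_mul, mul_comm, pow_mul, h5, one_pow]
      have e : ∀ x : Equiv.Perm (Fin 5), x * x = 1 → x ^ 5 = x := fun x hx => by
        rw [pow_succ, show x ^ 4 = (x * x) * (x * x) by rw [← pow_two x, ← pow_add], hx, one_mul, one_mul]
      rwa [e _ e2] at h10
    exact ⟨σ, e3 ▸ h, hs, e1⟩
  obtain ⟨σw, hwrep, -, -⟩ := htriv (mkC hwz) hw2 hwb
  obtain ⟨σ, htrep, hσ1, hσ2⟩ := htriv (mkC ht) ht2 htb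
  have hσne : σ ≠ 1 := fun e => htQ ((H.ker _).mp (htrep.trans (by
    rw [e, map_one]; exact map_one pair)))
  obtain ⟨r0, r1, hr0, hr0ne, hr1, hr01, hs0, hs1, hfix, hperp⟩ := even_invol σ hσ1 hσ2 hσne
  -- `w` centralises the moving part
  have hwc : ∀ r ∈ coQ Q β, Commute w r := by
    intro r hr
    obtain ⟨s, hs, hrs⟩ := H.coQ_comm_surj hβ h5 h1 hr
    have hsQ := (mem_coQ.mp hs).1
    have hm := B.nor w hwz s hsQ
    have he : co (w * s * w⁻¹) = co s := by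
      have h2 := H.acts (mkC hwz) s hsQ
      rw [hwrep, pair_apply, toO4_apply, toO4_apply, act_one, (H.mem_co s hsQ).mp hs, map_zero] at h2
      refine h2.trans (Prod.ext ((H.mem_co s hsQ).mp hs).symm rfl)
    obtain ⟨e, he1, hez⟩ : ∃ e, w * s * w⁻¹ = s * e ∧ (e = 1 ∨ e = z) :=
      ⟨s⁻¹ * (w * s * w⁻¹), by group, H.crd.ker _ (mul_mem (inv_mem hsQ) hm) (by
        rw [H.crd.mul _ (inv_mem hsQ) _ hm, H.crd.inv hsQ, he, neg_add_cancel])⟩
    have heb : Commute e β := by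
      rcases hez with rfl | rfl
      exacts [Commute.one_left β, hzb]
    have hec : ∀ a ∈ Q, Commute e a := fun a ha => by
      rcases hez with rfl | rfl
      exacts [Commute.one_left a, (B.comm_z ha).symm]
    have hd : Commute w (s⁻¹ * (β * s * β⁻¹)) := by
      refine mul_inv_eq_iff_eq_mul.mp ?_
      calc w * (s⁻¹ * (β * s * β⁻¹)) * w⁻¹
          = (w * s * w⁻¹)⁻¹ * ((w * β) * s * (w * β)⁻¹) := by group
        _ = (s * e)⁻¹ * (β * (w * s * w⁻¹) * β⁻¹) := by rw [he1, hwb.eq, ← he1]; group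
        _ = e⁻¹ * s⁻¹ * (β * s * (e * β⁻¹)) := by rw [he1]; group
        _ = e⁻¹ * (s⁻¹ * (β * s * β⁻¹)) * e := by rw [heb.inv_right.eq]; group
        _ = s⁻¹ * (β * s * β⁻¹) := by
          rw [mul_assoc, ← (hec _ (mul_mem (inv_mem hsQ) (B.nor β H.fx.comm s hsQ))).eq,
            inv_mul_cancel_left]
    rcases hrs with rfl | rfl
    exacts [hd, hd.mul_right hwz]
  -- the conjugate of the moving part acts faithfully
  have hcz : ∀ r : coQ Q β, Commute (g * (r : G) * g⁻¹) z := fun r => by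
    have h := (hwc r r.2).symm.map (MulAut.conj g)
    simp only [MulAut.conj_apply] at h
    rwa [hwdef, show g * (g⁻¹ * z * g) * g⁻¹ = z by group] at h
  let φ : coQ Q β →* O8 := MonoidHom.mk' (fun r => ρ (mkC (hcz r))) (fun r s => by
    rw [← map_mul]
    congr 1
    refine Subtype.ext ?_
    show g * ((r : G) * s) * g⁻¹ = g * r * g⁻¹ * (g * s * g⁻¹)
    group)
  have hzco : z ∈ coQ Q β :=
    mem_coQ.mpr ⟨B.zmem, fun p hp => B.comm_z (mem_fixQ.mp hp).1⟩
  have hφz : φ ⟨z, hzco⟩ = pair (toO4 σ, toO4 1) := htrep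
  -- the chain is fixed
  set S : V8 ≃ₗ[ZMod 2] V8 := ((pair (toO4 σ, toO4 1) : O8) : V8 ≃ₗ[ZMod 2] V8) with hS
  have hSa : ∀ u v, S (u, v) = (act σ u, v) := fun u v => by
    rw [hS, pair_apply, toO4_apply, toO4_apply, act_one]; rfl
  have hcomm : ∀ (r : coQ Q β) (v : V8),
      ((φ r : O8) : V8 ≃ₗ[ZMod 2] V8) (S v) = S (((φ r : O8) : V8 ≃ₗ[ZMod 2] V8) v) := by
    intro r v
    have e : φ r * φ ⟨z, hzco⟩ = φ ⟨z, hzco⟩ * φ r := by
      rw [← map_mul, ← map_mul]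
      exact congrArg φ (Subtype.ext (B.comm_z (mem_coQ.mp r.2).1).eq)
    rw [hφz] at e
    exact congrArg (fun T : O8 => (T : V8 ≃ₗ[ZMod 2] V8) v) e
  have hR : ∀ u, act σ u = u → InR r0 r1 u := fun u hu => (hfix u).resolve_left (fun h => h hu)
  have hRfix : ∀ u, InR r0 r1 u → act σ u = u := by
    rintro u (rfl | rfl | rfl | rfl)
    exacts [map_zero _, hs0, hs1, by rw [map_add, hs0, hs1]]
  have hSfix : ∀ v : V8, S v = v ↔ InR r0 r1 v.1 := fun v => by
    rw [show v = (v.1, v.2) from rfl, hSa]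
    exact ⟨fun h => hR _ (Prod.ext_iff.mp h).1, fun h => Prod.ext (hRfix _ h) rfl⟩
  have hpres : ∀ (r : coQ Q β) (v : V8), InR r0 r1 v.1 →
      InR r0 r1 (((φ r : O8) : V8 ≃ₗ[ZMod 2] V8) v).1 := fun r v hv =>
    (hSfix _).mp (by rw [← hcomm, (hSfix v).mpr hv])
  have hrad : ∀ (r : coQ Q β) (u : V4), InR r0 r1 u →
      (((φ r : O8) : V8 ≃ₗ[ZMod 2] V8) (u, 0)).2 = 0 := by
    intro r u hu
    refine b4_nondeg _ fun x => ?_
    set T : V8 ≃ₗ[ZMod 2] V8 := ((φ r : O8) : V8 ≃ₗ[ZMod 2] V8) with hT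
    obtain ⟨v, hv⟩ := T.surjective (0, x)
    have hvR : InR r0 r1 v.1 := by
      refine (hSfix v).mp (T.injective ?_)
      rw [hT, hcomm, ← hT, hv, (hSfix (0, x)).mpr (Or.inl rfl)]
    have hb := O8_b (φ r) (u, 0) v
    rw [← hT, hv, b8, b8] at hb
    obtain ⟨e0, e1⟩ := inR_self hu hr01
    have huv : b4 u v.1 = 0 := by
      rcases hvR with g' | g' | g' | g' <;> rw [g']
      exacts [by simp [b4_formula], e0, e1, by rw [b4_add_right, e0, e1, add_zero]]
    have h0 : ∀ a, b4 a 0 = 0 := fun a => by simp [b4_formula]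
    rw [huv, b4_comm 0 v.2, h0, h0, add_zero, zero_add] at hb
    exact hb
  have him : ∀ (r : coQ Q β) (u : V4), InR r0 r1 u → ∃ a, InR r0 r1 a ∧ q4 a = q4 u ∧
      ((φ r : O8) : V8 ≃ₗ[ZMod 2] V8) (u, 0) = (a, 0) := by
    intro r u hu
    refine ⟨_, hpres r (u, 0) hu, ?_, Prod.ext rfl (hrad r u hu)⟩
    have hq := mem_O8.mp (φ r).2 (u, 0)
    rw [show ((φ r : O8) : V8 ≃ₗ[ZMod 2] V8) (u, 0) =
      ((((φ r : O8) : V8 ≃ₗ[ZMod 2] V8) (u, 0)).1, 0) from Prod.ext rfl (hrad r u hu)] at hq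
    simpa [q8, q4_zero] using hq
  have hf0 : ∀ r : coQ Q β, ((φ r : O8) : V8 ≃ₗ[ZMod 2] V8) (r0, 0) = (r0, 0) := by
    intro r
    obtain ⟨a, ha, hq, e⟩ := him r r0 (Or.inr (Or.inl rfl))
    rw [e]
    rcases ha with rfl | rfl | rfl | rfl
    · exfalso
      have : ((r0, 0) : V8) = 0 :=
        ((φ r : O8) : V8 ≃ₗ[ZMod 2] V8).map_eq_zero_iff.mp (by rw [e]; rfl)
      exact hr0ne (Prod.ext_iff.mp this).1
    · rfl
    · rw [hr1, hr0] at hq; exact absurd hq (by decide)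
    · rw [q4_add, hr0, hr1, hr01] at hq; exact absurd hq (by decide)
  -- conjugation by `β`
  set b : O8 := pair (toO4 1, toO4 τ₀) with hbdef
  have hba : ∀ u, (b : V8 ≃ₗ[ZMod 2] V8) (u, 0) = (u, 0) := fun u => by
    rw [hbdef, pair_apply, toO4_apply, toO4_apply, act_one, map_zero]; rfl
  have hφβ : ∀ r : coQ Q β, φ ⟨β * r * β⁻¹, H.fx.coQ_conj r.2⟩ = b * φ r * b⁻¹ := fun r => by
    rw [hbdef, ← hβ]
    show ρ (mkC _) = ρ (mkC H.fx.comm) * ρ (mkC (hcz r)) * (ρ (mkC H.fx.comm))⁻¹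
    rw [← map_inv, ← map_mul, ← map_mul]
    congr 1
    refine Subtype.ext ?_
    show g * (β * (r : G) * β⁻¹) * g⁻¹ = β * (g * r * g⁻¹) * β⁻¹
    calc g * (β * (r : G) * β⁻¹) * g⁻¹ = (g * β) * r * (g * β)⁻¹ := by group
      _ = β * (g * r * g⁻¹) * β⁻¹ := by rw [hg.eq]; group
  have hf1 : ∀ r : coQ Q β, ((φ r : O8) : V8 ≃ₗ[ZMod 2] V8) (r1, 0) = (r1, 0) := by
    intro r
    obtain ⟨s, hs, hrs⟩ := H.coQ_comm_surj hβ h5 h1 r.2
    let sc : coQ Q β := ⟨s, hs⟩
    let d : coQ Q β := sc⁻¹ * ⟨β * s * β⁻¹, H.fx.coQ_conj hs⟩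
    have hd : ((φ d : O8) : V8 ≃ₗ[ZMod 2] V8) (r1, 0) = (r1, 0) := by
      rw [map_mul, map_inv, hφβ sc]
      obtain ⟨a, -, -, e⟩ := him sc r1 (Or.inr (Or.inr (Or.inl rfl)))
      have hb' : ∀ u, ((b⁻¹ : O8) : V8 ≃ₗ[ZMod 2] V8) (u, 0) = (u, 0) := fun u =>
        (b : V8 ≃ₗ[ZMod 2] V8).symm_apply_eq.mpr (hba u).symm
      show (((φ sc)⁻¹ : O8) : V8 ≃ₗ[ZMod 2] V8) ((b : V8 ≃ₗ[ZMod 2] V8)
        (((φ sc : O8) : V8 ≃ₗ[ZMod 2] V8) (((b⁻¹ : O8) : V8 ≃ₗ[ZMod 2] V8) (r1, 0)))) = (r1, 0)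
      rw [hb', e, hba]
      exact ((φ sc : O8) : V8 ≃ₗ[ZMod 2] V8).symm_apply_eq.mpr e.symm
    rcases hrs with e | e
    · rw [show r = d from Subtype.ext e]; exact hd
    · rw [show r = d * ⟨z, hzco⟩ from Subtype.ext e, map_mul, hφz]
      show ((φ d : O8) : V8 ≃ₗ[ZMod 2] V8) (S (r1, 0)) = (r1, 0)
      rw [hSa, hs1, hd]
  -- the second part of the chain
  let A : coQ Q β → V4 → V4 := fun r x => (((φ r : O8) : V8 ≃ₗ[ZMod 2] V8) (0, x)).2
  have hA0 : ∀ (r : coQ Q β) (a : V4) (x : V4), InR r0 r1 a →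
      (((φ r : O8) : V8 ≃ₗ[ZMod 2] V8) (a, x)).2 = A r x := by
    intro r a x ha
    rw [show ((a, x) : V8) = (a, 0) + (0, x) by simp, map_add]
    show (((φ r : O8) : V8 ≃ₗ[ZMod 2] V8) (a, 0)).2 + _ = _
    rw [hrad r a ha, zero_add]
  have hAadd : ∀ r x y, A r (x + y) = A r x + A r y := fun r x y => by
    simp only [A]
    rw [show ((0, x + y) : V8) = (0, x) + (0, y) by simp, map_add]
    rfl
  letI : MulAction (coQ Q β) V4 :=
    { smul := A
      one_smul := fun x => by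
        show (((φ 1 : O8) : V8 ≃ₗ[ZMod 2] V8) (0, x)).2 = x
        rw [map_one]; rfl
      mul_smul := fun r s x => by
        show (((φ (r * s) : O8) : V8 ≃ₗ[ZMod 2] V8) (0, x)).2 = A r (A s x)
        rw [map_mul]
        show (((φ r : O8) : V8 ≃ₗ[ZMod 2] V8) (((φ s : O8) : V8 ≃ₗ[ZMod 2] V8) (0, x))).2 = _
        exact hA0 r _ _ (hpres s (0, x) (Or.inl rfl)) }
  have hPC : IsPGroup 2 (coQ Q β) := IsPGroup.of_card (n := 5) (by rw [H.fx.card_parts.2]; norm_num)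
  have hAβ : ∀ (r : coQ Q β) (x : V4), (∀ s, A s x = x) → A r (act τ₀ x) = act τ₀ x := by
    intro r x hx
    have hmem : β⁻¹ * (r : G) * β ∈ coQ Q β := by
      have hrQ := (mem_coQ.mp r.2).1
      refine mem_coQ.mpr ⟨by simpa using B.nor _ H.fx.comm.inv_left r hrQ, fun p hp => ?_⟩
      have hb : Commute p β := (mem_fixQ.mp hp).2.symm
      exact ((hb.inv_right.mul_right ((mem_coQ.mp r.2).2 p hp)).mul_right hb)
    have e : φ r = b * φ ⟨_, hmem⟩ * b⁻¹ := by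
      rw [← hφβ]
      exact congrArg φ (Subtype.ext (by show (r : G) = β * (β⁻¹ * r * β) * β⁻¹; group))
    show (((φ r : O8) : V8 ≃ₗ[ZMod 2] V8) (0, act τ₀ x)).2 = _
    rw [e]
    have hb' : ((b⁻¹ : O8) : V8 ≃ₗ[ZMod 2] V8) (0, act τ₀ x) = (0, x) :=
      (b : V8 ≃ₗ[ZMod 2] V8).symm_apply_eq.mpr (by
        rw [hbdef, pair_apply, toO4_apply, toO4_apply, map_zero])
    show ((b : V8 ≃ₗ[ZMod 2] V8) (((φ ⟨_, hmem⟩ : O8) : V8 ≃ₗ[ZMod 2] V8)
      (((b⁻¹ : O8) : V8 ≃ₗ[ZMod 2] V8) (0, act τ₀ x)))).2 = _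
    rw [hb', hbdef, pair_apply, toO4_apply]
    show act τ₀ (A ⟨_, hmem⟩ x) = _
    rw [hx]
  obtain ⟨x₀, hx₀, hx₀0⟩ : ∃ x : V4, (∀ s, A s x = x) ∧ x ≠ 0 := by
    have hmod := hPC.card_modEq_card_fixedPoints V4
    rw [show Nat.card V4 = 16 by simp] at hmod
    by_contra hn
    push Not at hn
    have hsub : MulAction.fixedPoints (coQ Q β) V4 = {0} := by
      refine Set.ext fun x => ⟨fun hx => hn x fun s => hx s, ?_⟩
      rintro rfl s
      exact congrArg Prod.snd (map_zero ((φ s : O8) : V8 ≃ₗ[ZMod 2] V8))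
    rw [hsub] at hmod
    simp at hmod
    exact absurd hmod (by decide)
  have hAall : ∀ r x, A r x = x := by
    intro r x
    obtain ⟨c₀, c₁, c₂, c₃, rfl⟩ := five_span τ₀ h5 h1 x₀ hx₀0 x
    have f1 : ∀ s, A s (act τ₀ x₀) = act τ₀ x₀ := fun s => hAβ s x₀ hx₀
    have f2 : ∀ s, A s (act τ₀ (act τ₀ x₀)) = act τ₀ (act τ₀ x₀) := fun s => hAβ s _ f1
    have f3 := fun s => hAβ s _ f2
    have hsm : ∀ (k : ZMod 2) y, (∀ s, A s y = y) → A r (k • y) = k • y := fun k y hy => by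
      rcases zmod_two_cases k with rfl | rfl
      · rw [zero_smul]; exact congrArg Prod.snd (map_zero ((φ r : O8) : V8 ≃ₗ[ZMod 2] V8))
      · rw [one_smul]; exact hy r
    rw [hAadd, hAadd, hAadd, hsm _ _ hx₀, hsm _ _ f1, hsm _ _ f2, hsm _ _ f3]
  -- so the conjugate is abelian
  have hab : ∀ r s : coQ Q β, φ r * φ s = φ s * φ r := by
    intro r s
    refine commute_of_chain hr0 hr1 hr01 (fun v => hperp v) fun f hf => ?_
    rcases hf with rfl | rfl
    exacts [⟨hf0 r, hf1 r, fun x => ⟨hAall r x, hpres r (0, x) (Or.inl rfl)⟩⟩,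
      ⟨hf0 s, hf1 s, fun x => ⟨hAall s x, hpres s (0, x) (Or.inl rfl)⟩⟩]
  obtain ⟨r, s, hrs⟩ : ∃ r s : coQ Q β, r * s ≠ s * r := by
    by_contra hn
    push Not at hn
    have htop : Subgroup.center (coQ Q β) = ⊤ :=
      (Subgroup.eq_top_iff' _).mpr fun a => Subgroup.mem_center_iff.mpr fun c => hn c a
    have := H.fx.coQ_extraspecial.2
    rw [htop, Subgroup.card_top, H.fx.card_parts.2] at this
    omega
  have e : r * s = s * r * ⟨z, hzco⟩ := Subtype.ext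
    ((B.comm_cases (mem_coQ.mp r.2).1 (mem_coQ.mp s.2).1).resolve_left fun h =>
      hrs (Subtype.ext h.eq))
  have h3 := congrArg φ e
  rw [map_mul, map_mul, map_mul, hab, left_eq_mul, hφz] at h3
  refine hσne ?_
  have h4 : ((toO4 σ, toO4 1) : O4 × O4) = 1 := pair_injective (by rw [h3, map_one])
  exact toO4_bijective.1 ((Prod.ext_iff.mp h4).1.trans (map_one toO4).symm)

end Frame

end H65.Conway
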