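import Mathlib

/-!
The elliptic quadratic space of dimension four over two elements, as the span of its five singular
vectors, and its orthogonal group as the symmetric group of degree five.
-/

set_option autoImplicit false

namespace H65.Conway

/-- The space. -/
abbrev V4 := Fin 4 → ZMod 2

/-- The form. -/
def q4 (v : V4) : ZMod 2 :=
  v 0 * v 1 + v 0 * v 2 + v 0 * v 3 + v 1 * v 2 + v 1 * v 3 + v 2 * v 3

/-- Its polar form. -/
def b4 (x y : V4) : ZMod 2 := q4 (x + y) + q4 x + q4 y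

theorem zmod_two_cases : ∀ x : ZMod 2, x = 0 ∨ x = 1 := by decide

theorem q4_add (x y : V4) : q4 (x + y) = q4 x + q4 y + b4 x y := by
  have : ∀ a b c : ZMod 2, c = a + b + (c + a + b) := by decide
  exact this _ _ _

theorem b4_formula (x y : V4) : b4 x y = x 0 * y 1 + x 1 * y 0 + x 0 * y 2 + x 2 * y 0 +
    x 0 * y 3 + x 3 * y 0 + x 1 * y 2 + x 2 * y 1 + x 1 * y 3 + x 3 * y 1 + x 2 * y 3 + x 3 * y 2 := by
  simp only [b4, q4, Pi.add_apply]
  ring_nf
  simp [show (2 : ZMod 2) = 0 from rfl]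

theorem b4_add_left (x y w : V4) : b4 (x + y) w = b4 x w + b4 y w := by
  simp only [b4_formula, Pi.add_apply]
  ring

theorem b4_comm (x y : V4) : b4 x y = b4 y x := by
  simp only [b4_formula]
  ring

theorem b4_add_right (x y w : V4) : b4 x (y + w) = b4 x y + b4 x w := by
  rw [b4_comm x, b4_add_left, b4_comm y, b4_comm w]

theorem b4_nondeg : ∀ v : V4, (∀ w, b4 v w = 0) → v = 0 := by decide +kernel

theorem q4_zero : q4 0 = 0 := by decide

/-- The five singular vectors. -/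
def sv (i : Fin 5) : V4 := fun j => if (i : ℕ) = 4 ∨ (i : ℕ) = j then 1 else 0

theorem sv_injective : Function.Injective sv := by decide +kernel

theorem sv_singular : ∀ i, q4 (sv i) = 0 ∧ sv i ≠ 0 := by decide +kernel

theorem exists_sv : ∀ v : V4, q4 v = 0 → v ≠ 0 → ∃ i, sv i = v := by decide +kernel

theorem sv_castSucc : ∀ i : Fin 4, sv i.castSucc = Pi.single i 1 := by decide +kernel

/-- The linear map of a permutation of the singular vectors. -/
def act (σ : Equiv.Perm (Fin 5)) : V4 →ₗ[ZMod 2] V4 where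
  toFun v := v 0 • sv (σ 0) + v 1 • sv (σ 1) + v 2 • sv (σ 2) + v 3 • sv (σ 3)
  map_add' x y := by simp only [Pi.add_apply, add_smul]; abel
  map_smul' c x := by simp only [Pi.smul_apply, smul_eq_mul, RingHom.id_apply, smul_add, mul_smul]

theorem act_sv : ∀ (σ : Equiv.Perm (Fin 5)) (i : Fin 5), act σ (sv i) = sv (σ i) := by decide +kernel

theorem act_q : ∀ (σ : Equiv.Perm (Fin 5)) (v : V4), q4 (act σ v) = q4 v := by decide +kernel

theorem linearMap_ext_sv {M : Type*} [AddCommMonoid M] [Module (ZMod 2) M]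
    {f g : V4 →ₗ[ZMod 2] M} (h : ∀ i, f (sv i) = g (sv i)) : f = g := by
  refine (Pi.basisFun (ZMod 2) (Fin 4)).ext fun i => ?_
  rw [Pi.basisFun_apply, ← sv_castSucc]
  exact h _

theorem act_one : act 1 = LinearMap.id := linearMap_ext_sv fun i => by simp [act_sv]

theorem act_mul (σ τ : Equiv.Perm (Fin 5)) : act (σ * τ) = act σ ∘ₗ act τ :=
  linearMap_ext_sv fun i => by simp [act_sv]

theorem act_mul_apply (σ τ : Equiv.Perm (Fin 5)) (v : V4) : act (σ * τ) v = act σ (act τ v) := by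
  rw [act_mul]; rfl

/-- The orthogonal group. -/
def O4 : Subgroup (V4 ≃ₗ[ZMod 2] V4) where
  carrier := {f | ∀ v, q4 (f v) = q4 v}
  one_mem' _ := rfl
  mul_mem' {f g} hf hg v := (hf (g v)).trans (hg v)
  inv_mem' {f} hf v := by
    have h := hf (f⁻¹ v)
    have e : f (f⁻¹ v) = v := by
      rw [show f (f⁻¹ v) = (f * f⁻¹) v from rfl, mul_inv_cancel]; rfl
    rw [e] at h
    exact h.symm

theorem mem_O4 {f : V4 ≃ₗ[ZMod 2] V4} : f ∈ O4 ↔ ∀ v, q4 (f v) = q4 v := Iff.rfl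

theorem O4_b (f : O4) (x y : V4) : b4 ((f : V4 ≃ₗ[ZMod 2] V4) x) ((f : V4 ≃ₗ[ZMod 2] V4) y) = b4 x y := by
  simp only [b4, ← map_add, mem_O4.mp f.2]

/-- The linear equivalence of a permutation. -/
def actEquiv (σ : Equiv.Perm (Fin 5)) : V4 ≃ₗ[ZMod 2] V4 :=
  LinearEquiv.ofLinearMap (act σ) (act σ⁻¹) (by rw [← act_mul, mul_inv_cancel, act_one])
    (by rw [← act_mul, inv_mul_cancel, act_one])

/-- Permutations as isometries. -/
def toO4 : Equiv.Perm (Fin 5) →* O4 where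
  toFun σ := ⟨actEquiv σ, act_q σ⟩
  map_one' := Subtype.ext (LinearEquiv.ext fun v => by
    show act 1 v = v
    rw [act_one]; rfl)
  map_mul' σ τ := Subtype.ext (LinearEquiv.ext fun v => by
    show act (σ * τ) v = act σ (act τ v)
    rw [act_mul_apply])

theorem toO4_apply (σ : Equiv.Perm (Fin 5)) (v : V4) :
    ((toO4 σ : O4) : V4 ≃ₗ[ZMod 2] V4) v = act σ v := rfl

theorem toO4_bijective : Function.Bijective toO4 := by
  constructor
  · intro σ τ h
    refine Equiv.ext fun i => sv_injective ?_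
    rw [← act_sv, ← act_sv, ← toO4_apply, ← toO4_apply, h]
  · intro f
    have hex : ∀ i, ∃ j, sv j = (f : V4 ≃ₗ[ZMod 2] V4) (sv i) := fun i =>
      exists_sv _ ((mem_O4.mp f.2 _).trans (sv_singular i).1)
        fun h => (sv_singular i).2 ((f : V4 ≃ₗ[ZMod 2] V4).map_eq_zero_iff.mp h)
    choose p hp using hex
    have hinj : Function.Injective p := fun i j h => sv_injective ((f : V4 ≃ₗ[ZMod 2] V4).injective
      (by rw [← hp, ← hp, h]))
    refine ⟨Equiv.ofBijective p (Finite.injective_iff_bijective.mp hinj), Subtype.ext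
      (LinearEquiv.toLinearMap_injective (linearMap_ext_sv fun i => ?_))⟩
    show act _ (sv i) = _
    rw [act_sv]
    exact hp i

/-- The isomorphism. -/
noncomputable def permEquiv : O4 ≃* Equiv.Perm (Fin 5) := (MulEquiv.ofBijective toO4 toO4_bijective).symm

theorem apply_eq (f : O4) (v : V4) : (f : V4 ≃ₗ[ZMod 2] V4) v = act (permEquiv f) v := by
  rw [← toO4_apply]
  congr 2
  exact ((MulEquiv.ofBijective toO4 toO4_bijective).apply_symm_apply f).symm

theorem toO4_permEquiv (f : O4) : toO4 (permEquiv f) = f :=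
  (MulEquiv.ofBijective toO4 toO4_bijective).apply_symm_apply f

theorem permEquiv_toO4 (σ : Equiv.Perm (Fin 5)) : permEquiv (toO4 σ) = σ :=
  (MulEquiv.ofBijective toO4 toO4_bijective).symm_apply_apply σ

/-! Facts about the symmetric group of degree five on this space. -/

theorem five_fpf : ∀ σ : Equiv.Perm (Fin 5), σ ^ 5 = 1 → σ ≠ 1 → ∀ v : V4, v = 0 ∨ act σ v ≠ v := by
  decide +kernel

theorem five_span : ∀ σ : Equiv.Perm (Fin 5), σ ^ 5 = 1 → σ ≠ 1 → ∀ v : V4, v ≠ 0 → ∀ w : V4,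
    ∃ a b c d : ZMod 2, w = a • v + b • act σ v + c • act σ (act σ v) + d • act σ (act σ (act σ v)) := by
  decide +kernel

theorem five_sign : ∀ σ : Equiv.Perm (Fin 5), σ ^ 5 = 1 → Equiv.Perm.sign σ = 1 := by decide +kernel

theorem five_cent : ∀ σ τ : Equiv.Perm (Fin 5), σ ^ 5 = 1 → σ ≠ 1 → τ * σ = σ * τ →
    ∃ k : Fin 5, τ = σ ^ (k : ℕ) := by
  decide +kernel

theorem five_base : ∀ σ : Equiv.Perm (Fin 5), σ ^ 5 = 1 → σ ≠ 1 → ∃ k : Fin 5,
    ∃ τ : Equiv.Perm (Fin 5), τ * finRotate 5 * τ⁻¹ = σ ^ (k : ℕ) ∧ Equiv.Perm.sign τ = 1 := by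
  decide +kernel

theorem five_power_conj : ∀ σ : Equiv.Perm (Fin 5), σ ^ 5 = 1 → σ ≠ 1 → ∀ k : Fin 5, k ≠ 0 →
    ∃ τ : Equiv.Perm (Fin 5), τ * σ * τ⁻¹ = σ ^ (k : ℕ) := by
  decide +kernel

theorem even_square : ∀ σ : Equiv.Perm (Fin 5), Equiv.Perm.sign σ = 1 → ∃ τ, τ * τ = σ := by
  decide +kernel

theorem sign_cases (σ : Equiv.Perm (Fin 5)) :
    Equiv.Perm.sign σ = 1 ∨ Equiv.Perm.sign σ = -1 := Int.units_eq_one_or _

/-- Two equations make a cocycle vanish. -/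
theorem five_cocycle : ∀ σ : Equiv.Perm (Fin 5), σ ^ 5 = 1 → σ ≠ 1 →
    ∃ s : Equiv.Perm (Fin 5), Equiv.Perm.sign s = 1 ∧ s * s = 1 ∧ s ≠ 1 ∧ (σ * s) ^ 3 = 1 ∧ σ * s ≠ 1 ∧
      ∀ v : V4, act s v + v = 0 →
        act σ v + act (σ * s) (act σ v) + act (σ * s) (act (σ * s) (act σ v)) = 0 → v = 0 := by
  decide +kernel

set_option synthInstance.maxSize 512 in
/-- The fixed plane of an even involution. -/
theorem even_invol : ∀ τ : Equiv.Perm (Fin 5), Equiv.Perm.sign τ = 1 → τ * τ = 1 → τ ≠ 1 →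
    ∃ r0 r1 : V4, q4 r0 = 0 ∧ r0 ≠ 0 ∧ q4 r1 = 1 ∧ b4 r0 r1 = 0 ∧ act τ r0 = r0 ∧ act τ r1 = r1 ∧
      (∀ v, act τ v ≠ v ∨ v = 0 ∨ v = r0 ∨ v = r1 ∨ v = r0 + r1) ∧
      (∀ v, b4 v r0 = 1 ∨ b4 v r1 = 1 ∨ v = 0 ∨ v = r0 ∨ v = r1 ∨ v = r0 + r1) := by
  decide +kernel

end H65.Conway
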