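import Cfsg.Agent.H65.Conway.NoOut
import Cfsg.Agent.H36.HJ.Main

/-!
Groups of Conway type: the centraliser of an element of order five with a fixed point, modulo that
element, is of Hall–Janko type.
-/

set_option autoImplicit false

namespace H65.Conway

local notation "A5" => alternatingGroup (Fin 5)

variable {G : Type*} [Group G] [Finite G] {z : G} {Q : Subgroup G} {β : G}

/-- The centraliser of `β`. -/
abbrev CB (β : G) : Subgroup G := Subgroup.centralizer ({β} : Set G)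

/-- The subgroup generated by `β` in its centraliser. -/
abbrev BB0 (β : G) : Subgroup (CB β) := (Subgroup.zpowers β).subgroupOf (CB β)

instance bb0_normal (β : G) : (BB0 β).Normal where
  conj_mem n hn g := by
    rw [Subgroup.mem_subgroupOf] at hn ⊢
    obtain ⟨i, hi⟩ := Subgroup.mem_zpowers_iff.mp hn
    refine Subgroup.mem_zpowers_iff.mpr ⟨i, ?_⟩
    have hg : Commute (g : G) β := Subgroup.mem_centralizer_singleton_iff.mp g.2
    show β ^ i = (g : G) * n * (g : G)⁻¹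
    rw [← hi, (hg.zpow_right i).eq, mul_inv_cancel_right]

omit [Finite G] in
theorem mem_CB {g : G} : g ∈ CB β ↔ Commute g β := Subgroup.mem_centralizer_singleton_iff

/-- The image of an element in the quotient. -/
def toQt (g : CB β) : CB β ⧸ BB0 β := QuotientGroup.mk' (BB0 β) g

omit [Finite G] in
theorem toQt_eq_iff {g h : CB β} : toQt g = toQt h ↔ ∃ i : ℤ, (h : G) = g * β ^ i := by
  rw [toQt, toQt, QuotientGroup.mk'_apply, QuotientGroup.mk'_apply, QuotientGroup.eq,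
    Subgroup.mem_subgroupOf, Subgroup.mem_zpowers_iff]
  refine ⟨fun ⟨i, hi⟩ => ⟨i, ?_⟩, fun ⟨i, hi⟩ => ⟨i, ?_⟩⟩
  · rw [hi]; show (h : G) = g * ((g : G)⁻¹ * h); group
  · show β ^ i = (g : G)⁻¹ * h; rw [hi]; group

namespace Fix

theorem zpow_invol (F : Fix z Q β) {i : ℤ} (h : β ^ i * β ^ i = 1) : β ^ i = 1 := by
  have h5 : (β ^ i) ^ 5 = 1 := by
    rw [← zpow_natCast, ← zpow_mul, mul_comm, zpow_mul, zpow_natCast, F.five, one_zpow]
  rwa [pow_succ, show (β ^ i) ^ 4 = (β ^ i * β ^ i) * (β ^ i * β ^ i) by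
    rw [← pow_two (β ^ i), ← pow_add], h, one_mul, one_mul] at h5

theorem zpow_mem_Q (F : Fix z Q β) {i : ℤ} (h : β ^ i ∈ Q) : β ^ i = 1 :=
  F.base.five_not_mem (by
    rw [← zpow_natCast, ← zpow_mul, mul_comm, zpow_mul, zpow_natCast, F.five, one_zpow]) h

end Fix

namespace Frame

variable {co : G → V8} {ρ : Subgroup.centralizer ({z} : Set G) →* O8}

/-- The image of `z`. -/
abbrev zbar (H : Frame z Q β co ρ) : CB β ⧸ BB0 β := toQt ⟨z, mem_CB.mpr H.fx.comm.symm⟩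

/-- The image of the fixed group. -/
abbrev Qbar (_H : Frame z Q β co ρ) : Subgroup (CB β ⧸ BB0 β) :=
  ((fixQ Q β).subgroupOf (CB β)).map (QuotientGroup.mk' (BB0 β))

theorem commute_lift (H : Frame z Q β co ρ) {g : CB β} (h : Commute (toQt g) H.zbar) :
    Commute (g : G) z := by
  obtain ⟨i, hi⟩ := toQt_eq_iff.mp (h.eq : toQt (g * ⟨z, _⟩) = toQt (⟨z, _⟩ * g))
  have e : z * g = g * z * β ^ i := hi
  have hb : ∀ a : G, Commute a β → Commute a (β ^ i) := fun a ha => ha.zpow_right i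
  have hg := hb _ (mem_CB.mp g.2)
  have hz := hb _ H.fx.comm.symm
  have e3 : (g : G) = g * (β ^ i * β ^ i) := by
    calc (g : G) = z * (z * g) := by rw [← mul_assoc, H.fx.base.zz, one_mul]
      _ = z * ((g : G) * z * β ^ i) := by rw [← e]
      _ = z * g * (z * β ^ i) := by group
      _ = g * z * (β ^ i * z) * β ^ i := by rw [e]; group
      _ = g * (z * z) * (β ^ i * β ^ i) := by rw [← hz.eq]; group
      _ = g * (β ^ i * β ^ i) := by rw [H.fx.base.zz, mul_one]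
  have := H.fx.zpow_invol (left_eq_mul.mp e3)
  rw [this, mul_one] at e
  exact e.symm

/-- The permutation of the fixed space. -/
noncomputable def sigma (_H : Frame z Q β co ρ) (c : Subgroup.centralizer ({z} : Set G)) :
    Equiv.Perm (Fin 5) :=
  open Classical in if h : ∃ σ τ, Rep ρ c σ τ then h.choose else 1

theorem sigma_eq (H : Frame z Q β co ρ) {c : Subgroup.centralizer ({z} : Set G)}
    {σ τ : Equiv.Perm (Fin 5)} (h : Rep ρ c σ τ) : H.sigma c = σ := by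
  have he : ∃ σ τ, Rep ρ c σ τ := ⟨σ, τ, h⟩
  rw [sigma, dif_pos he]
  obtain ⟨τ', h'⟩ := he.choose_spec
  exact (rep_unique h' h).1

theorem sigma_even (H : Frame z Q β co ρ) {c : Subgroup.centralizer ({z} : Set G)}
    (hc : Commute (c : G) β) : H.sigma c ∈ A5 := by
  obtain ⟨τ₀, hβ, h5, h1⟩ := H.exists_rep_beta
  obtain ⟨σ, k, h, hs⟩ := H.commute_rep hβ h5 h1 hc
  rw [H.sigma_eq h]
  exact Equiv.Perm.mem_alternatingGroup.mpr hs

theorem sigma_mul (H : Frame z Q β co ρ) {c d : Subgroup.centralizer ({z} : Set G)}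
    (hc : Commute (c : G) β) (hd : Commute (d : G) β) :
    H.sigma (c * d) = H.sigma c * H.sigma d := by
  obtain ⟨σ, τ, h⟩ := H.exists_rep_of_commute hc
  obtain ⟨σ', τ', h'⟩ := H.exists_rep_of_commute hd
  rw [H.sigma_eq (rep_mul h h'), H.sigma_eq h, H.sigma_eq h']

theorem sigma_zpow (H : Frame z Q β co ρ) (i : ℤ) :
    H.sigma (mkC (H.fx.comm.zpow_left i)) = 1 := by
  obtain ⟨τ₀, hβ, -, -⟩ := H.exists_rep_beta
  refine H.sigma_eq (τ := τ₀ ^ i) ?_
  have e : mkC (H.fx.comm.zpow_left i) = (mkC H.fx.comm) ^ i :=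
    Subtype.ext (SubgroupClass.coe_zpow (mkC H.fx.comm) i).symm
  rw [Rep, e, map_zpow, hβ, ← map_zpow]
  exact congrArg pair (Prod.ext (by simp) (map_zpow toO4 τ₀ i).symm)

/-- The kernel of the action on the fixed space. -/
theorem sigma_one_iff (H : Frame z Q β co ρ) {c : Subgroup.centralizer ({z} : Set G)}
    (hc : Commute (c : G) β) :
    H.sigma c = 1 ↔ ∃ i : ℤ, (c : G) * β ^ i ∈ fixQ Q β := by
  obtain ⟨τ₀, hβ, h5, h1⟩ := H.exists_rep_beta
  obtain ⟨σ, k, h, hs⟩ := H.commute_rep hβ h5 h1 hc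
  rw [H.sigma_eq h]
  constructor
  · rintro rfl
    have h2 := rep_pow hβ (k : ℕ)
    rw [one_pow] at h2
    have hm := (H.rep_eq_iff h2).mp h
    refine ⟨-(k : ℕ), mem_fixQ.mpr ⟨?_, ?_⟩⟩
    · have e : (c : G) * β ^ (-((k : ℕ) : ℤ)) = (β ^ (k : ℕ))⁻¹ * c := by
        rw [zpow_neg, zpow_natCast, (hc.pow_right (k : ℕ)).inv_right.eq]
      rw [e]
      simpa [mkC] using hm
    · exact hc.symm.mul_right ((Commute.refl β).zpow_right _)
  · rintro ⟨i, hi⟩
    have h2 := H.sigma_eq (H.rep_mem (c := c * mkC (H.fx.comm.zpow_left i)) (mem_fixQ.mp hi).1)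
    rw [H.sigma_mul hc ((Commute.refl β).zpow_left i), H.sigma_zpow, mul_one, H.sigma_eq h] at h2
    exact h2

/-- Hall–Janko type. -/
theorem exists_hyp (H : Frame z Q β co ρ) :
    ∃ χ : Subgroup.centralizer ({H.zbar} : Set (CB β ⧸ BB0 β)) →* A5,
      H36.HJ.Hyp H.zbar H.Qbar χ := by
  classical
  have B := H.fx.base
  set C := Subgroup.centralizer ({H.zbar} : Set (CB β ⧸ BB0 β))
  have hlift : ∀ x : C, ∃ g : CB β, toQt g = (x : CB β ⧸ BB0 β) ∧ Commute (g : G) z := fun x => by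
    obtain ⟨g, hg⟩ := QuotientGroup.mk'_surjective (BB0 β) (x : CB β ⧸ BB0 β)
    refine ⟨g, hg, H.commute_lift ?_⟩
    rw [show toQt g = (x : CB β ⧸ BB0 β) from hg]
    exact Subgroup.mem_centralizer_singleton_iff.mp x.2
  choose L hL hLz using hlift
  have key : ∀ (g h : CB β) (hg : Commute (g : G) z) (hh : Commute (h : G) z), toQt g = toQt h →
      H.sigma (mkC hg) = H.sigma (mkC hh) := fun g h hg hh e => by
    obtain ⟨i, hi⟩ := toQt_eq_iff.mp e
    have : mkC hh = mkC hg * mkC (H.fx.comm.zpow_left i) := Subtype.ext hi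
    rw [this, H.sigma_mul (mem_CB.mp g.2) ((Commute.refl β).zpow_left i), H.sigma_zpow, mul_one]
  let χ : C →* A5 := MonoidHom.mk' (fun x => ⟨_, H.sigma_even (c := mkC (hLz x)) (mem_CB.mp (L x).2)⟩)
    (fun x y => Subtype.ext (by
      show H.sigma (mkC (hLz (x * y))) = H.sigma (mkC (hLz x)) * H.sigma (mkC (hLz y))
      rw [← H.sigma_mul (mem_CB.mp (L x).2) (mem_CB.mp (L y).2)]
      exact key _ (L x * L y) _ ((hLz x).mul_left (hLz y))
        ((hL (x * y)).trans (by rw [toQt, map_mul, ← toQt, ← toQt, hL, hL]; rfl))))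
  have hQle : H.Qbar ≤ C := by
    rintro _ ⟨q, hq, rfl⟩
    refine Subgroup.mem_centralizer_singleton_iff.mpr ?_
    show toQt (q * ⟨z, _⟩) = toQt (⟨z, _⟩ * q)
    exact congrArg toQt (Subtype.ext (B.comm_z (mem_fixQ.mp hq).1).eq)
  have hker : ∀ x : C, χ x = 1 ↔ (x : CB β ⧸ BB0 β) ∈ H.Qbar := fun x => by
    rw [Subtype.ext_iff]
    show H.sigma (mkC (hLz x)) = 1 ↔ _
    rw [H.sigma_one_iff (c := mkC (hLz x)) (mem_CB.mp (L x).2)]
    constructor
    · rintro ⟨i, hi⟩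
      refine ⟨⟨(L x : G) * β ^ i, mem_CB.mpr (mem_fixQ.mp hi).2.symm⟩, hi, ?_⟩
      rw [← hL x]
      exact (toQt_eq_iff.mpr ⟨i, rfl⟩).symm
    · rintro ⟨q, hq, e⟩
      obtain ⟨i, hi⟩ := toQt_eq_iff.mp (show toQt (L x) = toQt q by rw [hL]; exact e.symm)
      exact ⟨i, hi ▸ hq⟩
  have hzpow : ∀ a : G, a ∈ fixQ Q β → a ∈ Subgroup.zpowers β → a = 1 := fun a ha hb => by
    obtain ⟨i, rfl⟩ := Subgroup.mem_zpowers_iff.mp hb
    exact H.fx.zpow_mem_Q (mem_fixQ.mp ha).1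
  let ι : fixQ Q β →* CB β ⧸ BB0 β :=
    (QuotientGroup.mk' (BB0 β)).comp (MonoidHom.mk' (fun a => (⟨a, mem_CB.mpr (mem_fixQ.mp a.2).2.symm⟩ : CB β))
      fun _ _ => rfl)
  have hι : Function.Injective ι := (injective_iff_map_eq_one ι).mpr fun a ha => by
    have h := (QuotientGroup.eq_one_iff _).mp ha
    exact Subtype.ext (hzpow a a.2 (Subgroup.mem_subgroupOf.mp h))
  have hιr : ι.range = H.Qbar := by
    ext x
    constructor
    · rintro ⟨a, rfl⟩; exact ⟨_, a.2, rfl⟩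
    · rintro ⟨q, hq, rfl⟩; exact ⟨⟨q, hq⟩, rfl⟩
  let eι : fixQ Q β ≃* H.Qbar := (MonoidHom.ofInjective hι).trans (MulEquiv.subgroupCongr hιr)
  have hord : orderOf H.zbar = 2 := by
    have := Fact.mk Nat.prime_two
    refine orderOf_eq_prime ?_ fun e => B.z_ne ?_
    · rw [pow_two]
      show toQt (_ * _) = toQt 1
      exact congrArg toQt (Subtype.ext B.zz)
    · exact hzpow z H.fx.zmem (Subgroup.mem_subgroupOf.mp ((QuotientGroup.eq_one_iff _).mp e))
  refine ⟨χ, hord, hQle, fun a => ?_, hker, H36.HJ.isExtraspecial_congr eι H.fx.fixQ_extraspecial,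
    ?_, ⟨_, H.fx.zmem, rfl⟩, fun x hx hq => ?_, ?_⟩
  · obtain ⟨τ₀, hβ, h5, h1⟩ := H.exists_rep_beta
    obtain ⟨c, hc, hcb⟩ := H.exists_cent hβ (Equiv.Perm.mem_alternatingGroup.mp a.2)
    let cc : CB β := ⟨(c : G), mem_CB.mpr hcb⟩
    have hx : toQt cc ∈ C := Subgroup.mem_centralizer_singleton_iff.mpr (by
      show toQt (cc * ⟨z, _⟩) = toQt (⟨z, _⟩ * cc)
      exact congrArg toQt (Subtype.ext (coe_commute c).eq))
    refine ⟨⟨_, hx⟩, Subtype.ext ?_⟩
    show H.sigma (mkC (hLz _)) = a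
    rw [← H.sigma_eq hc]
    exact key _ cc _ (coe_commute c) (hL _)
  · rw [← Nat.card_congr eι.toEquiv, H.fx.card_parts.1]
  · have hxC : x ∈ C := Subgroup.mem_centralizer_singleton_iff.mpr hx
    refine (hker ⟨x, hxC⟩).mp (Subtype.ext ?_)
    set g := L ⟨x, hxC⟩
    have hgz : Commute (g : G) z := hLz ⟨x, hxC⟩
    have hgx : toQt g = x := hL ⟨x, hxC⟩
    have hgQ : ∀ a ∈ fixQ Q β, Commute (g : G) a := by
      intro a ha
      have hab := mem_CB.mpr (mem_fixQ.mp ha).2.symm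
      have h := hq (toQt ⟨a, hab⟩) ⟨⟨a, hab⟩, ha, rfl⟩
      rw [← hgx] at h
      obtain ⟨i, hi⟩ := toQt_eq_iff.mp (h.eq : toQt (g * ⟨a, hab⟩) = toQt (⟨a, hab⟩ * g))
      have hi' : a * (g : G) = g * a * β ^ i := hi
      have hm : (g : G)⁻¹ * a * g ∈ fixQ Q β := by
        have hc := H.fx.base.nor _ hgz.inv_left a (mem_fixQ.mp ha).1
        rw [inv_inv] at hc
        have hb := (mem_CB.mp g.2).symm
        exact mem_fixQ.mpr ⟨hc, ((hb.inv_right.mul_right (mem_fixQ.mp ha).2).mul_right hb)⟩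
      have e : β ^ i = a⁻¹ * ((g : G)⁻¹ * a * g) := by
        rw [show a⁻¹ * ((g : G)⁻¹ * a * g) = a⁻¹ * ((g : G)⁻¹ * (a * g)) by group, hi']; group
      have h1 : β ^ i = 1 := H.fx.zpow_mem_Q (e ▸ (mem_fixQ.mp (mul_mem (inv_mem ha) hm)).1)
      rw [h1, mul_one] at hi'
      exact hi'.symm
    show H.sigma (mkC hgz) = 1
    obtain ⟨σ, τ, h'⟩ := H.exists_rep_of_commute (c := mkC hgz) (mem_CB.mp g.2)
    rw [H.sigma_eq h']
    refine toO4_bijective.1 (Subtype.ext (LinearEquiv.ext fun u => ?_))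
    obtain ⟨a, ha, hau⟩ := H.exists_of_coord (u, 0)
    have hfx : a ∈ fixQ Q β := (H.mem_fix a ha).mpr (by rw [hau])
    have e := H.acts (mkC hgz) a ha
    rw [show ((mkC hgz : Subgroup.centralizer ({z} : Set G)) : G) = (g : G) from rfl,
      (hgQ a hfx).eq, mul_inv_cancel_right, h', hau, pair_apply] at e
    rw [map_one]
    exact (Prod.ext_iff.mp e).1.symm
  · obtain ⟨y, hy, hyv⟩ := H.exists_of_coord (sv 0, 0)
    have hyf : y ∈ fixQ Q β := (H.mem_fix y hy).mpr (by rw [hyv])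
    have hy0 : co y ≠ 0 := by
      rw [hyv]; exact fun h => (sv_singular 0).2 (Prod.ext_iff.mp h).1
    have hy2 : y * y = 1 := (H.crd.sq y hy).mpr (by
      rw [hyv]; show q4 (sv 0) + q4 0 = 0; rw [(sv_singular 0).1, q4_zero, add_zero])
    have hy1 : y ≠ 1 := fun e => hy0 (by rw [e, H.crd.one])
    have hyz : y ≠ z := fun e => hy0 (by rw [e, H.crd.coz])
    obtain ⟨g, hgb, hgy⟩ := H.exists_fusion hyf hy2 hy1 hyz
    let g' : CB β := ⟨g, mem_CB.mpr hgb⟩
    let y' : CB β := ⟨y, mem_CB.mpr (mem_fixQ.mp hyf).2.symm⟩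
    have e : toQt g' * H.zbar * (toQt g')⁻¹ = toQt y' := by
      show toQt (g' * ⟨z, _⟩ * g'⁻¹) = _
      exact congrArg toQt (Subtype.ext hgy)
    refine ⟨toQt g', e ▸ ⟨y', hyf, rfl⟩, fun h => ?_⟩
    rw [e] at h
    obtain ⟨i, hi⟩ := toQt_eq_iff.mp h
    have hi' : z = y * β ^ i := hi
    have hb : β ^ i = y⁻¹ * z := by rw [hi']; group
    have := H.fx.zpow_mem_Q (hb ▸ mul_mem (inv_mem hy) B.zmem)
    rw [this, mul_one] at hi'
    exact hyz hi'.symm

/-- Two classes of involutions. -/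
theorem exists_two (H : Frame z Q β co ρ) :
    ∃ χ : Subgroup.centralizer ({H.zbar} : Set (CB β ⧸ BB0 β)) →* A5,
      H36.HJ.Two H.zbar H.Qbar χ := by
  obtain ⟨χ, W⟩ := H.exists_hyp
  obtain ⟨u, h, x, c, K⟩ := W.exists_ctx
  refine ⟨χ, W, H.zbar, x * c, W.ord, ?_, fun hc => ?_⟩
  · have := Fact.mk Nat.prime_two
    exact orderOf_eq_prime (by rw [pow_two]; exact K.sq W) (K.ne_one W)
  obtain ⟨gb, hgb⟩ := isConj_iff.mp hc
  obtain ⟨g, rfl⟩ := QuotientGroup.mk'_surjective (BB0 β) gb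
  let t : CB β := g * ⟨z, mem_CB.mpr H.fx.comm.symm⟩ * g⁻¹
  have hxc : x * c = toQt t := hgb.symm
  have htz : Commute (t : G) z := H.commute_lift (hxc ▸ K.comm_z W)
  have htQ := H.no_out (g := (g : G)) (mem_CB.mp g.2) htz
  refine K.not_mem W (hxc ▸ ⟨t, mem_fixQ.mpr ⟨htQ, (mem_CB.mp t.2).symm⟩, rfl⟩)

end Frame

end H65.Conway
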