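import Cfsg.Agent.H65.Conway.Main

/-!
Groups of Conway type: the centraliser of a subgroup of order five with a fixed group of quaternion
times dihedral type, from the hypothesis as stated.
-/

set_option autoImplicit false

namespace H65.Conway

variable {G : Type*} [Group G] [Finite G]

/-- The conclusion, for the centraliser of an element. -/
theorem conclusion_of_frame {z β : G} {Q : Subgroup G} {co : G → V8}
    {ρ : Subgroup.centralizer ({z} : Set G) →* O8} (H : Frame z Q β co ρ) :
    ∀ S : Subgroup G, S = CB β →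
      Cfsg.Spor.IsoJ2 ↥(Cfsg.layer ↥S) ∧
        Nonempty (↥(Subgroup.centralizer (((Cfsg.layer ↥S).map S.subtype : Subgroup G) : Set G)) ≃*
          alternatingGroup (Fin 5)) := by
  rintro S rfl
  rw [H.layer_eq]
  exact ⟨H.split.2.2, H.centralizer_derived⟩

/-- The statement. -/
theorem centralizer_five_j2 (z : G) (hz : orderOf z = 2)
    (Q : Subgroup (Subgroup.centralizer ({z} : Set G))) [Q.Normal]
    (hF : Cfsg.generalizedFittingSubgroup (Subgroup.centralizer ({z} : Set G)) = Q)
    (hQ : Cfsg.IsExtraspecial 2 Q) (hcard : Nat.card Q = 2 ^ 9)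
    (e : (Subgroup.centralizer ({z} : Set G)) ⧸ Q ≃* Cfsg.Omega (ZMod 2) (Cfsg.quadFormPlus 4 (ZMod 2)))
    (hnwc : ∃ g : G, (∃ hq : g * z * g⁻¹ ∈ Subgroup.centralizer ({z} : Set G),
      (⟨g * z * g⁻¹, hq⟩ : Subgroup.centralizer ({z} : Set G)) ∈ Q) ∧ g * z * g⁻¹ ≠ z)
    (B : Subgroup (Subgroup.centralizer ({z} : Set G))) (hB : Nat.card B = 5)
    (hCQcard : Nat.card ↥(Q ⊓ Subgroup.centralizer (B : Set (Subgroup.centralizer ({z} : Set G)))) = 32)
    (hminus : ∀ A : Subgroup (Subgroup.centralizer ({z} : Set G)),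
      A ≤ Q ⊓ Subgroup.centralizer (B : Set (Subgroup.centralizer ({z} : Set G))) →
        Cfsg.IsElementaryAbelian 2 A → Nat.card A ≤ 4) :
    Cfsg.Spor.IsoJ2 ↥(Cfsg.layer
        ↥(Subgroup.centralizer ((B.map (Subgroup.subtype (Subgroup.centralizer ({z} : Set G)))) : Set G))) ∧
      Nonempty (↥(Subgroup.centralizer (((Cfsg.layer ↥(Subgroup.centralizer
        ((B.map (Subgroup.subtype (Subgroup.centralizer ({z} : Set G)))) : Set G))).map
          (Subgroup.subtype _)) : Set G)) ≃* alternatingGroup (Fin 5)) := by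
  classical
  have := Fact.mk (show Nat.Prime 5 by norm_num)
  have hbase := base_of_statement z hz Q hF hQ hcard e hnwc
  obtain ⟨b, hb⟩ := exists_prime_orderOf_dvd_card' (G := B) 5 (by rw [hB])
  set bC : Subgroup.centralizer ({z} : Set G) := (b : Subgroup.centralizer ({z} : Set G)) with hbC
  set β : G := (bC : G) with hβ
  have hbo : orderOf bC = 5 := by rw [hbC, Subgroup.orderOf_coe, hb]
  have hBz : Subgroup.zpowers bC = B := by
    refine Subgroup.eq_of_le_of_card_ge (Subgroup.zpowers_le.mpr b.2) ?_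
    rw [hB, Nat.card_zpowers, hbo]
  have hBmem : ∀ c : Subgroup.centralizer ({z} : Set G),
      c ∈ Subgroup.centralizer (B : Set (Subgroup.centralizer ({z} : Set G))) ↔ Commute β (c : G) := by
    intro c
    rw [← hBz, Subgroup.mem_centralizer_iff]
    refine ⟨fun h => congrArg Subtype.val (h bC (Subgroup.mem_zpowers _)), fun h w hw => ?_⟩
    obtain ⟨i, rfl⟩ := Subgroup.mem_zpowers_iff.mp hw
    refine Subtype.ext ?_
    show ((bC ^ i : Subgroup.centralizer ({z} : Set G)) : G) * c = c * _
    rw [SubgroupClass.coe_zpow]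
    exact (h.zpow_left i).eq
  set Q0 := Q.map (Subgroup.centralizer ({z} : Set G)).subtype with hQ0
  have hzmem : z ∈ Q0 := hbase.zmem
  have hβo : orderOf β = 5 := by rw [hβ, Subgroup.orderOf_coe, hbo]
  have hfx : ∀ c : Subgroup.centralizer ({z} : Set G),
      c ∈ Q ⊓ Subgroup.centralizer (B : Set (Subgroup.centralizer ({z} : Set G))) ↔
        (c : G) ∈ fixQ Q0 β := fun c => by
    rw [Subgroup.mem_inf, hBmem, mem_fixQ, hQ0,
      show (c : G) = (Subgroup.centralizer ({z} : Set G)).subtype c from rfl,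
      Subgroup.mem_map_iff_mem (Subgroup.subtype_injective _)]
  have hF' : Fix z Q0 β := by
    refine ⟨hbase, coe_commute bC, by rw [← hβo, pow_orderOf_eq_one], fun e => ?_, ?_⟩
    · rw [e, orderOf_one] at hβo; omega
    · by_contra hn
      push Not at hn
      have hsub : ∀ c ∈ Q ⊓ Subgroup.centralizer (B : Set (Subgroup.centralizer ({z} : Set G))),
          (c : G) = 1 ∨ (c : G) = z := fun c hc => by
        obtain ⟨h1, h2⟩ := mem_fixQ.mp ((hfx c).mp hc)
        by_contra hh
        rw [not_or] at hh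
        exact hn _ h1 hh.1 hh.2 h2
      let f : ↥(Q ⊓ Subgroup.centralizer (B : Set (Subgroup.centralizer ({z} : Set G)))) → Bool :=
        fun c => decide (((c : Subgroup.centralizer ({z} : Set G)) : G) = z)
      have hf : Function.Injective f := fun a a' h => by
        refine Subtype.ext (Subtype.ext ?_)
        rcases hsub a a.2 with ea | ea <;> rcases hsub a' a'.2 with ea' | ea' <;>
          simp [f, ea, ea', hbase.z_ne, hbase.z_ne.symm] at h ⊢
      have := Nat.card_le_card_of_injective f hf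
      rw [hCQcard, Nat.card_eq_fintype_card, Fintype.card_bool] at this
      omega
  obtain ⟨co, ρ, H⟩ := exists_frame hF' (Or.inr fun A hA hel => by
    have hAC : A ≤ Subgroup.centralizer ({z} : Set G) := fun a ha =>
      Subgroup.mem_centralizer_singleton_iff.mpr (hbase.comm_z (mem_fixQ.mp (hA ha)).1)
    have hel' : Cfsg.IsElementaryAbelian 2 (A.subgroupOf (Subgroup.centralizer ({z} : Set G))) :=
      ⟨⟨⟨fun a a' => Subtype.ext (Subtype.ext (by
          show ((a : Subgroup.centralizer ({z} : Set G)) : G) * (a' : Subgroup.centralizer ({z} : Set G)) =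
            ((a' : Subgroup.centralizer ({z} : Set G)) : G) * (a : Subgroup.centralizer ({z} : Set G))
          have := hel.1.1.1 ⟨_, Subgroup.mem_subgroupOf.mp a.2⟩ ⟨_, Subgroup.mem_subgroupOf.mp a'.2⟩
          exact congrArg Subtype.val this))⟩⟩,
        fun a ha => Subtype.ext (by
          rw [SubgroupClass.coe_pow]
          exact hel.2 _ (Subgroup.mem_subgroupOf.mp ha))⟩
    have := hminus _ (fun c hc => (hfx c).mpr (hA (Subgroup.mem_subgroupOf.mp hc))) hel'
    rwa [Nat.card_congr (Subgroup.subgroupOfEquivOfLe hAC).toEquiv] at this)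
  refine conclusion_of_frame H _ ?_
  ext g
  rw [mem_CB, Subgroup.mem_centralizer_iff]
  refine ⟨fun h => (h β ⟨bC, b.2, rfl⟩).symm, ?_⟩
  rintro h _ ⟨w, hw, rfl⟩
  rw [SetLike.mem_coe, ← hBz] at hw
  obtain ⟨i, rfl⟩ := Subgroup.mem_zpowers_iff.mp hw
  show ((bC ^ i : Subgroup.centralizer ({z} : Set G)) : G) * g = g * _
  rw [SubgroupClass.coe_zpow]
  exact (h.zpow_right i).eq.symm

end H65.Conway
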